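import Mathlib
import Cfsg.Prelude.Def_Characters
import Cfsg.Agent.Lib.Helper2.CharInner

set_option autoImplicit false

namespace Cfsg.Agent.Lib.Helper2

open Module Representation
open scoped ComplexConjugate

universe u v w
variable {G : Type u} [Group G]

theorem isCompl_toSubmodule {V : Type v} [AddCommGroup V] [Module ℂ V] {ρ : Representation ℂ G V}
    {A A' : Subrepresentation ρ} (h : IsCompl A A') : IsCompl A.toSubmodule A'.toSubmodule := by
  constructor
  · rw [disjoint_iff, ← Subrepresentation.toSubmodule_inf, h.inf_eq_bot]; rfl
  · rw [codisjoint_iff, ← Subrepresentation.toSubmodule_sup, h.sup_eq_top]; rfl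

noncomputable def subrepProdEquiv {V : Type v} [AddCommGroup V] [Module ℂ V]
    (ρ : Representation ℂ G V) (A A' : Subrepresentation ρ) (h : IsCompl A A') :
    (A.toRepresentation.prod A'.toRepresentation).Equiv ρ :=
  Representation.Equiv.mk (Submodule.prodEquivOfIsCompl _ _ (isCompl_toSubmodule h)) (fun g => by
    apply LinearMap.ext
    rintro ⟨a, b⟩
    simp [Subrepresentation.toRepresentation])

noncomputable def prodCongrEquiv {V₁ V₂ : Type v} {W₁ W₂ : Type w} [AddCommGroup V₁] [Module ℂ V₁]
    [AddCommGroup V₂] [Module ℂ V₂] [AddCommGroup W₁] [Module ℂ W₁] [AddCommGroup W₂] [Module ℂ W₂]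
    {ρ₁ : Representation ℂ G V₁} {ρ₂ : Representation ℂ G V₂} {σ₁ : Representation ℂ G W₁}
    {σ₂ : Representation ℂ G W₂} (φ : ρ₁.Equiv σ₁) (ψ : ρ₂.Equiv σ₂) :
    (ρ₁.prod ρ₂).Equiv (σ₁.prod σ₂) :=
  Representation.Equiv.mk (φ.toLinearEquiv.prodCongr ψ.toLinearEquiv) (fun g => by
    apply LinearMap.ext
    rintro ⟨a, b⟩
    have h1 := IntertwiningMap.isIntertwining _ _ φ.toIntertwiningMap g a
    have h2 := IntertwiningMap.isIntertwining _ _ ψ.toIntertwiningMap g b
    simp only [LinearMap.coe_comp, LinearEquiv.coe_coe, Function.comp_apply, prod_apply_apply,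
      LinearEquiv.prodCongr_apply, LinearMap.prodMap_apply]
    exact Prod.ext h1 h2)

noncomputable def equivRange {V : Type v} {W : Type w} [AddCommGroup V] [Module ℂ V]
    [AddCommGroup W] [Module ℂ W] {τ : Representation ℂ G V} {σ : Representation ℂ G W}
    (f : IntertwiningMap τ σ) (hf : Function.Injective f) : τ.Equiv f.range.toRepresentation :=
  Representation.Equiv.mk (LinearEquiv.ofInjective f.toLinearMap hf) (fun g => by
    apply LinearMap.ext
    intro v
    apply Subtype.ext
    exact IntertwiningMap.isIntertwining _ _ f g v)

theorem equiv_of_char_eq_aux [Finite G] : ∀ (n : ℕ) (V : Type v) (W : Type w) [AddCommGroup V]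
    [Module ℂ V] [FiniteDimensional ℂ V] [AddCommGroup W] [Module ℂ W] [FiniteDimensional ℂ W]
    (ρ : Representation ℂ G V) (σ : Representation ℂ G W), finrank ℂ V = n →
    ρ.character = σ.character → Nonempty (ρ.Equiv σ) := by
  intro n
  induction n using Nat.strong_induction_on with
  | _ n ih =>
    intro V W _ _ _ _ _ _ ρ σ hn hchar
    cases nonempty_fintype G
    have : NeZero (Nat.card G : ℂ) := ⟨card_ne_zero'⟩
    have hdim : finrank ℂ V = finrank ℂ W := by
      have := congrFun hchar 1
      rw [char_one, char_one] at this
      exact_mod_cast this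
    rcases Nat.eq_zero_or_pos n with h0 | hpos
    · have hV : Subsingleton V := Module.finrank_zero_iff.1 (hn.trans h0)
      have hW : Subsingleton W := Module.finrank_zero_iff.1 (hdim.symm.trans (hn.trans h0))
      exact ⟨Representation.Equiv.mk (LinearEquiv.ofFinrankEq V W hdim)
        (fun g => LinearMap.ext fun v => Subsingleton.elim _ _)⟩
    · have : Nontrivial V := Module.nontrivial_of_finrank_pos (R := ℂ) (hn ▸ hpos)
      obtain ⟨A, hA⟩ := exists_isAtom_subrep ρ
      obtain ⟨A', hA'⟩ := exists_isCompl A
      have hirr := isIrreducible_of_isAtom ρ A hA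
      have hρ := char_eq_add_of_isCompl ρ A A' hA'
      -- nonzero intertwiner from A to σ
      have hinner : Cfsg.classInner σ.character A.toRepresentation.character ≠ 0 := by
        rw [← hchar, hρ, classInner_add_left, irr_norm_one (isIrrCharacter_character _),
          classInner_char]
        have : (1 : ℂ) + (finrank ℂ (IntertwiningMap A.toRepresentation A'.toRepresentation) : ℂ) =
            ((1 + finrank ℂ (IntertwiningMap A.toRepresentation A'.toRepresentation) : ℕ) : ℂ) := by
          push_cast; rfl
        rw [this]
        exact_mod_cast (by omega)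
      rw [classInner_char] at hinner
      have hpos2 : 0 < finrank ℂ (IntertwiningMap A.toRepresentation σ) := by
        have : finrank ℂ (IntertwiningMap A.toRepresentation σ) ≠ 0 := by exact_mod_cast hinner
        omega
      obtain ⟨f, hf⟩ := (Module.finrank_pos_iff_exists_ne_zero (R := ℂ)).1 hpos2
      have hinj : Function.Injective f := (IsIrreducible.injective_or_eq_zero f).resolve_right hf
      obtain ⟨B', hB'⟩ := exists_isCompl f.range
      have hσ := char_eq_add_of_isCompl σ f.range B' hB'
      have e1 := equivRange f hinj
      have hAB : A.toRepresentation.character = f.range.toRepresentation.character := char_iso e1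
      have hrest : A'.toRepresentation.character = B'.toRepresentation.character := by
        have h1 : A.toRepresentation.character + A'.toRepresentation.character =
            f.range.toRepresentation.character + B'.toRepresentation.character := by
          rw [← hρ, ← hσ, hchar]
        rw [hAB] at h1
        exact add_left_cancel h1
      have hAdim := Submodule.finrank_add_eq_of_isCompl (isCompl_toSubmodule hA')
      have hApos : 0 < finrank ℂ A.toSubmodule := finrank_pos_of_irr A.toRepresentation
      obtain ⟨e2⟩ := ih (finrank ℂ A'.toSubmodule) (by omega) A'.toSubmodule B'.toSubmodule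
        A'.toRepresentation B'.toRepresentation rfl hrest
      exact ⟨(subrepProdEquiv ρ A A' hA').symm.trans ((prodCongrEquiv e1 e2).trans
        (subrepProdEquiv σ f.range B' hB'))⟩

theorem equiv_of_char_eq [Finite G] {V : Type v} {W : Type w} [AddCommGroup V]
    [Module ℂ V] [FiniteDimensional ℂ V] [AddCommGroup W] [Module ℂ W] [FiniteDimensional ℂ W]
    (ρ : Representation ℂ G V) (σ : Representation ℂ G W) (h : ρ.character = σ.character) :
    Nonempty (ρ.Equiv σ) :=
  equiv_of_char_eq_aux _ V W ρ σ rfl h

end Cfsg.Agent.Lib.Helper2
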