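import Mathlib
import Cfsg.Prelude.Def_Characters
import Cfsg.Agent.Lib.Helper2.CharInt
import Cfsg.Agent.Lib.Helper2.CharMore

set_option autoImplicit false

namespace Cfsg.Agent.Lib.Helper2

open Module Representation
open scoped ComplexConjugate

universe u v
variable {G : Type u} [Group G]

theorem IsIrrCharacter.exists_degree [Finite G] {χ : G → ℂ} (h : Cfsg.IsIrrCharacter G χ) :
    ∃ d : ℕ, 0 < d ∧ χ 1 = d ∧ d ∣ Nat.card G := by
  obtain ⟨n, ρ, hρ, rfl⟩ := h
  exact ⟨_, finrank_pos_of_irr ρ, char_one ρ, finrank_dvd_card ρ⟩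

theorem sum_smul_rep [Fintype G] {V : Type v} [AddCommGroup V] [Module ℂ V]
    [FiniteDimensional ℂ V] (ρ : Representation ℂ G V) [ρ.IsIrreducible] (a : G → ℂ)
    (ha : Cfsg.IsClassFunction G a) :
    ∑ g : G, a g • ρ g = ((∑ g, a g * ρ.character g) / (finrank ℂ V : ℂ)) • LinearMap.id := by
  have hT : ∀ h, (∑ g : G, a g • ρ g) ∘ₗ ρ h = ρ h ∘ₗ (∑ g : G, a g • ρ g) := by
    intro h
    rw [← Module.End.mul_eq_comp, ← Module.End.mul_eq_comp, Finset.sum_mul, Finset.mul_sum]
    rw [← Equiv.sum_comp (MulAut.conj h).toEquiv]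
    refine Finset.sum_congr rfl fun x _ => ?_
    simp only [MulEquiv.toEquiv_eq_coe, EquivLike.coe_coe, MulAut.conj_apply, ha x h,
      smul_mul_assoc, mul_smul_comm, ← map_mul]
    congr 2
    group
  have h1 := schur_trace ρ _ hT
  have h2 : LinearMap.trace ℂ V (∑ g : G, a g • ρ g) = ∑ g, a g * ρ.character g := by
    simp [map_sum, Representation.character]
  rw [h2] at h1
  exact h1

theorem sum_char_mul_conj [Fintype G] {χ : G → ℂ} (hχ : Cfsg.IsIrrCharacter G χ) :
    ∑ g, χ g * conj (χ g) = (Nat.card G : ℂ) := by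
  have := irr_norm_one hχ
  rw [classInner_def] at this
  have hne := card_ne_zero' (G := G)
  field_simp at this
  exact this

/-- Convolution identity for an irreducible character. -/
theorem sum_char_mul_char_inv_mul [Fintype G] {χ : G → ℂ} (hχ : Cfsg.IsIrrCharacter G χ) (h : G) :
    ∑ b : G, χ b * χ (b⁻¹ * h) = (Nat.card G : ℂ) * χ h / χ 1 := by
  have hnorm := sum_char_mul_conj hχ
  have hc := IsIrrCharacter.isCharacter hχ
  obtain ⟨n, ρ, hρ, rfl⟩ := hχ
  have h1 := sum_smul_rep ρ (fun g => ρ.character g⁻¹) (fun g x => by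
    have : (x * g * x⁻¹)⁻¹ = x * g⁻¹ * x⁻¹ := by group
    simp only [this, char_conj])
  have h2 : ∑ g, ρ.character g⁻¹ * ρ.character g = (Nat.card G : ℂ) := by
    rw [← hnorm]
    refine Finset.sum_congr rfl fun g _ => ?_
    rw [IsCharacter.conj_eq_inv hc, mul_comm]
  rw [h2] at h1
  have h3 := congrArg (fun T => LinearMap.trace ℂ _ (T * ρ h)) h1
  simp only [Finset.sum_mul, map_sum, smul_mul_assoc, map_smul, ← map_mul, smul_eq_mul] at h3
  rw [← Equiv.sum_comp (Equiv.inv G)]
  simp only [Equiv.inv_apply, inv_inv]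
  rw [char_one]
  calc ∑ b : G, ρ.character b⁻¹ * ρ.character (b * h) = _ := h3
    _ = _ := by
      have : (LinearMap.id : (Fin n → ℂ) →ₗ[ℂ] (Fin n → ℂ)) * ρ h = ρ h := one_mul _
      rw [this]
      simp only [Representation.character]
      ring

theorem char_eq_one_of_forall_eq_one [Finite G] {V : Type v} [AddCommGroup V] [Module ℂ V]
    [FiniteDimensional ℂ V] (ρ : Representation ℂ G V) [ρ.IsIrreducible] (hall : ∀ x, ρ x = 1) :
    ρ.character = fun _ => 1 := by
  cases nonempty_fintype G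
  have hchar : ∀ x, ρ.character x = (finrank ℂ V : ℂ) := by
    intro x
    rw [Representation.character, hall, LinearMap.trace_one]
  have hnorm := irr_norm_one (isIrrCharacter_character ρ)
  rw [classInner_def] at hnorm
  simp only [hchar, map_natCast, Finset.sum_const, Finset.card_univ, nsmul_eq_mul] at hnorm
  rw [← Nat.card_eq_fintype_card, ← mul_assoc, inv_mul_cancel₀ card_ne_zero', one_mul] at hnorm
  have hn1 : finrank ℂ V * finrank ℂ V = 1 := by exact_mod_cast hnorm
  have hn : finrank ℂ V = 1 := Nat.eq_one_of_mul_eq_one_right hn1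
  ext x
  rw [hchar, hn]; simp

end Cfsg.Agent.Lib.Helper2
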