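import Mathlib
import Cfsg.Prelude.Def_Characters
import Cfsg.Agent.Lib.Helper2.CharInt
import Cfsg.Agent.Lib.Helper2.CharMore

set_option autoImplicit false

namespace Cfsg.Agent.Lib.Helper2

open Module Representation
open scoped ComplexConjugate

universe u v
variable {G : Type u} [Group G]

theorem card_centralizer_conj [Finite G] (g h : G) :
    Nat.card (Subgroup.centralizer ({h * g * h⁻¹} : Set G)) =
      Nat.card (Subgroup.centralizer ({g} : Set G)) := by
  rw [← card_conj_eq (h * g * h⁻¹) (h * g * h⁻¹) (IsConj.refl _), ← card_conj_eq g g (IsConj.refl _)]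
  refine Nat.card_congr ⟨fun x => ⟨h⁻¹ * x.1 * h, ?_⟩, fun y => ⟨h * y.1 * h⁻¹, ?_⟩, ?_, ?_⟩
  · have := x.2
    calc h⁻¹ * x.1 * h * g * (h⁻¹ * x.1 * h)⁻¹ = h⁻¹ * (x.1 * (h * g * h⁻¹) * x.1⁻¹) * h := by group
      _ = g := by rw [this]; group
  · have := y.2
    calc h * y.1 * h⁻¹ * (h * g * h⁻¹) * (h * y.1 * h⁻¹)⁻¹ = h * (y.1 * g * y.1⁻¹) * h⁻¹ := by group
      _ = h * g * h⁻¹ := by rw [this]
  · intro x; ext; simp [mul_assoc]
  · intro y; ext; simp [mul_assoc]

/-- Summing a function of the conjugacy class weighted by centralizer orders. -/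
theorem sum_mul_card_centralizer [Fintype G] (f : ConjClasses G → ℂ) :
    ∑ g : G, f (ConjClasses.mk g) * (Nat.card (Subgroup.centralizer ({g} : Set G)) : ℂ) =
      (Nat.card G : ℂ) * ∑ᶠ K : ConjClasses G, f K := by
  classical
  rw [finsum_eq_sum_of_fintype, Finset.mul_sum,
    ← Finset.sum_fiberwise Finset.univ (ConjClasses.mk : G → ConjClasses G)]
  refine Finset.sum_congr rfl fun K _ => ?_
  obtain ⟨g0, rfl⟩ := ConjClasses.mk_surjective K
  have h1 := sum_indicator_isConj g0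
    (fun g => (Nat.card (Subgroup.centralizer ({g} : Set G)) : ℂ))
    (fun g h => by simp only [card_centralizer_conj])
  rw [Finset.sum_filter]
  have h2 : ∀ g : G, (if ConjClasses.mk g = ConjClasses.mk g0 then
      f (ConjClasses.mk g) * (Nat.card (Subgroup.centralizer ({g} : Set G)) : ℂ) else 0) =
      f (ConjClasses.mk g0) * ((if IsConj g0 g then (1 : ℂ) else 0) *
        (Nat.card (Subgroup.centralizer ({g} : Set G)) : ℂ)) := by
    intro g
    by_cases h : IsConj g0 g
    · rw [if_pos h, if_pos (ConjClasses.mk_eq_mk_iff_isConj.2 h.symm),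
        ConjClasses.mk_eq_mk_iff_isConj.2 h.symm, one_mul]
    · rw [if_neg h, if_neg (fun h' => h (ConjClasses.mk_eq_mk_iff_isConj.1 h').symm)]
      simp
  rw [Finset.sum_congr rfl fun g _ => h2 g, ← Finset.mul_sum]
  have h3 : (∑ g : G, (if IsConj g0 g then (1 : ℂ) else 0) *
      (Nat.card (Subgroup.centralizer ({g} : Set G)) : ℂ)) = (Nat.card G : ℂ) := by
    have : (∑ g : G, (if IsConj g0 g then (1 : ℂ) else 0) *
      (Nat.card (Subgroup.centralizer ({g} : Set G)) : ℂ)) = _ := h1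
    rw [this, ← (Subgroup.centralizer ({g0} : Set G)).card_mul_index]
    push_cast; ring
  rw [h3, mul_comm]

/-- Brauer's permutation lemma, general form. -/
theorem card_fixed_irr [Finite G] (β : G → G)
    (hβ : ∀ χ, Cfsg.IsIrrCharacter G χ → Cfsg.IsIrrCharacter G (χ ∘ β))
    (P : ConjClasses G → Prop) (hP : ∀ g, P (ConjClasses.mk g) ↔ IsConj g (β g)) :
    Nat.card {χ : Cfsg.IrrCharacter G // (χ : G → ℂ) ∘ β = (χ : G → ℂ)} =
      Nat.card {K : ConjClasses G // P K} := by
  classical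
  cases nonempty_fintype G
  have := finite_irrCharacter (G := G)
  cases nonempty_fintype (Cfsg.IrrCharacter G)
  have h1 : (Nat.card {χ : Cfsg.IrrCharacter G // (χ : G → ℂ) ∘ β = (χ : G → ℂ)} : ℂ) =
      ∑ χ : Cfsg.IrrCharacter G, Cfsg.classInner (χ : G → ℂ) ((χ : G → ℂ) ∘ β) := by
    rw [Nat.card_eq_fintype_card, Fintype.card_subtype, ← Finset.sum_boole]
    refine Finset.sum_congr rfl fun χ _ => ?_
    rw [irr_orthonormal χ.2 (hβ χ χ.2)]
    by_cases h : (χ : G → ℂ) ∘ β = (χ : G → ℂ)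
    · rw [if_pos h, if_pos h.symm]
    · rw [if_neg h, if_neg (fun h' => h h'.symm)]
  have h2 : (Nat.card G : ℂ) *
      ∑ χ : Cfsg.IrrCharacter G, Cfsg.classInner (χ : G → ℂ) ((χ : G → ℂ) ∘ β) =
      ∑ g : G, (Nat.card {x : G // x * g * x⁻¹ = β g} : ℂ) := by
    simp only [classInner_def, Function.comp_apply]
    rw [← Finset.mul_sum, ← mul_assoc, mul_inv_cancel₀ card_ne_zero', one_mul, Finset.sum_comm]
    exact Finset.sum_congr rfl fun g _ => column_orthogonality g (β g)
  have h3 : ∀ g : G, (Nat.card {x : G // x * g * x⁻¹ = β g} : ℂ) =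
      (if P (ConjClasses.mk g) then (1 : ℂ) else 0) *
        (Nat.card (Subgroup.centralizer ({g} : Set G)) : ℂ) := by
    intro g
    by_cases h : IsConj g (β g)
    · rw [if_pos ((hP g).2 h), card_conj_eq g _ h, one_mul]
    · rw [if_neg (fun h' => h ((hP g).1 h')), card_conj_eq_zero g _ h]; simp
  rw [Finset.sum_congr rfl fun g _ => h3 g,
    sum_mul_card_centralizer (fun K => if P K then (1 : ℂ) else 0), finsum_eq_sum_of_fintype,
    Finset.sum_boole, ← h1] at h2
  have h4 := mul_left_cancel₀ card_ne_zero' h2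
  rw [Nat.card_eq_fintype_card (α := {K : ConjClasses G // P K}), Fintype.card_subtype]
  exact_mod_cast h4

theorem IsIrrCharacter.comp_inv [Finite G] {χ : G → ℂ} (h : Cfsg.IsIrrCharacter G χ) :
    Cfsg.IsIrrCharacter G (χ ∘ fun g => g⁻¹) := by
  cases nonempty_fintype G
  have := IsIrrCharacter.conj h
  convert this using 1
  ext g
  exact (IsCharacter.conj_eq_inv (IsIrrCharacter.isCharacter h) g).symm

theorem real_iff_comp_inv [Finite G] {χ : G → ℂ} (h : Cfsg.IsCharacter G χ) :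
    (∀ g : G, (χ g).im = 0) ↔ χ ∘ (fun g => g⁻¹) = χ := by
  constructor
  · intro hr
    ext g
    rw [Function.comp_apply, ← IsCharacter.conj_eq_inv h]
    exact Complex.conj_eq_iff_im.2 (hr g)
  · intro hr g
    have := congrFun hr g
    rw [Function.comp_apply, ← IsCharacter.conj_eq_inv h] at this
    exact Complex.conj_eq_iff_im.1 this

theorem card_real_irr [Finite G] :
    Nat.card {χ : Cfsg.IrrCharacter G // ∀ g : G, ((χ : G → ℂ) g).im = 0} =
      Nat.card {C : ConjClasses G // ∀ g : G, ConjClasses.mk g = C → IsConj g g⁻¹} := by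
  rw [← card_fixed_irr (fun g => g⁻¹) (fun χ hχ => IsIrrCharacter.comp_inv hχ)
    (fun C => ∀ g : G, ConjClasses.mk g = C → IsConj g g⁻¹)]
  · refine Nat.card_congr (Equiv.subtypeEquivRight fun χ => ?_)
    exact real_iff_comp_inv (IsIrrCharacter.isCharacter χ.2)
  · intro g
    constructor
    · intro h; exact h g rfl
    · intro h x hx
      have hxg : IsConj x g := ConjClasses.mk_eq_mk_iff_isConj.1 hx
      have hinv : IsConj g⁻¹ x⁻¹ := by
        obtain ⟨c, hc⟩ := isConj_iff.1 hxg.symm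
        exact isConj_iff.2 ⟨c, by rw [← hc]; group⟩
      exact hxg.trans (h.trans hinv)

theorem eq_one_of_isConj_inv_of_odd [Finite G] (hodd : Odd (Nat.card G)) {g : G}
    (h : IsConj g g⁻¹) : g = 1 := by
  obtain ⟨x, hx⟩ := isConj_iff.1 h
  -- x^2 commutes with g
  have hpow : ∀ k : ℕ, x ^ (2 * k) * g * (x ^ (2 * k))⁻¹ = g := by
    intro k
    induction k with
    | zero => simp
    | succ k ih =>
      have : x ^ (2 * (k + 1)) = x * x * x ^ (2 * k) := by
        rw [show 2 * (k + 1) = 2 + 2 * k by ring, pow_add, pow_two]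
      rw [this]
      calc x * x * x ^ (2 * k) * g * (x * x * x ^ (2 * k))⁻¹
          = x * (x * (x ^ (2 * k) * g * (x ^ (2 * k))⁻¹) * x⁻¹) * x⁻¹ := by group
        _ = x * (x * g * x⁻¹) * x⁻¹ := by rw [ih]
        _ = x * g⁻¹ * x⁻¹ := by rw [hx]
        _ = (x * g * x⁻¹)⁻¹ := by group
        _ = g := by rw [hx, inv_inv]
  obtain ⟨m, hm⟩ := hodd
  have hx1 : x ^ (2 * (m + 1)) = x := by
    have : x ^ (2 * m + 1) = 1 := by rw [← hm]; exact pow_card_eq_one'
    rw [show 2 * (m + 1) = (2 * m + 1) + 1 by ring, pow_succ, this, one_mul]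
  have h2 := hpow (m + 1)
  rw [hx1, hx] at h2
  -- g⁻¹ = g
  have h3 : g ^ 2 = 1 := by
    rw [pow_two]
    nth_rewrite 1 [← h2]
    simp
  have h4 : orderOf g ∣ 2 := orderOf_dvd_of_pow_eq_one h3
  have h5 : orderOf g ∣ 2 * m + 1 := by rw [← hm]; exact orderOf_dvd_natCard g
  have h6 : orderOf g ∣ 1 := by
    have := (Nat.dvd_add_right (Dvd.dvd.mul_right h4 m)).1 h5
    exact this
  exact orderOf_eq_one_iff.1 (Nat.dvd_one.1 h6)

theorem eq_one_of_real_of_odd [Finite G] (hodd : Odd (Nat.card G)) (χ : Cfsg.IrrCharacter G)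
    (hreal : ∀ g : G, ((χ : G → ℂ) g).im = 0) : (χ : G → ℂ) = fun _ => 1 := by
  cases nonempty_fintype G
  have hcard := card_real_irr (G := G)
  have h1 : Nat.card {C : ConjClasses G // ∀ g : G, ConjClasses.mk g = C → IsConj g g⁻¹} ≤ 1 := by
    rw [Finite.card_le_one_iff_subsingleton]
    constructor
    rintro ⟨C, hC⟩ ⟨D, hD⟩
    obtain ⟨c, rfl⟩ := ConjClasses.mk_surjective C
    obtain ⟨d, rfl⟩ := ConjClasses.mk_surjective D
    have hc := eq_one_of_isConj_inv_of_odd hodd (hC c rfl)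
    have hd := eq_one_of_isConj_inv_of_odd hodd (hD d rfl)
    subst hc; subst hd; rfl
  rw [← hcard] at h1
  have := finite_irrCharacter (G := G)
  rw [Finite.card_le_one_iff_subsingleton] at h1
  let triv : Cfsg.IrrCharacter G := ⟨fun _ => 1, IsIrrCharacter.one⟩
  have h2 := h1.elim (⟨χ, hreal⟩ : {χ : Cfsg.IrrCharacter G // ∀ g : G, ((χ : G → ℂ) g).im = 0})
    ⟨triv, fun g => by simp [triv]⟩
  have h3 := congrArg (fun z => (z.1 : G → ℂ)) h2
  exact h3

end Cfsg.Agent.Lib.Helper2
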