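import Cfsg.Agent.S0947
import Cfsg.Agent.Lib.Helper7.BlockKer
import Cfsg.Agent.Lib.Helper2.CharInd

set_option autoImplicit false
set_option linter.style.haveILetI false
set_option linter.unusedSectionVars false
open Cfsg
open scoped ComplexConjugate

namespace Cfsg.Agent.Lib.Helper2

universe u
variable {G : Type u} [Group G] [Finite G] {p : ℕ} {M : Ideal AlgInt}

/-- The principal block as a `Finset`. -/
noncomputable def pbF (M : Ideal AlgInt) (G : Type u) [Group G] [Finite G] :
    Finset (IrrCharacter G) :=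
  (Set.toFinite (principalBlock M G)).toFinset

theorem mem_pbF {χ : IrrCharacter G} : χ ∈ pbF M G ↔ χ ∈ principalBlock M G := by
  simp [pbF]

theorem finsum_pb {A : Type*} [AddCommMonoid A] (f : IrrCharacter G → A) :
    ∑ᶠ χ ∈ principalBlock M G, f χ = ∑ χ ∈ pbF M G, f χ :=
  finsum_mem_eq_finite_toFinset_sum _ _

theorem sum_pbF_eq_indicator [Fintype (IrrCharacter G)] (f : IrrCharacter G → ℂ) :
    ∑ χ ∈ pbF M G, f χ = ∑ χ, (principalBlock M G).indicator f χ := by
  rw [← finsum_pb, Helper7.finsum_mem_eq_sum_indicator]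

/-- Block orthogonality for the principal block. -/
theorem pb_orth (hM : IsPModular p M) {g h x y : G} (hx : IsPPart p g x)
    (hy : IsPPart p h y) (hxy : ¬ IsConj x y) :
    ∑ χ ∈ pbF M G, (χ : G → ℂ) g * conj ((χ : G → ℂ) h) = 0 := by
  have := Helper7.block_orthogonality hM (Helper24.isPBlock_principalBlock (M := M) (G := G))
    hx hy hxy
  rw [finsum_pb] at this
  rw [← this]
  refine Finset.sum_congr rfl fun χ _ => ?_
  rw [Helper7.char_inv_eq_conj (Helper7.isCharacter_of_irr χ.2)]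

theorem pb_self [Fact p.Prime] (hM : IsPModular p M) {u : G} (hu : ∃ k : ℕ, orderOf u = p ^ k) :
    ∑ χ ∈ pbF M G, (χ : G → ℂ) u * conj ((χ : G → ℂ) u)
      = ∑ ψ ∈ pbF M (Subgroup.centralizer ({u} : Set G)),
        ((charDegree (ψ : Subgroup.centralizer ({u} : Set G) → ℂ) : ℂ)) ^ 2 := by
  classical
  haveI := Fintype.ofFinite G
  haveI := Fintype.ofFinite (IrrCharacter G)
  haveI := Fintype.ofFinite (IrrCharacter (Subgroup.centralizer ({u} : Set G)))
  have hp1 : ¬ p ∣ orderOf (1 : Subgroup.centralizer ({u} : Set G)) := by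
    rw [orderOf_one]
    exact fun h => (Fact.out : p.Prime).one_lt.ne' (Nat.dvd_one.1 h)
  have h1 := Helper24.section_orthogonality hM hu
    (Helper24.isPBlock_principalBlock (M := M) (G := G)) 1 1 hp1 hp1
  rw [Cfsg.Agent.S0947.indSet_principal hM hu] at h1
  simp only [OneMemClass.coe_one, mul_one] at h1
  rw [sum_pbF_eq_indicator, sum_pbF_eq_indicator, h1]
  refine Finset.sum_congr rfl fun ψ _ => ?_
  by_cases h : ψ ∈ principalBlock M (Subgroup.centralizer ({u} : Set G))
  · rw [Set.indicator_of_mem h, Set.indicator_of_mem h,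
      Helper7.charDegree_cast (Helper7.isCharacter_of_irr ψ.2), Helper7.conj_irr_one, pow_two]
  · rw [Set.indicator_of_notMem h, Set.indicator_of_notMem h]

theorem pb_conj_left (χ : IrrCharacter G) (g x : G) :
    (χ : G → ℂ) (x * g * x⁻¹) = (χ : G → ℂ) g :=
  Helper7.isClassFunction_of_isCharacter (Helper7.isCharacter_of_irr χ.2) g x

/-- Summing over the conjugates of `y` under a subgroup `N`. -/
theorem sum_subgroup_conj [DecidableEq G] (N : Subgroup G) [Fintype N] (y : G) (f : G → ℂ) :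
    ∑ x : N, f ((x : G) * y * (x : G)⁻¹)
      = (Nat.card ↥(N ⊓ Subgroup.centralizer ({y} : Set G)) : ℂ)
        * ∑ z ∈ Finset.univ.image (fun x : N => (x : G) * y * (x : G)⁻¹), f z := by
  classical
  rw [Finset.sum_comp f (fun x : N => (x : G) * y * (x : G)⁻¹), Finset.mul_sum]
  refine Finset.sum_congr rfl fun z hz => ?_
  obtain ⟨x₀, -, rfl⟩ := Finset.mem_image.1 hz
  rw [nsmul_eq_mul]
  congr 1
  norm_cast
  rw [← Fintype.card_subtype, ← Nat.card_eq_fintype_card]
  apply Nat.card_congr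
  refine
    { toFun := fun a => ⟨(x₀ : G)⁻¹ * (a.1 : G), N.mul_mem (N.inv_mem x₀.2) a.1.2, ?_⟩
      invFun := fun c => ⟨⟨(x₀ : G) * (c : G), N.mul_mem x₀.2 c.2.1⟩, ?_⟩
      left_inv := ?_
      right_inv := ?_ }
  · show (x₀ : G)⁻¹ * (a.1 : G) ∈ Subgroup.centralizer ({y} : Set G)
    rw [Helper24.mem_centralizer_singleton]
    have h : (a.1 : G) * y * (a.1 : G)⁻¹ = (x₀ : G) * y * (x₀ : G)⁻¹ := a.2
    have h2 := congrArg (fun t => (x₀ : G)⁻¹ * t * (a.1 : G)) h
    simp only [mul_assoc, inv_mul_cancel, mul_one, inv_mul_cancel_left] at h2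
    exact h2.symm.trans (mul_assoc _ _ _).symm
  · have hc := (Helper24.mem_centralizer_singleton).1 c.2.2
    show (x₀ : G) * (c : G) * y * ((x₀ : G) * (c : G))⁻¹ = (x₀ : G) * y * (x₀ : G)⁻¹
    rw [mul_inv_rev, mul_assoc (x₀ : G) (c : G) y, ← hc]
    group
  · intro a
    apply Subtype.ext
    apply Subtype.ext
    simp
  · intro c
    apply Subtype.ext
    simp

end Cfsg.Agent.Lib.Helper2
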