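import Cfsg.Agent.Lib.Helper2.BApp
import Cfsg.Agent.Lib.Helper24.SectionSum

set_option autoImplicit false
set_option linter.style.haveILetI false
set_option linter.unusedSectionVars false
open Cfsg
open scoped ComplexConjugate

namespace Cfsg.Agent.Lib.Helper2

universe u
variable {G : Type u} [Group G] [Finite G] {p : ℕ} {M : Ideal AlgInt}

/-- Brauer's coefficient `a_χ(θ) = |P|⁻¹ ∑_{y ∈ P} χ(y) θ(y⁻¹)`. -/
noncomputable def bA (P : Subgroup G) (θ : P → ℂ) (χ : G → ℂ) : ℂ :=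
  (Nat.card P : ℂ)⁻¹ * ∑ᶠ y : P, χ (y : G) * θ y⁻¹

theorem bA_eq_sum (P : Subgroup G) [Fintype P] (θ : P → ℂ) (χ : G → ℂ) :
    bA P θ χ = (Nat.card P : ℂ)⁻¹ * ∑ y : P, χ (y : G) * θ y⁻¹ := by
  rw [bA, finsum_eq_sum_of_fintype]

theorem bA_eq_sum' (P : Subgroup G) [Fintype P] (θ : P → ℂ) (χ : G → ℂ) :
    bA P θ χ = (Nat.card P : ℂ)⁻¹ * ∑ y : P, χ (y : G)⁻¹ * θ y := by
  rw [bA_eq_sum, ← Equiv.sum_comp (Equiv.inv P)]
  simp

theorem isPPart_inv {g x : G} (h : IsPPart p g x) : IsPPart p g⁻¹ x⁻¹ := by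
  obtain ⟨w, rfl, hc, hk, hw⟩ := h
  refine ⟨w⁻¹, ?_, hc.inv_inv, by rwa [orderOf_inv], by rwa [orderOf_inv]⟩
  rw [mul_inv_rev]
  exact hc.inv_inv

theorem isPGroup_orderOf [Fact p.Prime] {P : Subgroup G} (hP : IsPGroup p P) {z : G} (hz : z ∈ P) :
    ∃ k : ℕ, orderOf z = p ^ k := by
  obtain ⟨k, hk⟩ := (IsPGroup.iff_orderOf.1 hP) ⟨z, hz⟩
  exact ⟨k, by rw [← hk, Subgroup.orderOf_mk]⟩

/-- `∑_{χ ∈ B₀} a_χ(θ) χ(g) = 0` when the `p`-part of `g` is not conjugate to an element of the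
support of `θ`. -/
theorem sum_bA_mul_eq_zero [Fact p.Prime] (hM : IsPModular p M) {P : Subgroup G}
    (hP : IsPGroup p P) (θ : P → ℂ) {g x : G} (hx : IsPPart p g x)
    (h : ∀ y : P, θ y ≠ 0 → ¬ IsConj (y : G) x) :
    ∑ χ ∈ pbF M G, bA P θ (χ : G → ℂ) * (χ : G → ℂ) g = 0 := by
  classical
  haveI : Fintype P := Fintype.ofFinite _
  have h1 : ∀ χ ∈ pbF M G, bA P θ (χ : G → ℂ) * (χ : G → ℂ) g
      = (Nat.card P : ℂ)⁻¹ * ∑ y : P, θ y⁻¹ * ((χ : G → ℂ) y * conj ((χ : G → ℂ) g⁻¹)) := by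
    intro χ _
    rw [bA_eq_sum, mul_assoc, Finset.sum_mul]
    congr 1
    refine Finset.sum_congr rfl fun y _ => ?_
    rw [Helper7.char_inv_eq_conj (Helper7.isCharacter_of_irr χ.2), Complex.conj_conj]
    ring
  rw [Finset.sum_congr rfl h1, ← Finset.mul_sum, Finset.sum_comm]
  rw [Finset.sum_eq_zero, mul_zero]
  intro y _
  rw [← Finset.mul_sum]
  by_cases hy : θ y⁻¹ = 0
  · rw [hy, zero_mul]
  · obtain ⟨k, hk⟩ := isPGroup_orderOf hP y.2
    rw [pb_orth hM (Helper24.isPPart_self (Fact.out : p.Prime) hk) (isPPart_inv hx), mul_zero]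
    intro hc
    apply h y⁻¹ hy
    obtain ⟨c, hc⟩ := isConj_iff.1 hc
    rw [isConj_iff]
    refine ⟨c, ?_⟩
    rw [Subgroup.coe_inv, ← inv_inj, ← hc]
    group

/-- `a_χ(θ)` is a rational integer for a generalized character `θ`. -/
theorem bA_int (P : Subgroup G) {θ : P → ℂ} (hθ : IsGeneralizedCharacter P θ) {χ : G → ℂ}
    (hχ : IsCharacter G χ) : ∃ z : ℤ, bA P θ χ = z := by
  classical
  haveI : Fintype P := Fintype.ofFinite _
  obtain ⟨α, β, hα, hβ, rfl⟩ := hθ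
  obtain ⟨a, ha⟩ := Helper7.classInner_char_nat (Helper7.isCharacter_restrict hχ P) hα
  obtain ⟨b, hb⟩ := Helper7.classInner_char_nat (Helper7.isCharacter_restrict hχ P) hβ
  refine ⟨(a : ℤ) - b, ?_⟩
  push_cast
  rw [← ha, ← hb, bA_eq_sum, classInner, classInner, ← mul_sub, ← Finset.sum_sub_distrib]
  congr 1
  refine Finset.sum_congr rfl fun y _ => ?_
  rw [Pi.sub_apply, Helper7.char_inv_eq_conj hα, Helper7.char_inv_eq_conj hβ]
  ring

/-- A real quadratic-form lemma behind Brauer's sign argument. -/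
theorem brauer_sign_lemma {ι : Type*} (B : Finset ι) (A d n : ι → ℝ) (hd : ∀ i ∈ B, 0 < d i)
    (h1 : ∑ i ∈ B, A i * d i = 0) (h2 : ∑ i ∈ B, A i * n i = 0)
    (h3 : ∑ i ∈ B, A i * n i ^ 2 / d i = 0) (o : ι) (ho : o ∈ B) (hAo : A o ≠ 0)
    (hdo : d o = 1) (hno : n o = 1)
    (huniq : ∀ i ∈ B, ∀ j ∈ B, A i < 0 → A j < 0 → i = j) :
    ∃ i ∈ B, i ≠ o ∧ n i = d i := by
  classical
  by_cases hneg : ∃ i₀ ∈ B, A i₀ < 0
  · obtain ⟨i₀, hi₀, hA₀⟩ := hneg
    obtain ⟨r, hr⟩ : ∃ r : ℝ, r = n i₀ / d i₀ := ⟨_, rfl⟩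
    have hsum : ∑ i ∈ B, A i * (n i - r * d i) ^ 2 / d i = 0 := by
      have e : ∀ i ∈ B, A i * (n i - r * d i) ^ 2 / d i
          = A i * n i ^ 2 / d i - 2 * r * (A i * n i) + r ^ 2 * (A i * d i) := by
        intro i hi
        have := (hd i hi).ne'
        field_simp
        ring
      rw [Finset.sum_congr rfl e, Finset.sum_add_distrib, Finset.sum_sub_distrib,
        ← Finset.mul_sum, ← Finset.mul_sum, h1, h2, h3]
      ring
    have hnn : ∀ i ∈ B, 0 ≤ A i * (n i - r * d i) ^ 2 / d i := by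
      intro i hi
      by_cases hii : i = i₀
      · subst hii
        have : n i - r * d i = 0 := by
          rw [hr]
          have := (hd i hi).ne'
          field_simp
          ring
        rw [this]
        simp
      · have hAi : 0 ≤ A i := by
          by_contra hlt
          exact hii (huniq i hi i₀ hi₀ (not_le.1 hlt) hA₀)
        exact div_nonneg (mul_nonneg hAi (sq_nonneg _)) (hd i hi).le
    have hz := (Finset.sum_eq_zero_iff_of_nonneg hnn).1 hsum
    have hz' : ∀ i ∈ B, 0 < A i → n i = r * d i := by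
      intro i hi hAi
      have h4 := hz i hi
      rw [div_eq_zero_iff] at h4
      rcases h4 with h4 | h4
      · rcases mul_eq_zero.1 h4 with h5 | h5
        · exact absurd h5 hAi.ne'
        · have := pow_eq_zero_iff (two_ne_zero) |>.1 h5
          linarith
      · exact absurd h4 (hd i hi).ne'
    by_cases hio : i₀ = o
    · subst hio
      have hr1 : r = 1 := by rw [hr, hdo, hno]; norm_num
      obtain ⟨i, hi, hpos⟩ := Finset.exists_pos_of_sum_zero_of_exists_nonzero _ h1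
        ⟨i₀, hi₀, mul_ne_zero hAo (hd i₀ hi₀).ne'⟩
      have hAi : 0 < A i := by
        by_contra hle
        exact absurd hpos (not_lt.2 (mul_nonpos_of_nonpos_of_nonneg (not_lt.1 hle) (hd i hi).le))
      refine ⟨i, hi, ?_, ?_⟩
      · rintro rfl
        exact absurd hA₀ (not_lt.2 hAi.le)
      · rw [hz' i hi hAi, hr1, one_mul]
    · have hAo' : 0 < A o := by
        rcases lt_or_gt_of_ne hAo with h | h
        · exact absurd (huniq i₀ hi₀ o ho hA₀ h) hio
        · exact h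
      have h5 := hz' o ho hAo'
      rw [hdo, hno, mul_one] at h5
      refine ⟨i₀, hi₀, hio, ?_⟩
      have := (hd i₀ hi₀).ne'
      rw [← h5] at hr
      field_simp at hr
      linarith
  · exfalso
    push Not at hneg
    have hz := (Finset.sum_eq_zero_iff_of_nonneg
      (fun i hi => mul_nonneg (hneg i hi) (hd i hi).le)).1 h1 o ho
    rw [hdo, mul_one] at hz
    exact hAo hz

end Cfsg.Agent.Lib.Helper2
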