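import Cfsg.Agent.Lib.Helper2.BApp2
import Cfsg.Agent.Lib.Helper24.KleinFour
import Cfsg.Agent.Lib.Helper24.BlockPNilp

set_option autoImplicit false
set_option linter.style.haveILetI false
set_option linter.unusedSectionVars false
open Cfsg
open scoped ComplexConjugate

namespace Cfsg.Agent.Lib.Helper2

universe u
variable {G : Type u} [Group G] [Finite G] {p : ℕ} [Fact p.Prime] {M : Ideal AlgInt}

/-- An abelian Sylow `p`-subgroup `P ≠ 1` on whose non-identity elements `N(P)/C(P)`, of order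
`m`, acts freely. -/
structure FreeHyp (P : Sylow p G) (m : ℕ) : Prop where
  comm : ∀ a ∈ (P : Subgroup G), ∀ b ∈ (P : Subgroup G), a * b = b * a
  ne : Nat.card P ≠ 1
  idx : (Subgroup.centralizer ((P : Subgroup G) : Set G)).relIndex
    (Subgroup.normalizer ((P : Subgroup G) : Set G)) = m
  frob : ∀ y : G, y ∈ (P : Subgroup G) → y ≠ 1 →
    Subgroup.centralizer ({y} : Set G) ⊓ Subgroup.normalizer ((P : Subgroup G) : Set G)
      = Subgroup.centralizer ((P : Subgroup G) : Set G)

variable {P : Sylow p G} {m : ℕ}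

theorem FreeHyp.le_centralizer (h : FreeHyp P m) :
    (P : Subgroup G) ≤ Subgroup.centralizer ((P : Subgroup G) : Set G) := by
  intro a ha
  rw [Subgroup.mem_centralizer_iff]
  intro b hb
  exact h.comm b hb a ha

/-- Burnside's fusion theorem. -/
theorem FreeHyp.fusion (h : FreeHyp P m) {u g : G} (hu : u ∈ (P : Subgroup G))
    (hg : g * u * g⁻¹ ∈ (P : Subgroup G)) :
    ∃ n ∈ Subgroup.normalizer ((P : Subgroup G) : Set G), n * u * n⁻¹ = g * u * g⁻¹ := by
  obtain ⟨n, hn, hn'⟩ := P.conj_eq_normalizer_conj_of_mem_centralizer u g⁻¹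
    (h.le_centralizer hu) (h.le_centralizer (by rwa [inv_inv]))
  refine ⟨n⁻¹, Subgroup.inv_mem _ hn, ?_⟩
  rw [inv_inv] at hn' ⊢
  exact hn'.symm

theorem FreeHyp.le_centralizer_singleton (h : FreeHyp P m) {y : G} (hy : y ∈ (P : Subgroup G)) :
    (P : Subgroup G) ≤ Subgroup.centralizer ({y} : Set G) := by
  intro a ha
  rw [Helper24.mem_centralizer_singleton]
  exact h.comm y hy a ha

/-- The centralizer of a non-identity element of `P` has a normal `p`-complement. -/
theorem FreeHyp.index_core (h : FreeHyp P m) {y : G} (hy : y ∈ (P : Subgroup G)) (hy1 : y ≠ 1) :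
    ∃ k : ℕ, (pPrimeCore p (Subgroup.centralizer ({y} : Set G))).index = p ^ k := by
  have hle := h.le_centralizer_singleton hy
  apply Helper24.index_pPrimeCore_of_normalizer_le (P.subtype hle)
  intro x hx
  rw [Sylow.coe_subtype] at hx ⊢
  have hxN : (x : G) ∈ Subgroup.normalizer ((P : Subgroup G) : Set G) := by
    rw [Subgroup.mem_normalizer_iff] at hx ⊢
    intro g
    constructor
    · intro hg
      have := (hx ⟨g, hle hg⟩).1 (by rw [Subgroup.mem_subgroupOf]; exact hg)
      rw [Subgroup.mem_subgroupOf] at this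
      exact this
    · intro hg
      have hgC : g ∈ Subgroup.centralizer ({y} : Set G) := by
        have h1 := Subgroup.mul_mem _ (Subgroup.mul_mem _ (Subgroup.inv_mem _ x.2) (hle hg)) x.2
        have h2 : (x : G)⁻¹ * ((x : G) * g * (x : G)⁻¹) * (x : G) = g := by group
        rwa [h2] at h1
      have := (hx ⟨g, hgC⟩).2 (by rw [Subgroup.mem_subgroupOf]; exact hg)
      rw [Subgroup.mem_subgroupOf] at this
      exact this
  have hxC : (x : G) ∈ Subgroup.centralizer ((P : Subgroup G) : Set G) := by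
    rw [← h.frob y hy hy1]
    exact ⟨x.2, hxN⟩
  rw [Subgroup.mem_centralizer_iff] at hxC ⊢
  intro w hw
  apply Subtype.ext
  exact hxC w (Subgroup.mem_subgroupOf.1 hw)

theorem FreeHyp.pow_factorization (h : FreeHyp P m) {y : G} (hy : y ∈ (P : Subgroup G)) :
    p ^ (Nat.card (Subgroup.centralizer ({y} : Set G))).factorization p = Nat.card P := by
  have hle := h.le_centralizer_singleton hy
  rw [← (P.subtype hle).card_eq_multiplicity]
  show Nat.card ((P : Subgroup G).subgroupOf (Subgroup.centralizer ({y} : Set G))) = _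
  exact Nat.card_congr (Subgroup.subgroupOfEquivOfLe hle).toEquiv

theorem FreeHyp.orderOf (_h : FreeHyp P m) {y : G} (hy : y ∈ (P : Subgroup G)) :
    ∃ k : ℕ, orderOf y = p ^ k := isPGroup_orderOf P.isPGroup' hy

/-- `∑_{χ ∈ B₀} |χ(y)|² = |P|` for `y ∈ P`, `y ≠ 1`. -/
theorem FreeHyp.pb_self (h : FreeHyp P m) (hM : IsPModular p M) {y : G}
    (hy : y ∈ (P : Subgroup G)) (hy1 : y ≠ 1) :
    ∑ χ ∈ pbF M G, (χ : G → ℂ) y * conj ((χ : G → ℂ) y) = (Nat.card P : ℂ) := by
  classical
  haveI := Fintype.ofFinite (Subgroup.centralizer ({y} : Set G))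
  haveI := Fintype.ofFinite (IrrCharacter (Subgroup.centralizer ({y} : Set G)))
  obtain ⟨k, hk⟩ := h.index_core hy hy1
  haveI := (Helper24.SC.pPrimeCore_mem (G := Subgroup.centralizer ({y} : Set G)) p).1
  have h1 := Helper24.sum_principal_of_index hM
    (Cfsg.pPrimeCore p (Subgroup.centralizer ({y} : Set G)))
    (Helper24.SC.pPrimeCore_mem p).2 hk 1 (by
      rw [orderOf_one]
      exact fun h => (Fact.out : p.Prime).one_lt.ne' (Nat.dvd_one.1 h))
  rw [Helper2.pb_self hM (h.orderOf hy), sum_pbF_eq_indicator, ← h.pow_factorization hy, ← h1]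
  refine Finset.sum_congr rfl fun ψ _ => ?_
  by_cases hψ : ψ ∈ principalBlock M (Subgroup.centralizer ({y} : Set G))
  · rw [Set.indicator_of_mem hψ, Set.indicator_of_mem hψ,
      Helper7.charDegree_cast (Helper7.isCharacter_of_irr ψ.2), Helper7.conj_irr_one, pow_two]
  · rw [Set.indicator_of_notMem hψ, Set.indicator_of_notMem hψ]

/-- Characters in the principal block are constant on the `p`-section of `y ∈ P`, `y ≠ 1`. -/
theorem FreeHyp.section_const (h : FreeHyp P m) (hM : IsPModular p M) {y z : G}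
    (hy : y ∈ (P : Subgroup G)) (hy1 : y ≠ 1) (hz : IsPPart p z y) {χ : IrrCharacter G}
    (hχ : χ ∈ principalBlock M G) : (χ : G → ℂ) z = (χ : G → ℂ) y := by
  obtain ⟨v, rfl, hc, hk, hv⟩ := hz
  apply Helper7.principal_mul_core hM hk _ hχ
  obtain ⟨k, hk'⟩ := h.index_core hy hy1
  haveI := (Helper24.SC.pPrimeCore_mem (G := Subgroup.centralizer ({y} : Set G)) p).1
  have hvC : v ∈ Subgroup.centralizer ({y} : Set G) := by
    rw [Helper24.mem_centralizer_singleton]
    exact hc
  refine ⟨⟨v, hvC⟩, ?_, rfl⟩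
  apply (Helper24.regular_iff_mem_of_index (Fact.out : p.Prime)
    (Cfsg.pPrimeCore p (Subgroup.centralizer ({y} : Set G)))
    (Helper24.SC.pPrimeCore_mem p).2 hk' ⟨v, hvC⟩).1
  rwa [Subgroup.orderOf_mk]

/-- The values of the kernel `∑_{χ ∈ B₀} χ(u') conj χ(u)` on `P × P^#`. -/
theorem FreeHyp.pb_kernel (h : FreeHyp P m) (hM : IsPModular p M) {u u' : G}
    (hu : u ∈ (P : Subgroup G)) (hu1 : u ≠ 1) (hu' : u' ∈ (P : Subgroup G))
    [Decidable (∃ n ∈ Subgroup.normalizer ((P : Subgroup G) : Set G), n * u * n⁻¹ = u')] :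
    ∑ χ ∈ pbF M G, (χ : G → ℂ) u' * conj ((χ : G → ℂ) u)
      = if ∃ n ∈ Subgroup.normalizer ((P : Subgroup G) : Set G), n * u * n⁻¹ = u'
        then (Nat.card P : ℂ) else 0 := by
  split_ifs with hc
  · obtain ⟨n, -, rfl⟩ := hc
    rw [← h.pb_self hM hu hu1]
    refine Finset.sum_congr rfl fun χ _ => ?_
    rw [pb_conj_left]
  · obtain ⟨k1, hk1⟩ := h.orderOf hu'
    obtain ⟨k2, hk2⟩ := h.orderOf hu
    apply pb_orth hM (Helper24.isPPart_self (Fact.out : p.Prime) hk1)
      (Helper24.isPPart_self (Fact.out : p.Prime) hk2)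
    intro hconj
    obtain ⟨g, hg⟩ := isConj_iff.1 hconj.symm
    obtain ⟨n, hn, hn'⟩ := h.fusion hu (g := g) (by rw [hg]; exact hu')
    exact hc ⟨n, hn, by rw [hn', hg]⟩

end Cfsg.Agent.Lib.Helper2
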