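import Cfsg.Agent.Lib.Helper2.BFree9
import Cfsg.Agent.S0944

set_option autoImplicit false
set_option linter.style.haveILetI false
set_option linter.unusedSectionVars false
set_option maxHeartbeats 1000000
open Cfsg
open scoped ComplexConjugate

namespace Cfsg.Agent.Lib.Helper2

universe u
variable {G : Type u} [Group G] [Finite G] {p : ℕ} [Fact p.Prime] {P : Sylow p G} {m : ℕ}
  {M : Ideal AlgInt}

theorem isSquare_of_three (xa xb xc : ℕ) (na nb nc : ℤ) (hb : 0 < xb) (hc : 0 < xc)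
    (E2 : (1 : ℤ) + xa = xb + xc) (E3 : 1 + na = nb + nc)
    (E1 : (xa : ℤ) * xb * xc + na ^ 2 * xb * xc = nb ^ 2 * xa * xc + nc ^ 2 * xa * xb)
    (hN : nb ≠ xb) : IsSquare (xa * xb * xc) := by
  obtain ⟨A, hA⟩ : ∃ A : ℤ, A = xb - nb := ⟨_, rfl⟩
  obtain ⟨B, hB⟩ : ∃ B : ℤ, B = xc - nc := ⟨_, rfl⟩
  have hxa : (xa : ℤ) = xb + xc - 1 := by linarith
  have hna : na = nb + nc - 1 := by linarith
  have hnb : nb = xb - A := by linarith
  have hnc : nc = xc - B := by linarith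
  rw [hna, hnb, hnc, hxa] at E1
  have key1 : A ^ 2 * xc + B ^ 2 * xb = (A * xc - B * xb) ^ 2 := by
    linear_combination E1
  have key2 : (xa : ℤ) * (A * xc - B * xb) ^ 2 = (A + B) ^ 2 * xb * xc := by
    rw [← key1, hxa]
    linear_combination -E1
  have hb' : (0 : ℤ) < xb := by exact_mod_cast hb
  have hc' : (0 : ℤ) < xc := by exact_mod_cast hc
  have hc0 : A * xc - B * xb ≠ 0 := by
    intro h0
    rw [h0] at key1
    have g1 := mul_nonneg (sq_nonneg A) hc'.le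
    have g2 := mul_nonneg (sq_nonneg B) hb'.le
    have h1 : A ^ 2 * xc = 0 := by nlinarith
    have h2 : A = 0 := by
      rcases mul_eq_zero.1 h1 with h3 | h3
      · exact pow_eq_zero_iff (two_ne_zero) |>.1 h3
      · exact absurd h3 hc'.ne'
    apply hN
    rw [hnb, h2, sub_zero]
  rw [← Rat.isSquare_natCast_iff]
  refine ⟨((A + B) * xb * xc : ℤ) / ((A * xc - B * xb : ℤ) : ℚ), ?_⟩
  have hc0' : ((A * xc - B * xb : ℤ) : ℚ) ≠ 0 := by exact_mod_cast hc0
  have key3 : ((xa * xb * xc : ℕ) : ℚ) * ((A * xc - B * xb : ℤ) : ℚ) ^ 2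
      = (((A + B) * xb * xc : ℤ) : ℚ) ^ 2 := by
    have : ((xa * xb * xc : ℕ) : ℤ) * (A * xc - B * xb) ^ 2 = ((A + B) * xb * xc) ^ 2 := by
      push_cast
      linear_combination (xb : ℤ) * xc * key2
    exact_mod_cast this
  field_simp
  linear_combination key3

/-- Brauer's sign argument for four characters. -/
theorem sign_of_four (c₂ c₃ c₄ : ℤ) (h₂ : c₂ = 1 ∨ c₂ = -1) (h₃ : c₃ = 1 ∨ c₃ = -1)
    (h₄ : c₄ = 1 ∨ c₄ = -1) (x₂ x₃ x₄ : ℕ) (n₂ n₃ n₄ : ℤ) (hx₂ : 0 < x₂) (hx₃ : 0 < x₃)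
    (hx₄ : 0 < x₄)
    (E2 : (1 : ℤ) + c₂ * x₂ + c₃ * x₃ + c₄ * x₄ = 0) (E3 : 1 + c₂ * n₂ + c₃ * n₃ + c₄ * n₄ = 0)
    (E1 : (1 : ℝ) + c₂ * n₂ ^ 2 / x₂ + c₃ * n₃ ^ 2 / x₃ + c₄ * n₄ ^ 2 / x₄ = 0)
    (hN₂ : n₂ ≠ x₂) (hN₃ : n₃ ≠ x₃) (hN₄ : n₄ ≠ x₄) : c₂ + c₃ + c₄ = -1 := by
  have main : ∀ s : ℝ, s ≠ 0 → (∀ i j : Fin 4, s * (![1, (c₂ : ℝ), c₃, c₄] i) < 0 →
      s * (![1, (c₂ : ℝ), c₃, c₄] j) < 0 → i = j) → False := by
    intro s hs huniq
    obtain ⟨i, -, hi0, hi⟩ := brauer_sign_lemma Finset.univ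
      (fun i => s * (![1, (c₂ : ℝ), c₃, c₄] i)) ![1, (x₂ : ℝ), x₃, x₄] ![1, (n₂ : ℝ), n₃, n₄]
      (by
        intro i _
        fin_cases i
        · simp
        · simpa using hx₂
        · simpa using hx₃
        · simpa using hx₄)
      (by
        simp only [Fin.sum_univ_four]
        simp only [Matrix.cons_val_zero, Matrix.cons_val_one, Matrix.cons_val]
        have : (1 : ℝ) + c₂ * x₂ + c₃ * x₃ + c₄ * x₄ = 0 := by exact_mod_cast E2
        linear_combination s * this)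
      (by
        simp only [Fin.sum_univ_four]
        simp only [Matrix.cons_val_zero, Matrix.cons_val_one, Matrix.cons_val]
        have : (1 : ℝ) + c₂ * n₂ + c₃ * n₃ + c₄ * n₄ = 0 := by exact_mod_cast E3
        linear_combination s * this)
      (by
        simp only [Fin.sum_univ_four]
        simp only [Matrix.cons_val_zero, Matrix.cons_val_one, Matrix.cons_val]
        linear_combination s * E1)
      0 (Finset.mem_univ _) (by simpa using hs) (by simp) (by simp)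
      (fun i _ j _ => huniq i j)
    fin_cases i
    · exact hi0 rfl
    · apply hN₂
      have : (n₂ : ℝ) = x₂ := by simpa using hi
      exact_mod_cast this
    · apply hN₃
      have : (n₃ : ℝ) = x₃ := by simpa using hi
      exact_mod_cast this
    · apply hN₄
      have : (n₄ : ℝ) = x₄ := by simpa using hi
      exact_mod_cast this
  rcases h₂ with rfl | rfl <;> rcases h₃ with rfl | rfl <;> rcases h₄ with rfl | rfl <;>
    first
    | rfl
    | (exfalso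
       apply main 1 one_ne_zero
       intro i j
       fin_cases i <;> fin_cases j <;> first | (simp; done) | (norm_num; done))
    | (exfalso
       apply main (-1) (by norm_num)
       intro i j
       fin_cases i <;> fin_cases j <;> first | (simp; done) | (norm_num; done))

theorem final_arith (a₂ a₃ ε : ℤ) (ha₂ : a₂ = 1 ∨ a₂ = -1) (ha₃ : a₃ = 1 ∨ a₃ = -1)
    (hε : ε = 1 ∨ ε = -1) (x₂ x₃ y : ℕ) (n₂ n₃ n : ℤ) (hx₂ : 0 < x₂) (hx₃ : 0 < x₃) (hy : 0 < y)
    (E2 : (1 : ℂ) + a₂ * x₂ + a₃ * x₃ - ε * y = 0) (E3 : (1 : ℂ) + a₂ * n₂ + a₃ * n₃ - ε * n = 0)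
    (E1 : (1 : ℂ) ^ 2 / 1 + a₂ * ((n₂ : ℂ) ^ 2 / x₂) + a₃ * ((n₃ : ℂ) ^ 2 / x₃)
      - ε * ((n : ℂ) ^ 2 / y) = 0)
    (hN₂ : n₂ ≠ x₂) (hN₃ : n₃ ≠ x₃) (hN : n ≠ y) :
    a₂ + a₃ - ε = -1 ∧ IsSquare (y * (x₂ * x₃)) := by
  have R2 : (1 : ℤ) + a₂ * x₂ + a₃ * x₃ - ε * y = 0 := by exact_mod_cast E2
  have R3 : (1 : ℤ) + a₂ * n₂ + a₃ * n₃ - ε * n = 0 := by exact_mod_cast E3
  have hx₂c : (x₂ : ℂ) ≠ 0 := by exact_mod_cast hx₂.ne'
  have hx₃c : (x₃ : ℂ) ≠ 0 := by exact_mod_cast hx₃.ne'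
  have hyc : (y : ℂ) ≠ 0 := by exact_mod_cast hy.ne'
  have R1 : (x₂ : ℤ) * x₃ * y + a₂ * n₂ ^ 2 * x₃ * y + a₃ * n₃ ^ 2 * x₂ * y
      - ε * n ^ 2 * x₂ * x₃ = 0 := by
    have : (x₂ : ℂ) * x₃ * y + a₂ * n₂ ^ 2 * x₃ * y + a₃ * n₃ ^ 2 * x₂ * y
        - ε * n ^ 2 * x₂ * x₃ = 0 := by
      have h5 := congrArg (fun z => z * ((x₂ : ℂ) * x₃ * y)) E1
      simp only [zero_mul] at h5
      rw [← h5]
      field_simp
    exact_mod_cast this
  have hs : a₂ + a₃ + -ε = -1 := by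
    apply sign_of_four a₂ a₃ (-ε) ha₂ ha₃ (by rcases hε with h0 | h0 <;> rw [h0] <;> simp)
      x₂ x₃ y n₂ n₃ n hx₂ hx₃ hy (by linarith) (by linarith) _ hN₂ hN₃ hN
    apply Complex.ofReal_injective
    push_cast
    linear_combination E1
  refine ⟨by linarith, ?_⟩
  rcases ha₂ with rfl | rfl <;> rcases ha₃ with rfl | rfl <;> rcases hε with rfl | rfl <;>
    first
    | (exfalso; omega)
    | (have := isSquare_of_three x₂ x₃ y n₂ n₃ n hx₃ hy (by linarith) (by linarith)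
        (by linarith) hN₃
       convert this using 1
       ring)
    | (have := isSquare_of_three x₃ x₂ y n₃ n₂ n hx₂ hy (by linarith) (by linarith)
        (by linarith) hN₂
       convert this using 1
       ring)
    | (have := isSquare_of_three y x₂ x₃ n n₂ n₃ hx₂ hx₃ (by linarith) (by linarith)
        (by linarith) hN₂
       convert this using 1
       ring)

/-- An irreducible character that is constant is the principal character. -/
theorem eq_oneIrr_of_const (χ : IrrCharacter G) (hall : ∀ g : G, (χ : G → ℂ) g = (χ : G → ℂ) 1) :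
    χ = Helper24.oneIrr G := by
  classical
  haveI := Fintype.ofFinite G
  have hGc : (Nat.card G : ℂ) ≠ 0 := by exact_mod_cast Nat.card_pos.ne'
  have hd : (χ : G → ℂ) 1 = (charDegree (χ : G → ℂ) : ℂ) :=
    (Helper7.charDegree_cast (Helper7.isCharacter_of_irr χ.2)).symm
  have h1 := Helper7.classInner_irr_self χ.2
  rw [classInner] at h1
  simp only [hall, hd, Complex.conj_natCast, Finset.sum_const, Finset.card_univ,
    nsmul_eq_mul] at h1
  rw [← Nat.card_eq_fintype_card, ← mul_assoc, inv_mul_cancel₀ hGc, one_mul] at h1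
  have h2 : charDegree (χ : G → ℂ) * charDegree (χ : G → ℂ) = 1 := by
    exact_mod_cast h1
  have h3 : charDegree (χ : G → ℂ) = 1 := Nat.eq_one_of_mul_eq_one_right h2
  apply Subtype.ext
  funext g
  rw [hall, hd, h3]
  simp [Helper24.oneIrr]

/-- An involution in no proper normal subgroup lies in the kernel of no non-principal
irreducible character. -/
theorem char_ne_of_no_normal {t : G} (hK : ∀ K : Subgroup G, K.Normal → t ∈ K → K = ⊤)
    (χ : IrrCharacter G) (hχ : χ ≠ Helper24.oneIrr G) : (χ : G → ℂ) t ≠ (χ : G → ℂ) 1 := by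
  intro h0
  obtain ⟨K, hKn, hKmem⟩ := Helper7.exists_ker_subgroup (Helper7.isCharacter_of_irr χ.2)
  have htop := hK K hKn ((hKmem t).2 h0)
  apply hχ
  apply eq_oneIrr_of_const
  intro g
  exact (hKmem g).1 (by rw [htop]; exact Subgroup.mem_top g)

/-- The three relations for an involution `t` when `p` is odd. -/
theorem FreeHyp.odd_relations (h : FreeHyp P m) (hm : Odd m) (hM : IsPModular p M) (hp : p ≠ 2)
    {t : G} (ht : _root_.orderOf t = 2) (ψ : ↥(P : Subgroup G) →* ℂˣ) :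
    ∑ χ ∈ pbF M G, bA (P : Subgroup G) (dl ψ) (χ : G → ℂ)
      * ((χ : G → ℂ) t ^ 2 / (χ : G → ℂ) 1) = 0 ∧
    ∑ χ ∈ pbF M G, bA (P : Subgroup G) (dl ψ) (χ : G → ℂ) * (χ : G → ℂ) t = 0 ∧
    ∑ χ ∈ pbF M G, bA (P : Subgroup G) (dl ψ) (χ : G → ℂ) * (χ : G → ℂ) 1 = 0 := by
  classical
  haveI := Fintype.ofFinite G
  have hpp : p.Prime := Fact.out
  have hp2 : ¬ p ∣ 2 := fun h0 => hp ((Nat.prime_dvd_prime_iff_eq hpp Nat.prime_two).1 h0)
  refine ⟨?_, sum_bA_dl_regular hM ψ (by rw [ht]; exact hp2),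
    sum_bA_dl_regular hM ψ (by
      rw [orderOf_one]
      exact fun h => hpp.one_lt.ne' (Nat.dvd_one.1 h))⟩
  apply sum_bA_sq_div
  intro x
  have ht2 : t * t = 1 := by rw [← pow_two, ← ht, pow_orderOf_eq_one]
  have htinv : t⁻¹ = t := inv_eq_of_mul_eq_one_left ht2
  obtain ⟨g, hg⟩ : ∃ g, g = x * t * x⁻¹ * t := ⟨_, rfl⟩
  rw [← hg]
  obtain ⟨u, hu⟩ := Helper7.exists_pPart hpp g
  apply sum_bA_mul_eq_zero hM P.isPGroup' (dl ψ) hu
  intro y hy hc
  apply hy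
  have hginv : t * g * t⁻¹ = g⁻¹ := by
    rw [hg, mul_inv_rev, mul_inv_rev, mul_inv_rev, inv_inv, htinv]
    simp only [mul_assoc, ht2, mul_one]
  have htu : t * u * t⁻¹ = u⁻¹ := by
    have h2 := Helper24.isPPart_conj t hu
    rw [hginv] at h2
    exact Helper7.isPPart_unique hpp h2 (isPPart_inv hu)
  obtain ⟨c, hc⟩ := isConj_iff.1 hc
  have hyinv : (y : G)⁻¹ = y := by
    apply h.inv_eq_of_conj hm y.2 (s := c⁻¹ * t * c)
    calc (c⁻¹ * t * c) * (y : G) * (c⁻¹ * t * c)⁻¹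
        = c⁻¹ * (t * (c * y * c⁻¹) * t⁻¹) * c := by group
      _ = c⁻¹ * u⁻¹ * c := by rw [hc, htu]
      _ = (y : G)⁻¹ := by rw [← hc]; group
  have hyy : (y : G) ^ 2 = 1 := by
    rw [pow_two]
    nth_rewrite 1 [← hyinv]
    exact inv_mul_cancel _
  obtain ⟨k, hk⟩ := h.orderOf y.2
  have hdvd : p ^ k ∣ 2 := by rw [← hk]; exact orderOf_dvd_of_pow_eq_one hyy
  have hk0 : k = 0 := by
    by_contra hk0
    exact hp2 ((dvd_pow_self p hk0).trans hdvd)
  rw [hk0, pow_zero, orderOf_eq_one_iff] at hk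
  have : y = 1 := Subtype.ext hk
  rw [this, dl_one_apply]

end Cfsg.Agent.Lib.Helper2
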