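import Cfsg.Agent.Lib.Helper2.BFree1
import Cfsg.Agent.Lib.Helper2.Quat2
import Cfsg.Agent.Lib.Helper11.CyclicTI2

set_option autoImplicit false
set_option linter.style.haveILetI false
set_option linter.unusedSectionVars false
open Cfsg
open scoped ComplexConjugate

namespace Cfsg.Agent.Lib.Helper2

universe u
variable {G : Type u} [Group G]

/-- General fibre count for a group action. -/
theorem card_smul_eq {H X : Type*} [Group H] [MulAction H X] (x x' : X)
    (hx : x' ∈ MulAction.orbit H x) :
    Nat.card {h : H // h • x = x'} = Nat.card (MulAction.stabilizer H x) := by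
  obtain ⟨h₀, rfl⟩ := hx
  apply Nat.card_congr
  refine
    { toFun := fun a => ⟨h₀⁻¹ * a.1, ?_⟩
      invFun := fun c => ⟨h₀ * c.1, ?_⟩
      left_inv := fun a => by simp
      right_inv := fun c => by simp }
  · rw [MulAction.mem_stabilizer_iff, mul_smul, a.2, inv_smul_smul]
  · show (h₀ * c.1) • x = h₀ • x
    rw [mul_smul, MulAction.mem_stabilizer_iff.1 c.2]

/-- The action of `N(H)` on the linear characters of `H`. -/
@[reducible] noncomputable def dualAct (H : Subgroup G) :
    MulAction (Subgroup.normalizer (H : Set G)) (↥H →* ℂˣ) where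
  smul x ψ := ψ.comp (MulDistribMulAction.toMonoidHom ↥H x⁻¹)
  one_smul ψ := by
    ext w
    show ((ψ ((1 : Subgroup.normalizer (H : Set G))⁻¹ • w) : ℂˣ) : ℂ) = _
    simp
  mul_smul x y ψ := by
    ext w
    show ((ψ ((x * y)⁻¹ • w) : ℂˣ) : ℂ) = ((ψ (y⁻¹ • (x⁻¹ • w)) : ℂˣ) : ℂ)
    rw [mul_inv_rev, mul_smul]

theorem dualAct_apply (H : Subgroup G) (x : Subgroup.normalizer (H : Set G)) (ψ : ↥H →* ℂˣ)
    (w : H) : letI := dualAct H; (x • ψ) w = ψ (x⁻¹ • w) := rfl

theorem dualAct_apply_smul (H : Subgroup G) (x : Subgroup.normalizer (H : Set G))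
    (ψ : ↥H →* ℂˣ) (w : H) : letI := dualAct H; (x • ψ) (x • w) = ψ w := by
  rw [dualAct_apply, inv_smul_smul]

theorem dualAct_one (H : Subgroup G) (x : Subgroup.normalizer (H : Set G)) :
    letI := dualAct H; x • (1 : ↥H →* ℂˣ) = 1 := by
  letI := dualAct H
  ext w
  rw [dualAct_apply]
  simp

theorem coe_normalizer_smul (H : Subgroup G) (x : Subgroup.normalizer (H : Set G)) (w : H) :
    ((x • w : H) : G) = (x : G) * (w : G) * (x : G)⁻¹ := rfl

/-- The relation used in the statements is the orbit relation. -/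
theorem mem_orbit_dualAct_iff (H : Subgroup G) (ψ ψ' : ↥H →* ℂˣ) :
    letI := dualAct H
    ψ' ∈ MulAction.orbit (Subgroup.normalizer (H : Set G)) ψ ↔
      ∃ n : G, n ∈ Subgroup.normalizer (H : Set G) ∧
        ∀ w w' : ↥H, (w' : G) = n * w * n⁻¹ → ψ' w' = ψ w := by
  letI := dualAct H
  constructor
  · rintro ⟨x, rfl⟩
    refine ⟨x, x.2, fun w w' hw => ?_⟩
    have : w' = x • w := Subtype.ext hw
    rw [this]
    exact dualAct_apply_smul H x ψ w
  · rintro ⟨n, hn, h⟩
    refine ⟨⟨n, hn⟩, ?_⟩
    ext w'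
    show (((⟨n, hn⟩ : Subgroup.normalizer (H : Set G)) • ψ) w' : ℂ) = _
    rw [dualAct_apply, h ((⟨n, hn⟩ : Subgroup.normalizer (H : Set G))⁻¹ • w') w']
    rw [coe_normalizer_smul]
    simp only [Subgroup.coe_inv, inv_inv]
    group

variable [Finite G] {p : ℕ} [Fact p.Prime] {P : Sylow p G} {m : ℕ}

/-- The stabilizer of a non-principal linear character of `P` is `C(P)`. -/
theorem FreeHyp.stabilizer_eq (h : FreeHyp P m) {ψ : ↥(P : Subgroup G) →* ℂˣ} (hψ : ψ ≠ 1) :
    letI := dualAct (P : Subgroup G)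
    MulAction.stabilizer (Subgroup.normalizer ((P : Subgroup G) : Set G)) ψ
      = (Subgroup.centralizer ((P : Subgroup G) : Set G)).subgroupOf
        (Subgroup.normalizer ((P : Subgroup G) : Set G)) := by
  letI := dualAct (P : Subgroup G)
  ext x
  rw [MulAction.mem_stabilizer_iff, Subgroup.mem_subgroupOf]
  constructor
  · intro hx
    by_contra hxC
    apply hψ
    letI : CommGroup ↥(P : Subgroup G) :=
      { (inferInstance : Group ↥(P : Subgroup G)) with
        mul_comm := fun a b => Subtype.ext (h.comm a a.2 b b.2) }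
    let f : ↥(P : Subgroup G) →* ↥(P : Subgroup G) :=
      (MulDistribMulAction.toMonoidHom ↥(P : Subgroup G) x) / (MonoidHom.id _)
    have hf : ∀ w, f w = (x • w) / w := fun w => rfl
    have hinj : Function.Injective f := by
      rw [injective_iff_map_eq_one]
      intro w hw
      by_contra hw1
      apply hxC
      rw [← h.frob w w.2 (fun h0 => hw1 (Subtype.ext h0))]
      refine ⟨?_, x.2⟩
      show (x : G) ∈ Subgroup.centralizer ({(w : G)} : Set G)
      rw [Helper24.mem_centralizer_singleton]
      rw [hf, div_eq_one] at hw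
      have := congrArg Subtype.val hw
      rw [coe_normalizer_smul] at this
      exact (mul_inv_eq_iff_eq_mul.1 this).symm
    have hsurj : Function.Surjective f := Finite.surjective_of_injective hinj
    ext w
    obtain ⟨v, rfl⟩ := hsurj w
    rw [hf, map_div]
    have h1 : ψ (x • v) = ψ v := by
      conv_lhs => rw [← hx]
      exact dualAct_apply_smul _ x ψ v
    rw [h1, div_self']
    simp
  · intro hx
    ext w
    rw [dualAct_apply]
    have : x⁻¹ • w = w := by
      apply Subtype.ext
      rw [coe_normalizer_smul]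
      rw [Subgroup.mem_centralizer_iff] at hx
      simp only [Subgroup.coe_inv, inv_inv]
      rw [mul_assoc, hx w w.2]
      group
    rw [this]

theorem FreeHyp.card_stabilizer (h : FreeHyp P m) {ψ : ↥(P : Subgroup G) →* ℂˣ} (hψ : ψ ≠ 1) :
    letI := dualAct (P : Subgroup G)
    Nat.card (MulAction.stabilizer (Subgroup.normalizer ((P : Subgroup G) : Set G)) ψ)
      = Nat.card (Subgroup.centralizer ((P : Subgroup G) : Set G)) := by
  rw [h.stabilizer_eq hψ]
  exact Nat.card_congr (Subgroup.subgroupOfEquivOfLe (Subgroup.centralizer_le_normalizer _)).toEquiv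

theorem FreeHyp.ncard_orbit (h : FreeHyp P m) {ψ : ↥(P : Subgroup G) →* ℂˣ} (hψ : ψ ≠ 1) :
    letI := dualAct (P : Subgroup G)
    (MulAction.orbit (Subgroup.normalizer ((P : Subgroup G) : Set G)) ψ).ncard = m := by
  letI := dualAct (P : Subgroup G)
  rw [← MulAction.index_stabilizer, h.stabilizer_eq hψ, ← h.idx]
  rfl

theorem FreeHyp.card_normalizer (h : FreeHyp P m) :
    Nat.card (Subgroup.normalizer ((P : Subgroup G) : Set G))
      = m * Nat.card (Subgroup.centralizer ((P : Subgroup G) : Set G)) := by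
  rw [← h.idx]
  exact (relIndex_mul_card' (Subgroup.centralizer_le_normalizer _)).symm

end Cfsg.Agent.Lib.Helper2
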