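import Cfsg.Agent.Lib.Helper2.BFree2
import Cfsg.Agent.S4720

set_option autoImplicit false
set_option linter.style.haveILetI false
set_option linter.unusedSectionVars false
open Cfsg
open scoped ComplexConjugate

namespace Cfsg.Agent.Lib.Helper2

universe u
variable {G : Type u} [Group G]

/-- `1 - ψ` as a function on `H`. -/
noncomputable def dl {H : Subgroup G} (ψ : ↥H →* ℂˣ) : ↥H → ℂ := fun y => 1 - ((ψ y : ℂˣ) : ℂ)

theorem dl_apply {H : Subgroup G} (ψ : ↥H →* ℂˣ) (y : H) : dl ψ y = 1 - ((ψ y : ℂˣ) : ℂ) := rfl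

theorem dl_one_apply {H : Subgroup G} (ψ : ↥H →* ℂˣ) : dl ψ 1 = 0 := by simp [dl]

theorem isGeneralizedCharacter_dl {H : Subgroup G} (ψ : ↥H →* ℂˣ) :
    IsGeneralizedCharacter H (dl ψ) :=
  ⟨fun _ => 1, fun y => ((ψ y : ℂˣ) : ℂ), Helper7.isCharacter_of_irr Helper7.isIrrCharacter_one,
    Helper7.isCharacter_of_irr (Helper7.isIrrCharacter_of_hom ψ), rfl⟩

theorem sum_hom_mul_conj {W : Type*} [Group W] [Fintype W] (ψ φ : W →* ℂˣ) [Decidable (ψ = φ)] :
    ∑ y : W, ((ψ y : ℂˣ) : ℂ) * conj ((φ y : ℂˣ) : ℂ) = if ψ = φ then (Nat.card W : ℂ) else 0 := by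
  classical
  have h1 := Helper7.classInner_irr (Helper7.isIrrCharacter_of_hom ψ)
    (Helper7.isIrrCharacter_of_hom φ)
  have hW : (Nat.card W : ℂ) ≠ 0 := by exact_mod_cast Nat.card_pos.ne'
  rw [classInner] at h1
  have h2 : ((fun g => ((ψ g : ℂˣ) : ℂ)) = fun g => ((φ g : ℂˣ) : ℂ)) ↔ ψ = φ := by
    constructor
    · intro h
      ext g
      exact congrFun h g
    · rintro rfl; rfl
  have h3 : ∑ y : W, ((ψ y : ℂˣ) : ℂ) * conj ((φ y : ℂˣ) : ℂ)
      = (Nat.card W : ℂ) * ((Nat.card W : ℂ)⁻¹ * ∑ y : W, ((ψ y : ℂˣ) : ℂ) * conj ((φ y : ℂˣ) : ℂ)) := by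
    rw [← mul_assoc, mul_inv_cancel₀ hW, one_mul]
  rw [h3, h1]
  by_cases h : ψ = φ
  · rw [if_pos h, if_pos (h2.2 h), mul_one]
  · rw [if_neg h, if_neg (fun h' => h (h2.1 h')), mul_zero]

theorem sum_hom_eq_zero {W : Type*} [Group W] [Fintype W] {ψ : W →* ℂˣ} (hψ : ψ ≠ 1) :
    ∑ y : W, ((ψ y : ℂˣ) : ℂ) = 0 := by
  classical
  have := sum_hom_mul_conj ψ 1
  rw [if_neg hψ] at this
  simpa using this

theorem sum_dl_mul_conj_dl {W : Subgroup G} [Fintype W] {ψ φ : ↥W →* ℂˣ} (hψ : ψ ≠ 1) (hφ : φ ≠ 1)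
    [Decidable (ψ = φ)] :
    ∑ y : W, dl ψ y * conj (dl φ y) = (Nat.card W : ℂ) * (1 + if ψ = φ then 1 else 0) := by
  have e : ∀ y : W, dl ψ y * conj (dl φ y)
      = 1 - ((ψ y : ℂˣ) : ℂ) - conj ((φ y : ℂˣ) : ℂ) + ((ψ y : ℂˣ) : ℂ) * conj ((φ y : ℂˣ) : ℂ) := by
    intro y
    rw [dl_apply, dl_apply, map_sub, map_one]
    ring
  rw [Finset.sum_congr rfl fun y _ => e y, Finset.sum_add_distrib, Finset.sum_sub_distrib,
    Finset.sum_sub_distrib, sum_hom_eq_zero hψ, ← map_sum, sum_hom_eq_zero hφ, sum_hom_mul_conj]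
  simp only [Finset.sum_const, Finset.card_univ, nsmul_eq_mul, mul_one, map_zero, sub_zero]
  rw [← Nat.card_eq_fintype_card]
  split_ifs <;> ring

variable [Finite G] {p : ℕ} [Fact p.Prime] {P : Sylow p G} {m : ℕ} {M : Ideal AlgInt}

theorem FreeHyp.exists_ne_one (h : FreeHyp P m) : ∃ y ∈ (P : Subgroup G), y ≠ 1 := by
  by_contra hcon
  push Not at hcon
  apply h.ne
  have : Subsingleton ↥(P : Subgroup G) :=
    ⟨fun a b => Subtype.ext ((hcon a a.2).trans (hcon b b.2).symm)⟩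
  exact Nat.card_unique

/-- The Gram matrix of the vectors `Δ_ψ = (a_χ(1 - ψ))_{χ ∈ B₀}`. -/
theorem FreeHyp.gram (h : FreeHyp P m) (hM : IsPModular p M)
    {ψ φ : ↥(P : Subgroup G) →* ℂˣ} (hψ : ψ ≠ 1) (hφ : φ ≠ 1) :
    letI := dualAct (P : Subgroup G)
    ∀ [Decidable (φ ∈ MulAction.orbit (Subgroup.normalizer ((P : Subgroup G) : Set G)) ψ)],
    ∑ χ ∈ pbF M G, bA (P : Subgroup G) (dl ψ) (χ : G → ℂ)
        * conj (bA (P : Subgroup G) (dl φ) (χ : G → ℂ))
      = (m : ℂ) + if φ ∈ MulAction.orbit (Subgroup.normalizer ((P : Subgroup G) : Set G)) ψ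
        then 1 else 0 := by
  letI := dualAct (P : Subgroup G)
  intro _
  classical
  haveI : Fintype ↥(P : Subgroup G) := Fintype.ofFinite _
  haveI : Fintype ↥(Subgroup.normalizer ((P : Subgroup G) : Set G)) := Fintype.ofFinite _
  obtain ⟨cC, hcC⟩ : ∃ c : ℕ, c = Nat.card (Subgroup.centralizer ((P : Subgroup G) : Set G)) :=
    ⟨_, rfl⟩
  have hcC0 : (cC : ℂ) ≠ 0 := by rw [hcC]; exact_mod_cast Nat.card_pos.ne'
  have hcC0' : (cC : ℚ) ≠ 0 := by rw [hcC]; exact_mod_cast Nat.card_pos.ne'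
  have hP0 : (Nat.card ↥(P : Subgroup G) : ℂ) ≠ 0 := by exact_mod_cast Nat.card_pos.ne'
  have key := Cfsg.Agent.S4720.result p M hM (P : Subgroup G) P.isPGroup'
    (Subgroup.normalizer ((P : Subgroup G) : Set G)) Subgroup.le_normalizer le_rfl
    {y | y ∈ (P : Subgroup G) ∧ y ≠ 1}
    (by obtain ⟨y, hy, hy1⟩ := h.exists_ne_one; exact ⟨y, hy, hy1⟩)
    (fun y hy => hy.1)
    (by
      rintro n hn u ⟨hu, hu1⟩
      refine ⟨((Subgroup.mem_normalizer_iff.1 hn) u).1 hu, fun h0 => hu1 ?_⟩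
      have : u = n⁻¹ * (n * u * n⁻¹) * n := by group
      rw [this, h0]; group)
    (by
      rintro u ⟨hu, -⟩ g hg
      exact h.fusion hu hg)
    ((Nat.card ↥(P : Subgroup G) : ℚ) / cC)
    (by
      rintro y ⟨hy, hy1⟩
      have hC : Subgroup.normalizer ((P : Subgroup G) : Set G) ⊓ Subgroup.centralizer ({y} : Set G)
          = Subgroup.centralizer ((P : Subgroup G) : Set G) := by
        rw [inf_comm]; exact h.frob y hy hy1
      rw [hC, ← hcC, div_mul_cancel₀ _ hcC0', finsum_pb]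
      apply Rat.cast_injective (α := ℂ)
      push_cast
      rw [← Helper2.pb_self hM (h.orderOf hy), h.pb_self hM hy hy1])
    (dl ψ) (dl φ) (isGeneralizedCharacter_dl ψ) (isGeneralizedCharacter_dl φ)
    (by
      intro y hy
      have : y = 1 := by
        by_contra h1
        exact hy ⟨y.2, fun h0 => h1 (Subtype.ext h0)⟩
      rw [this, dl_one_apply])
  rw [finsum_pb] at key
  refine Eq.trans key ?_
  simp only [finsum_eq_sum_of_fintype]
  have s1 : ∀ y : ↥(P : Subgroup G), ∑ x : ↥(Subgroup.normalizer ((P : Subgroup G) : Set G)),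
      Cfsg.extendByZero (P : Subgroup G) (dl φ) ((x : G) * (y : G) * (x : G)⁻¹)
      = ∑ x : ↥(Subgroup.normalizer ((P : Subgroup G) : Set G)), dl (x⁻¹ • φ) y := by
    intro y
    refine Finset.sum_congr rfl fun x _ => ?_
    have e1 := extendByZero_coe (P : Subgroup G) (dl φ) (x • y)
    rw [coe_normalizer_smul] at e1
    rw [e1, dl_apply, dl_apply, dualAct_apply, inv_inv]
  have hne : ∀ x : ↥(Subgroup.normalizer ((P : Subgroup G) : Set G)), x⁻¹ • φ ≠ 1 := by
    intro x h0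
    apply hφ
    have := congrArg (fun t => x • t) h0
    simp only [smul_inv_smul] at this
    rw [this, dualAct_one]
  have s2 : ∑ y : ↥(P : Subgroup G), dl ψ y * conj (∑ x : ↥(Subgroup.normalizer
      ((P : Subgroup G) : Set G)), Cfsg.extendByZero (P : Subgroup G) (dl φ)
        ((x : G) * (y : G) * (x : G)⁻¹))
      = ∑ x : ↥(Subgroup.normalizer ((P : Subgroup G) : Set G)),
        (Nat.card ↥(P : Subgroup G) : ℂ) * (1 + if ψ = x⁻¹ • φ then 1 else 0) := by
    simp only [s1, map_sum, Finset.mul_sum]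
    rw [Finset.sum_comm]
    refine Finset.sum_congr rfl fun x _ => ?_
    exact sum_dl_mul_conj_dl hψ (hne x)
  rw [s2, ← Finset.mul_sum, Finset.sum_add_distrib]
  simp only [Finset.sum_const, Finset.card_univ, nsmul_eq_mul, mul_one]
  rw [← Nat.card_eq_fintype_card, h.card_normalizer, ← hcC]
  have s3 : ∑ x : ↥(Subgroup.normalizer ((P : Subgroup G) : Set G)),
      (if ψ = x⁻¹ • φ then (1 : ℂ) else 0)
      = if φ ∈ MulAction.orbit (Subgroup.normalizer ((P : Subgroup G) : Set G)) ψ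
        then (cC : ℂ) else 0 := by
    have e2 : ∀ x : ↥(Subgroup.normalizer ((P : Subgroup G) : Set G)),
        (ψ = x⁻¹ • φ) ↔ x • ψ = φ := by
      intro x
      rw [eq_inv_smul_iff]
    simp only [e2]
    rw [Finset.sum_boole]
    split_ifs with ho
    · rw [hcC, ← h.card_stabilizer hψ, ← card_smul_eq ψ φ ho, Nat.card_eq_fintype_card,
        Fintype.card_subtype]
    · rw [Finset.filter_eq_empty_iff.2]
      · simp
      · intro x _ hx
        exact ho ⟨x, hx⟩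
  rw [s3]
  push_cast
  split_ifs
  · field_simp
  · field_simp
    ring

end Cfsg.Agent.Lib.Helper2
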