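import Cfsg.Agent.Lib.Helper2.BFree3
import Cfsg.Agent.Lib.Helper2.CharMore
import Cfsg.Agent.S0198

set_option autoImplicit false
set_option linter.style.haveILetI false
set_option linter.unusedSectionVars false
open Cfsg
open scoped ComplexConjugate

namespace Cfsg.Agent.Lib.Helper2

universe u
variable {G : Type u} [Group G]

theorem classInner_lin_irr [Fintype G] [DecidableEq (IrrCharacter G)]
    (S : Finset (IrrCharacter G)) (c : IrrCharacter G → ℂ) (χ₀ : IrrCharacter G) :
    classInner (∑ χ ∈ S, c χ • (χ : G → ℂ)) (χ₀ : G → ℂ) = if χ₀ ∈ S then c χ₀ else 0 := by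
  classical
  rw [classInner_sum_left]
  have e : ∀ χ ∈ S, classInner (c χ • (χ : G → ℂ)) (χ₀ : G → ℂ) = if χ = χ₀ then c χ else 0 := by
    intro χ _
    rw [classInner_smul_left, Helper7.classInner_irr χ.2 χ₀.2]
    by_cases hχ : χ = χ₀
    · rw [if_pos hχ, if_pos (congrArg Subtype.val hχ), mul_one]
    · rw [if_neg hχ, if_neg (fun h => hχ (Subtype.ext h)), mul_zero]
  rw [Finset.sum_congr rfl e, Finset.sum_ite_eq' S χ₀ c]

theorem classInner_lin_lin [Fintype G] (S : Finset (IrrCharacter G)) (c d : IrrCharacter G → ℂ) :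
    classInner (∑ χ ∈ S, c χ • (χ : G → ℂ)) (∑ χ ∈ S, d χ • (χ : G → ℂ))
      = ∑ χ ∈ S, c χ * conj (d χ) := by
  classical
  rw [classInner_sum_right]
  refine Finset.sum_congr rfl fun χ hχ => ?_
  rw [classInner_smul_right, classInner_lin_irr, if_pos hχ, mul_comm]

/-- The relation between linear characters of `H` used in the statements: conjugacy under
`N(H)`. -/
def NConj (H : Subgroup G) (ψ ψ' : ↥H →* ℂˣ) : Prop :=
  ∃ n : G, n ∈ Subgroup.normalizer (H : Set G) ∧ ∀ w w' : ↥H, (w' : G) = n * w * n⁻¹ → ψ' w' = ψ w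

theorem bA_dl_smul [Finite G] (H : Subgroup G) (x : Subgroup.normalizer (H : Set G))
    (ψ : ↥H →* ℂˣ) {χ : G → ℂ} (hχ : IsClassFunction G χ) :
    letI := dualAct H
    bA H (dl (x • ψ)) χ = bA H (dl ψ) χ := by
  letI := dualAct H
  classical
  haveI : Fintype H := Fintype.ofFinite _
  rw [bA_eq_sum, bA_eq_sum]
  congr 1
  rw [← Equiv.sum_comp (MulAction.toPerm x)]
  refine Finset.sum_congr rfl fun y _ => ?_
  rw [MulAction.toPerm_apply, coe_normalizer_smul, hχ, dl_apply, dl_apply, ← smul_inv',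
    dualAct_apply_smul]

theorem bA_dl_of_nconj [Finite G] (H : Subgroup G) {ψ ψ' : ↥H →* ℂˣ} (h : NConj H ψ ψ')
    {χ : G → ℂ} (hχ : IsClassFunction G χ) : bA H (dl ψ') χ = bA H (dl ψ) χ := by
  letI := dualAct H
  obtain ⟨x, rfl⟩ := (mem_orbit_dualAct_iff H ψ ψ').2 h
  exact bA_dl_smul H x ψ hχ

variable [Finite G] {p : ℕ} [Fact p.Prime] {P : Sylow p G} {m : ℕ} {M : Ideal AlgInt}

theorem FreeHyp.comm' (h : FreeHyp P m) : ∀ a b : ↥(P : Subgroup G), a * b = b * a :=
  fun a b => Subtype.ext (h.comm a a.2 b b.2)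

/-- `∑_{χ ∈ B₀} a_χ(1 - ψ) χ(g) = 0` for `p`-regular `g`. -/
theorem sum_bA_dl_regular (hM : IsPModular p M) (ψ : ↥(P : Subgroup G) →* ℂˣ) {g : G}
    (hg : ¬ p ∣ orderOf g) :
    ∑ χ ∈ pbF M G, bA (P : Subgroup G) (dl ψ) (χ : G → ℂ) * (χ : G → ℂ) g = 0 := by
  apply sum_bA_mul_eq_zero hM P.isPGroup' (dl ψ) (Helper7.isPPart_one_iff.2 hg)
  intro y hy hc
  apply hy
  have : y = 1 := by
    apply Subtype.ext
    exact isConj_one_right.1 hc.symm
  rw [this, dl_one_apply]

/-- Counting the orbits of `N(P)` on the non-principal linear characters of `P`. -/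
theorem FreeHyp.card_orbits (h : FreeHyp P m) :
    letI := dualAct (P : Subgroup G)
    Nat.card {ω : MulAction.orbitRel.Quotient (Subgroup.normalizer ((P : Subgroup G) : Set G))
      (↥(P : Subgroup G) →* ℂˣ) // ω ≠ Quotient.mk'' 1} * m + 1 = Nat.card P := by
  letI := dualAct (P : Subgroup G)
  classical
  haveI : Finite (↥(P : Subgroup G) →* ℂˣ) :=
    Nat.finite_of_card_ne_zero (by
      rw [Helper11.card_hom h.comm']; exact Nat.card_pos.ne')
  haveI : Fintype (MulAction.orbitRel.Quotient (Subgroup.normalizer ((P : Subgroup G) : Set G))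
      (↥(P : Subgroup G) →* ℂˣ)) := Fintype.ofFinite _
  have h1 : Nat.card P = Nat.card (↥(P : Subgroup G) →* ℂˣ) := (Helper11.card_hom h.comm').symm
  rw [h1, Nat.card_congr (MulAction.selfEquivSigmaOrbits
    (Subgroup.normalizer ((P : Subgroup G) : Set G)) (↥(P : Subgroup G) →* ℂˣ)), Nat.card_sigma]
  have hout : ∀ ω : MulAction.orbitRel.Quotient (Subgroup.normalizer ((P : Subgroup G) : Set G))
      (↥(P : Subgroup G) →* ℂˣ), ω.out = 1 ↔ ω = Quotient.mk'' 1 := by
    intro ω
    constructor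
    · intro h0
      rw [← Quotient.out_eq' ω, h0]
    · rintro rfl
      have h2 : (Quotient.mk'' (1 : ↥(P : Subgroup G) →* ℂˣ) : MulAction.orbitRel.Quotient
          (Subgroup.normalizer ((P : Subgroup G) : Set G)) (↥(P : Subgroup G) →* ℂˣ)).out
          ∈ MulAction.orbit (Subgroup.normalizer ((P : Subgroup G) : Set G))
            (1 : ↥(P : Subgroup G) →* ℂˣ) := by
        rw [← MulAction.orbitRel_apply]
        exact Quotient.mk_out (s := MulAction.orbitRel _ _) (1 : ↥(P : Subgroup G) →* ℂˣ)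
      obtain ⟨x, hx⟩ := h2
      rw [← hx]
      exact dualAct_one _ x
  have e : ∀ ω : MulAction.orbitRel.Quotient (Subgroup.normalizer ((P : Subgroup G) : Set G))
      (↥(P : Subgroup G) →* ℂˣ),
      Nat.card (MulAction.orbit (Subgroup.normalizer ((P : Subgroup G) : Set G)) ω.out)
        = if ω = Quotient.mk'' 1 then 1 else m := by
    intro ω
    rw [Nat.card_coe_set_eq]
    split_ifs with hω
    · rw [(hout ω).2 hω]
      have : MulAction.orbit (Subgroup.normalizer ((P : Subgroup G) : Set G))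
          (1 : ↥(P : Subgroup G) →* ℂˣ) = {1} := by
        ext φ
        constructor
        · rintro ⟨x, rfl⟩
          exact dualAct_one _ x
        · rintro rfl
          exact MulAction.mem_orbit_self _
      rw [this, Set.ncard_singleton]
    · exact h.ncard_orbit (fun h0 => hω ((hout ω).1 h0))
  rw [Finset.sum_congr rfl fun ω _ => e ω, Finset.sum_ite, Finset.sum_const, Finset.sum_const,
    Finset.filter_eq' Finset.univ, if_pos (Finset.mem_univ _), Finset.card_singleton,
    Nat.card_eq_fintype_card, Fintype.card_subtype]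
  simp only [smul_eq_mul, mul_one]
  ring

end Cfsg.Agent.Lib.Helper2
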