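import Cfsg.Agent.Lib.Helper2.BFree4

set_option autoImplicit false
set_option linter.style.haveILetI false
set_option linter.unusedSectionVars false
set_option maxHeartbeats 1000000
open Cfsg
open scoped ComplexConjugate

namespace Cfsg.Agent.Lib.Helper2

universe u
variable {G : Type u} [Group G] [Finite G] {p : ℕ} [Fact p.Prime] {P : Sylow p G} {m : ℕ}
  {M : Ideal AlgInt}

/-- The exceptional characters of the principal block. -/
theorem FreeHyp.structure (h : FreeHyp P m) (hM : IsPModular p M) (hr : m + 1 < Nat.card P) :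
    ∃ (ε : ℤ) (ζ : (↥(P : Subgroup G) →* ℂˣ) → IrrCharacter G) (D : IrrCharacter G → ℤ),
      (ε = 1 ∨ ε = -1) ∧
      (∀ ψ, ψ ≠ 1 → ζ ψ ∈ principalBlock M G) ∧
      (∀ ψ φ, ψ ≠ 1 → φ ≠ 1 → (ζ ψ = ζ φ ↔ NConj (P : Subgroup G) ψ φ)) ∧
      (∀ ψ, ψ ≠ 1 → ∀ χ ∈ principalBlock M G, ∀ [Decidable (χ = ζ ψ)],
        bA (P : Subgroup G) (dl ψ) (χ : G → ℂ) = (D χ : ℂ) - if χ = ζ ψ then (ε : ℂ) else 0) := by
  letI := dualAct (P : Subgroup G)
  classical
  haveI := Fintype.ofFinite G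
  haveI : Finite (↥(P : Subgroup G) →* ℂˣ) :=
    Nat.finite_of_card_ne_zero (by
      rw [Helper11.card_hom h.comm']; exact Nat.card_pos.ne')
  obtain ⟨ω₁, hω₁⟩ : ∃ ω₁ : MulAction.orbitRel.Quotient
      (Subgroup.normalizer ((P : Subgroup G) : Set G)) (↥(P : Subgroup G) →* ℂˣ),
      ω₁ = Quotient.mk'' 1 := ⟨_, rfl⟩
  haveI : Fintype {ω : MulAction.orbitRel.Quotient (Subgroup.normalizer ((P : Subgroup G) : Set G))
      (↥(P : Subgroup G) →* ℂˣ) // ω ≠ ω₁} := Fintype.ofFinite _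
  obtain ⟨n, hn⟩ : ∃ n : ℕ, n = Fintype.card {ω : MulAction.orbitRel.Quotient
      (Subgroup.normalizer ((P : Subgroup G) : Set G)) (↥(P : Subgroup G) →* ℂˣ) // ω ≠ ω₁} :=
    ⟨_, rfl⟩
  have hcount : n * m + 1 = Nat.card P := by
    have := h.card_orbits
    rw [← hω₁, Nat.card_eq_fintype_card, ← hn] at this
    exact this
  have hn2 : 2 ≤ n := by
    by_contra hlt
    have h1 : n ≤ 1 := by omega
    have h2 : n * m ≤ 1 * m := Nat.mul_le_mul_right m h1
    omega
  have e : {ω : MulAction.orbitRel.Quotient (Subgroup.normalizer ((P : Subgroup G) : Set G))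
      (↥(P : Subgroup G) →* ℂˣ) // ω ≠ ω₁} ≃ Fin n := by
    rw [hn]; exact Fintype.equivFin _
  obtain ⟨i₀, hi₀⟩ : ∃ i : Fin n, i = ⟨0, by omega⟩ := ⟨_, rfl⟩
  obtain ⟨i₁, hi₁⟩ : ∃ i : Fin n, i = ⟨1, by omega⟩ := ⟨_, rfl⟩
  have hi01 : i₁ ≠ i₀ := by
    rw [hi₀, hi₁]
    intro h0
    simpa using congrArg Fin.val h0
  obtain ⟨rp, hrp⟩ : ∃ rp : Fin n → (↥(P : Subgroup G) →* ℂˣ), rp = fun i => (e.symm i).1.out :=
    ⟨_, rfl⟩
  have hmk : ∀ i, (Quotient.mk'' (rp i) : MulAction.orbitRel.Quotient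
      (Subgroup.normalizer ((P : Subgroup G) : Set G)) (↥(P : Subgroup G) →* ℂˣ))
      = (e.symm i).1 := by
    intro i
    rw [hrp]
    exact Quotient.out_eq' _
  have hrp1 : ∀ i, rp i ≠ 1 := by
    intro i h0
    apply (e.symm i).2
    rw [← hmk i, h0, hω₁]
  have hrporb : ∀ i j, rp j ∈ MulAction.orbit (Subgroup.normalizer ((P : Subgroup G) : Set G))
      (rp i) ↔ i = j := by
    intro i j
    rw [← MulAction.orbitRel_apply, ← Quotient.eq'', hmk, hmk]
    constructor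
    · intro h0
      exact (e.symm.injective (Subtype.ext h0)).symm
    · rintro rfl; rfl
  obtain ⟨V, hV⟩ : ∃ V : (↥(P : Subgroup G) →* ℂˣ) → (G → ℂ), V = fun ψ =>
      ∑ χ ∈ pbF M G, bA (P : Subgroup G) (dl ψ) (χ : G → ℂ) • (χ : G → ℂ) := ⟨_, rfl⟩
  have hVgen : ∀ ψ, IsGeneralizedCharacter G (V ψ) := by
    intro ψ
    rw [hV]
    apply IsGeneralizedCharacter.sum
    intro χ _
    obtain ⟨z, hz⟩ := bA_int (P : Subgroup G) (isGeneralizedCharacter_dl ψ)
      (Helper7.isCharacter_of_irr χ.2)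
    rw [hz]
    exact IsGeneralizedCharacter.zsmul
      (IsCharacter.isGeneralizedCharacter (Helper7.isCharacter_of_irr χ.2)) z
  have hV1 : ∀ ψ, V ψ 1 = 0 := by
    intro ψ
    rw [hV]
    simp only [Finset.sum_apply, Pi.smul_apply, smul_eq_mul]
    exact sum_bA_dl_regular hM ψ (by
      rw [orderOf_one]
      exact fun h => (Fact.out : p.Prime).one_lt.ne' (Nat.dvd_one.1 h))
  have hVV : ∀ i j, classInner (V (rp i)) (V (rp j)) = (m : ℂ) + if i = j then 1 else 0 := by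
    intro i j
    rw [hV]
    simp only
    rw [classInner_lin_lin, h.gram hM (hrp1 i) (hrp1 j)]
    congr 1
    by_cases hij : i = j
    · rw [if_pos hij, if_pos ((hrporb i j).2 hij)]
    · rw [if_neg hij, if_neg (fun h0 => hij ((hrporb i j).1 h0))]
  obtain ⟨ε', hε', μ, hμirr, hμinj, hμ⟩ := Cfsg.Agent.S0198.result n i₀
    (fun i => V (rp i₀) - V (rp i)) (sub_self _)
    (fun i => IsGeneralizedCharacter.sub (hVgen _) (hVgen _))
    (fun i => by rw [Pi.sub_apply, hV1, hV1, sub_zero])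
    (by
      intro i j hi hj
      rw [classInner_sub_left, classInner_sub_right, classInner_sub_right, hVV, hVV, hVV, hVV,
        if_pos rfl, if_neg (Ne.symm hj), if_neg hi]
      split_ifs <;> ring)
  obtain ⟨μ', hμ'⟩ : ∃ μ' : Fin n → IrrCharacter G, μ' = fun i => ⟨μ i, hμirr i⟩ := ⟨_, rfl⟩
  have hμ'c : ∀ i, ((μ' i : IrrCharacter G) : G → ℂ) = μ i := by intro i; rw [hμ']
  have hμ'inj : Function.Injective μ' := by
    intro i j hij
    apply hμinj
    rw [← hμ'c, ← hμ'c, hij]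
  have hcoef : ∀ (i : Fin n) (χ : IrrCharacter G),
      (if χ ∈ pbF M G then bA (P : Subgroup G) (dl (rp i₀)) (χ : G → ℂ)
        - bA (P : Subgroup G) (dl (rp i)) (χ : G → ℂ) else 0)
      = ε' * ((if μ' i = χ then 1 else 0) - (if μ' i₀ = χ then 1 else 0)) := by
    intro i χ
    have h1 : classInner (V (rp i₀) - V (rp i)) (χ : G → ℂ)
        = if χ ∈ pbF M G then bA (P : Subgroup G) (dl (rp i₀)) (χ : G → ℂ)
        - bA (P : Subgroup G) (dl (rp i)) (χ : G → ℂ) else 0 := by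
      rw [classInner_sub_left, hV]
      simp only
      rw [classInner_lin_irr, classInner_lin_irr]
      split_ifs <;> simp
    have h2 : classInner (V (rp i₀) - V (rp i)) (χ : G → ℂ)
        = ε' * ((if μ' i = χ then 1 else 0) - (if μ' i₀ = χ then 1 else 0)) := by
      have := hμ i
      rw [this, classInner_smul_left, classInner_sub_left, Helper7.classInner_irr (hμirr i) χ.2,
        Helper7.classInner_irr (hμirr i₀) χ.2]
      have e1 : ∀ j, (μ j = (χ : G → ℂ)) ↔ μ' j = χ := by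
        intro j
        rw [← hμ'c]
        exact ⟨fun h0 => Subtype.ext h0, fun h0 => congrArg Subtype.val h0⟩
      simp only [e1]
    rw [← h1, h2]
  have hε0 : ε' ≠ 0 := by rcases hε' with h0 | h0 <;> rw [h0] <;> norm_num
  have hμB : ∀ i, μ' i ∈ pbF M G := by
    intro i
    by_contra hni
    by_cases hi : i = i₀
    · have := hcoef i₁ (μ' i)
      rw [if_neg hni, hi, if_neg (fun h0 => hi01 (hμ'inj h0)), if_pos rfl] at this
      apply hε0
      have h3 : ε' * (0 - 1) = 0 := this.symm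
      linear_combination -h3
    · have := hcoef i (μ' i)
      rw [if_neg hni, if_pos rfl, if_neg (fun h0 => hi (hμ'inj h0).symm)] at this
      apply hε0
      have h3 : ε' * (1 - 0) = 0 := this.symm
      linear_combination h3
  obtain ⟨ε, hε, hεc⟩ : ∃ ε : ℤ, (ε = 1 ∨ ε = -1) ∧ (ε : ℂ) = ε' := by
    rcases hε' with h0 | h0
    · exact ⟨1, Or.inl rfl, by rw [h0]; simp⟩
    · exact ⟨-1, Or.inr rfl, by rw [h0]; simp⟩
  choose z₀ hz₀ using fun χ : IrrCharacter G => bA_int (P : Subgroup G)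
    (isGeneralizedCharacter_dl (rp i₀)) (Helper7.isCharacter_of_irr χ.2)
  have hidx : ∀ ψ : ↥(P : Subgroup G) →* ℂˣ, ψ ≠ 1 → (Quotient.mk'' ψ :
      MulAction.orbitRel.Quotient (Subgroup.normalizer ((P : Subgroup G) : Set G))
      (↥(P : Subgroup G) →* ℂˣ)) ≠ ω₁ := by
    intro ψ hψ h0
    rw [hω₁, Quotient.eq'', MulAction.orbitRel_apply] at h0
    obtain ⟨x, hx⟩ := h0
    apply hψ
    rw [← hx]
    exact dualAct_one _ x
  obtain ⟨ix, hix⟩ : ∃ ix : (↥(P : Subgroup G) →* ℂˣ) → Fin n, ix = fun ψ =>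
      if hψ : ψ = 1 then i₀ else e ⟨Quotient.mk'' ψ, hidx ψ hψ⟩ := ⟨_, rfl⟩
  have hixmk : ∀ ψ, ψ ≠ 1 → (Quotient.mk'' (rp (ix ψ)) : MulAction.orbitRel.Quotient
      (Subgroup.normalizer ((P : Subgroup G) : Set G)) (↥(P : Subgroup G) →* ℂˣ))
      = Quotient.mk'' ψ := by
    intro ψ hψ
    rw [hmk, hix]
    simp only [dif_neg hψ, Equiv.symm_apply_apply]
  have hixorb : ∀ ψ, ψ ≠ 1 → NConj (P : Subgroup G) (rp (ix ψ)) ψ := by
    intro ψ hψ
    have := hixmk ψ hψ
    rw [eq_comm, Quotient.eq'', MulAction.orbitRel_apply] at this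
    exact (mem_orbit_dualAct_iff _ _ _).1 this
  refine ⟨ε, fun ψ => μ' (ix ψ), fun χ => z₀ χ + if χ = μ' i₀ then ε else 0, hε, ?_, ?_, ?_⟩
  · intro ψ _
    exact mem_pbF.1 (hμB _)
  · intro ψ φ hψ hφ
    refine Iff.trans ?_ (mem_orbit_dualAct_iff _ ψ φ)
    rw [hμ'inj.eq_iff, ← MulAction.orbitRel_apply, ← Quotient.eq'',
      ← hixmk ψ hψ, ← hixmk φ hφ]
    constructor
    · intro h0; rw [h0]
    · intro h0
      rw [hmk, hmk] at h0
      exact (e.symm.injective (Subtype.ext h0)).symm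
  · intro ψ hψ χ hχ _
    rw [bA_dl_of_nconj _ (hixorb ψ hψ)
      (Helper7.isClassFunction_of_isCharacter (Helper7.isCharacter_of_irr χ.2))]
    have h1 := hcoef (ix ψ) χ
    rw [if_pos (mem_pbF.2 hχ), hz₀] at h1
    push_cast
    rw [hεc]
    have e1 : (if χ = μ' (ix ψ) then ε' else 0) = ε' * (if μ' (ix ψ) = χ then 1 else 0) := by
      by_cases h0 : χ = μ' (ix ψ)
      · rw [if_pos h0, if_pos h0.symm, mul_one]
      · rw [if_neg h0, if_neg (fun h' => h0 h'.symm), mul_zero]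
    have e2 : ((if χ = μ' i₀ then (ε : ℤ) else 0 : ℤ) : ℂ) = ε' * (if μ' i₀ = χ then 1 else 0) := by
      by_cases h0 : χ = μ' i₀
      · rw [if_pos h0, if_pos h0.symm, mul_one, hεc]
      · rw [if_neg h0, if_neg (fun h' => h0 h'.symm), mul_zero]; simp
    have e3 : (if χ = μ' i₀ then (ε' : ℂ) else 0) = ε' * (if μ' i₀ = χ then 1 else 0) := by
      by_cases h0 : χ = μ' i₀
      · rw [if_pos h0, if_pos h0.symm, mul_one]
      · rw [if_neg h0, if_neg (fun h' => h0 h'.symm), mul_zero]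
    first
      | (rw [e1, e3]; linear_combination -h1)
      | (rw [e1, e2]; linear_combination -h1)

end Cfsg.Agent.Lib.Helper2
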