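import Cfsg.Agent.Lib.Helper2.BFree5

set_option autoImplicit false
set_option linter.style.haveILetI false
set_option linter.unusedSectionVars false
set_option maxHeartbeats 1000000
open Cfsg
open scoped ComplexConjugate

namespace Cfsg.Agent.Lib.Helper2

universe u
variable {G : Type u} [Group G] [Finite G] {p : ℕ} [Fact p.Prime] {P : Sylow p G} {m : ℕ}
  {M : Ideal AlgInt}

/-- Characters of the principal block do not vanish on `P`. -/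
theorem FreeHyp.char_ne_zero (h : FreeHyp P m) (hM : IsPModular p M) {y : G}
    (hy : y ∈ (P : Subgroup G)) {χ : IrrCharacter G} (hχ : χ ∈ principalBlock M G) :
    (χ : G → ℂ) y ≠ 0 := by
  intro h0
  have h1 := hχ y
  simp only [centralChar, h0, mul_zero, zero_div, sub_zero, mul_one, div_one] at h1
  have h2 := (Helper7.memLocalIdeal_natCast_iff hM _).1 h1
  have h3 : (Subgroup.centralizer ({y} : Set G)).index ∣ (P : Subgroup G).index :=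
    Subgroup.index_dvd_of_le (h.le_centralizer_singleton hy)
  exact P.not_dvd_index (h2.trans h3)

theorem sum_hom_apply {W : Type*} [Group W] [Finite W] (hc : ∀ a b : W, a * b = b * a)
    [Fintype (W →* ℂˣ)] (x : W) [Decidable (x = 1)] :
    ∑ φ : W →* ℂˣ, ((φ x : ℂˣ) : ℂ) = if x = 1 then (Nat.card W : ℂ) else 0 := by
  classical
  have := Helper11.sum_hom_trivial_on hc ⊥ Finset.univ (by
    intro φ
    simp only [Finset.mem_univ, true_iff, Subgroup.mem_bot]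
    rintro y rfl
    exact map_one φ) x
  rw [this, Finset.card_univ, ← Nat.card_eq_fintype_card, Helper11.card_hom hc]
  simp only [Subgroup.mem_bot]

theorem bA_dl_one (H : Subgroup G) (f : G → ℂ) : bA H (dl (1 : ↥H →* ℂˣ)) f = 0 := by
  classical
  haveI : Fintype H := Fintype.ofFinite _
  rw [bA_eq_sum]
  simp [dl_apply]

theorem bA_dl_const_one (H : Subgroup G) {ψ : ↥H →* ℂˣ} (hψ : ψ ≠ 1) :
    bA H (dl ψ) (fun _ => 1) = 1 := by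
  classical
  haveI : Fintype H := Fintype.ofFinite _
  rw [bA_eq_sum']
  simp only [dl_apply, one_mul, Finset.sum_sub_distrib, sum_hom_eq_zero hψ, sub_zero,
    Finset.sum_const, Finset.card_univ, nsmul_eq_mul, mul_one]
  rw [← Nat.card_eq_fintype_card]
  exact inv_mul_cancel₀ (by exact_mod_cast Nat.card_pos.ne')

/-- Fourier inversion. -/
theorem sum_bA_dl_mul (H : Subgroup G) (hc : ∀ a b : H, a * b = b * a) [Fintype (↥H →* ℂˣ)]
    (f : G → ℂ) {y : H} (hy : y ≠ 1) :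
    ∑ ψ : ↥H →* ℂˣ, bA H (dl ψ) f * ((ψ y : ℂˣ) : ℂ) = - f y := by
  classical
  haveI : Fintype H := Fintype.ofFinite _
  have hH : (Nat.card H : ℂ) ≠ 0 := by exact_mod_cast Nat.card_pos.ne'
  have e1 : ∀ ψ : ↥H →* ℂˣ, bA H (dl ψ) f * ((ψ y : ℂˣ) : ℂ)
      = (Nat.card H : ℂ)⁻¹ * ∑ z : H, f z * (((ψ y : ℂˣ) : ℂ) - ((ψ (z⁻¹ * y) : ℂˣ) : ℂ)) := by
    intro ψ
    rw [bA_eq_sum, mul_assoc, Finset.sum_mul]
    congr 1
    refine Finset.sum_congr rfl fun z _ => ?_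
    rw [dl_apply, map_mul, Units.val_mul]
    ring
  simp only [e1]
  rw [← Finset.mul_sum, Finset.sum_comm]
  have e2 : ∀ z : H, ∑ ψ : ↥H →* ℂˣ, f z * (((ψ y : ℂˣ) : ℂ) - ((ψ (z⁻¹ * y) : ℂˣ) : ℂ))
      = if z = y then - (Nat.card H : ℂ) * f z else 0 := by
    intro z
    rw [← Finset.mul_sum, Finset.sum_sub_distrib, sum_hom_apply hc, sum_hom_apply hc, if_neg hy]
    by_cases hz : z = y
    · rw [if_pos hz, if_pos (by rw [hz, inv_mul_cancel])]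
      ring
    · rw [if_neg hz, if_neg (fun h0 => hz (inv_mul_eq_one.1 h0))]
      ring
  simp only [e2]
  rw [Finset.sum_ite_eq' Finset.univ y, if_pos (Finset.mem_univ _)]
  field_simp

theorem NConj.ne_one {H : Subgroup G} {ψ ψ' : ↥H →* ℂˣ} (h : NConj H ψ ψ') (hψ : ψ ≠ 1) :
    ψ' ≠ 1 := by
  letI := dualAct H
  obtain ⟨x, rfl⟩ := (mem_orbit_dualAct_iff H ψ ψ').2 h
  intro h0
  apply hψ
  have h0' : x • ψ = 1 := h0
  have : x⁻¹ • (x • ψ) = x⁻¹ • (1 : ↥H →* ℂˣ) := by rw [h0']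
  rw [inv_smul_smul, dualAct_one] at this
  exact this

/-- The principal block of a group with an abelian Sylow `p`-subgroup on which `N(P)/C(P)` acts
freely (Brauer–Leonard). -/
theorem FreeHyp.core2 (h : FreeHyp P m) (hM : IsPModular p M) (hr : m + 1 < Nat.card P) :
    ∃ (ε d : ℤ) (ζ : (↥(P : Subgroup G) →* ℂˣ) → IrrCharacter G) (D : IrrCharacter G → ℤ)
      (X Y : Finset (IrrCharacter G)),
      (ε = 1 ∨ ε = -1) ∧
      (∀ χ, χ ∈ principalBlock M G ↔ χ ∈ X ∨ χ ∈ Y) ∧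
      Disjoint X Y ∧
      (∀ η, η ∈ Y ↔ ∃ ψ, ψ ≠ 1 ∧ ζ ψ = η) ∧
      Y.card * m + 1 = Nat.card P ∧
      (∀ ψ φ, ψ ≠ 1 → φ ≠ 1 → (ζ ψ = ζ φ ↔ NConj (P : Subgroup G) ψ φ)) ∧
      (∀ χ : IrrCharacter G, (χ : G → ℂ) = (fun _ => 1) → χ ∈ X ∧ D χ = 1) ∧
      (∀ χ ∈ X, D χ ≠ 0 ∧ ∀ z y : G, IsPPart p z y → y ∈ (P : Subgroup G) → y ≠ 1 →
        (χ : G → ℂ) z = (D χ : ℂ)) ∧
      (∀ ψ, ψ ≠ 1 → ∀ (z : G) (y : ↥(P : Subgroup G)), IsPPart p z (y : G) → (y : G) ≠ 1 →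
        (ζ ψ : G → ℂ) z = (d : ℂ) + (ε : ℂ) *
          ∑ᶠ ψ' ∈ {ψ' : ↥(P : Subgroup G) →* ℂˣ | NConj (P : Subgroup G) ψ ψ'},
            ((ψ' y : ℂˣ) : ℂ)) ∧
      (∑ χ ∈ X, D χ ^ 2 + (Y.card : ℤ) * d ^ 2 = m + 2 * ε * d) ∧
      (∀ η ∈ Y, ∀ η' ∈ Y, ∀ g : G, ¬ p ∣ _root_.orderOf g → (η : G → ℂ) g = (η' : G → ℂ) g) ∧
      (∀ η ∈ Y, ∀ g : G, ¬ p ∣ _root_.orderOf g →
        ∑ χ ∈ X, (D χ : ℂ) * (χ : G → ℂ) g + ((Y.card : ℂ) * d - ε) * (η : G → ℂ) g = 0) ∧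
      (∀ η ∈ Y, D η = d) ∧
      (∀ ψ, ψ ≠ 1 → ∀ χ ∈ principalBlock M G, ∀ [Decidable (χ = ζ ψ)],
        bA (P : Subgroup G) (dl ψ) (χ : G → ℂ) = (D χ : ℂ) - if χ = ζ ψ then (ε : ℂ) else 0) := by
  letI := dualAct (P : Subgroup G)
  classical
  obtain ⟨ε, ζ, D, hε, hζB, hζ, hΔ⟩ := h.structure hM hr
  haveI := hM.2.1.isPrime
  haveI : Finite (↥(P : Subgroup G) →* ℂˣ) :=
    Nat.finite_of_card_ne_zero (by
      rw [Helper11.card_hom h.comm']; exact Nat.card_pos.ne')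
  haveI : Fintype (↥(P : Subgroup G) →* ℂˣ) := Fintype.ofFinite _
  have hε2 : ε * ε = 1 := by rcases hε with h0 | h0 <;> rw [h0] <;> norm_num
  have hεc : (ε : ℂ) * ε = 1 := by exact_mod_cast hε2
  -- the norm equation
  have hnorm : ∀ ψ, ψ ≠ 1 → ∑ χ ∈ pbF M G, D χ ^ 2 = m + 2 * ε * D (ζ ψ) := by
    intro ψ hψ
    have h1 := h.gram hM hψ hψ
    rw [if_pos (MulAction.mem_orbit_self ψ)] at h1
    have h2 : ∑ χ ∈ pbF M G, bA (P : Subgroup G) (dl ψ) (χ : G → ℂ)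
        * conj (bA (P : Subgroup G) (dl ψ) (χ : G → ℂ))
        = ((∑ χ ∈ pbF M G, (D χ ^ 2 - if χ = ζ ψ then 2 * ε * D χ - 1 else 0) : ℤ) : ℂ) := by
      push_cast
      refine Finset.sum_congr rfl fun χ hχ => ?_
      rw [hΔ ψ hψ χ (mem_pbF.1 hχ)]
      by_cases h0 : χ = ζ ψ
      · rw [if_pos h0, if_pos h0, map_sub, map_intCast, map_intCast]
        linear_combination hεc
      · rw [if_neg h0, if_neg h0, map_sub, map_intCast, map_zero]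
        ring
    rw [h2] at h1
    have h3 : (∑ χ ∈ pbF M G, (D χ ^ 2 - if χ = ζ ψ then 2 * ε * D χ - 1 else 0) : ℤ)
        = (m : ℤ) + 1 := by exact_mod_cast h1
    rw [Finset.sum_sub_distrib, Finset.sum_ite_eq' (pbF M G) (ζ ψ),
      if_pos (mem_pbF.2 (hζB ψ hψ))] at h3
    linarith
  obtain ⟨ψ₀, hψ₀⟩ : ∃ ψ₀ : ↥(P : Subgroup G) →* ℂˣ, ψ₀ ≠ 1 := by
    obtain ⟨y, hy, hy1⟩ := h.exists_ne_one
    obtain ⟨φ, -, hφ⟩ := Helper11.exists_hom_ne_one h.comm' ⊥ (x := ⟨y, hy⟩) (by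
      rw [Subgroup.mem_bot]
      intro h0
      exact hy1 (congrArg Subtype.val h0))
    refine ⟨φ, fun h0 => hφ ?_⟩
    rw [h0]; rfl
  have hd : ∀ ψ, ψ ≠ 1 → D (ζ ψ) = D (ζ ψ₀) := by
    intro ψ hψ
    have h1 := hnorm ψ hψ
    rw [hnorm ψ₀ hψ₀] at h1
    have h2 : ε * D (ζ ψ) = ε * D (ζ ψ₀) := by linarith
    have h3 : ε * (ε * D (ζ ψ)) = ε * (ε * D (ζ ψ₀)) := by rw [h2]
    rw [← mul_assoc, ← mul_assoc, hε2, one_mul, one_mul] at h3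
    exact h3
  obtain ⟨S, hS⟩ : ∃ S : Finset (↥(P : Subgroup G) →* ℂˣ), S = Finset.univ.erase 1 := ⟨_, rfl⟩
  have hmemS : ∀ ψ, ψ ∈ S ↔ ψ ≠ 1 := by
    intro ψ; rw [hS]; simp
  obtain ⟨Y, hY⟩ : ∃ Y : Finset (IrrCharacter G), Y = S.image ζ := ⟨_, rfl⟩
  have hmemY : ∀ η, η ∈ Y ↔ ∃ ψ, ψ ≠ 1 ∧ ζ ψ = η := by
    intro η
    rw [hY, Finset.mem_image]
    simp only [hmemS]
  have hYB : Y ⊆ pbF M G := by
    intro η hη
    obtain ⟨ψ, hψ, rfl⟩ := (hmemY η).1 hη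
    exact mem_pbF.2 (hζB ψ hψ)
  have hfib : ∀ ψ, ψ ≠ 1 → ((S.filter (fun φ => ζ ψ = ζ φ) : Finset _) : Set _)
      = {ψ' : ↥(P : Subgroup G) →* ℂˣ | NConj (P : Subgroup G) ψ ψ'} := by
    intro ψ hψ
    ext φ
    simp only [Finset.coe_filter, Set.mem_ofPred_eq, hmemS]
    constructor
    · rintro ⟨h1, h2⟩
      exact (hζ ψ φ hψ h1).1 h2
    · intro h1
      exact ⟨h1.ne_one hψ, (hζ ψ φ hψ (h1.ne_one hψ)).2 h1⟩
  have hcardY : Y.card * m + 1 = Nat.card P := by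
    have h1 := Finset.card_eq_sum_card_image ζ S
    rw [← hY] at h1
    have h2 : ∀ η ∈ Y, (S.filter (fun φ => ζ φ = η)).card = m := by
      intro η hη
      obtain ⟨ψ, hψ, rfl⟩ := (hmemY η).1 hη
      rw [← h.ncard_orbit hψ, ← Set.ncard_coe_finset]
      congr 1
      have := hfib ψ hψ
      ext φ
      rw [mem_orbit_dualAct_iff]
      have h3 := Set.ext_iff.1 this φ
      simp only [Finset.coe_filter, Set.mem_ofPred_eq] at h3 ⊢
      rw [← NConj, ← h3]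
      simp only [eq_comm]
    rw [Finset.sum_congr rfl h2, Finset.sum_const, smul_eq_mul, hS,
      Finset.card_erase_of_mem (Finset.mem_univ _), Finset.card_univ,
      ← Nat.card_eq_fintype_card, Helper11.card_hom h.comm'] at h1
    have : 0 < Nat.card (P : Subgroup G) := Nat.card_pos
    have h4 : Nat.card P = Nat.card (P : Subgroup G) := rfl
    omega
  have hY2 : 2 ≤ Y.card := by
    by_contra hlt
    have h1 : Y.card ≤ 1 := by omega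
    have h2 : Y.card * m ≤ 1 * m := Nat.mul_le_mul_right m h1
    omega
  -- the principal character
  have hone : ∀ χ : IrrCharacter G, (χ : G → ℂ) = (fun _ => 1) → χ ∉ Y ∧ D χ = 1 := by
    intro χ hχ
    have hχB : χ ∈ principalBlock M G := by
      have := Helper24.oneIrr_mem_principalBlock (G := G) (M := M)
      have e : χ = Helper24.oneIrr G := Subtype.ext hχ
      rw [e]; exact this
    have h1 : ∀ ψ, ψ ≠ 1 → (D χ : ℂ) - (if χ = ζ ψ then (ε : ℂ) else 0) = 1 := by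
      intro ψ hψ
      rw [← hΔ ψ hψ χ hχB, hχ, bA_dl_const_one _ hψ]
    obtain ⟨η, hη, hηχ⟩ : ∃ η ∈ Y, η ≠ χ := by
      by_contra hcon
      push Not at hcon
      have : Y ⊆ {χ} := fun η hη => Finset.mem_singleton.2 (hcon η hη)
      have := Finset.card_le_card this
      rw [Finset.card_singleton] at this
      omega
    obtain ⟨ψ, hψ, rfl⟩ := (hmemY η).1 hη
    have h2 := h1 ψ hψ
    rw [if_neg (Ne.symm hηχ), sub_zero] at h2
    have h3 : D χ = 1 := by exact_mod_cast h2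
    refine ⟨fun hχY => ?_, h3⟩
    obtain ⟨φ, hφ, hφχ⟩ := (hmemY χ).1 hχY
    have h4 := h1 φ hφ
    rw [if_pos hφχ.symm, h2] at h4
    have h5 : (ε : ℂ) = 0 := by linear_combination -h4
    rw [h5] at hεc
    norm_num at hεc
  -- values on `P`
  have hval : ∀ χ ∈ principalBlock M G, ∀ y : ↥(P : Subgroup G), y ≠ 1 →
      (χ : G → ℂ) y = (D χ : ℂ) + ε * ∑ ψ ∈ S.filter (fun φ => χ = ζ φ), ((ψ y : ℂˣ) : ℂ) := by
    intro χ hχ y hy
    have h1 := sum_bA_dl_mul (P : Subgroup G) h.comm' (χ : G → ℂ) hy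
    rw [← Finset.add_sum_erase _ _ (Finset.mem_univ (1 : ↥(P : Subgroup G) →* ℂˣ)), bA_dl_one,
      zero_mul, zero_add, ← hS] at h1
    have h2 : ∑ ψ ∈ S, ((ψ y : ℂˣ) : ℂ) = -1 := by
      have := sum_hom_apply h.comm' y
      rw [if_neg hy, ← Finset.add_sum_erase _ _ (Finset.mem_univ (1 : ↥(P : Subgroup G) →* ℂˣ)),
        ← hS] at this
      simp only [MonoidHom.one_apply, Units.val_one] at this
      linear_combination this
    have h3 : ∑ ψ ∈ S, bA (P : Subgroup G) (dl ψ) (χ : G → ℂ) * ((ψ y : ℂˣ) : ℂ)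
        = (D χ : ℂ) * ∑ ψ ∈ S, ((ψ y : ℂˣ) : ℂ)
          - ε * ∑ ψ ∈ S.filter (fun φ => χ = ζ φ), ((ψ y : ℂˣ) : ℂ) := by
      rw [Finset.mul_sum, Finset.mul_sum, Finset.sum_filter, ← Finset.sum_sub_distrib]
      refine Finset.sum_congr rfl fun ψ hψ => ?_
      rw [hΔ ψ ((hmemS ψ).1 hψ) χ hχ]
      split_ifs <;> ring
    rw [h3, h2] at h1
    linear_combination h1
  -- `p`-regular elements
  have hreg : ∀ ψ, ψ ≠ 1 → ∀ g : G, ¬ p ∣ _root_.orderOf g →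
      ∑ χ ∈ pbF M G, (D χ : ℂ) * (χ : G → ℂ) g = ε * (ζ ψ : G → ℂ) g := by
    intro ψ hψ g hg
    have h1 := sum_bA_dl_regular (P := P) hM ψ hg
    have h2 : ∑ χ ∈ pbF M G, bA (P : Subgroup G) (dl ψ) (χ : G → ℂ) * (χ : G → ℂ) g
        = ∑ χ ∈ pbF M G, ((D χ : ℂ) * (χ : G → ℂ) g
          - if χ = ζ ψ then (ε : ℂ) * (χ : G → ℂ) g else 0) := by
      refine Finset.sum_congr rfl fun χ hχ => ?_
      rw [hΔ ψ hψ χ (mem_pbF.1 hχ)]
      split_ifs <;> ring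
    rw [h2, Finset.sum_sub_distrib, Finset.sum_ite_eq' (pbF M G) (ζ ψ),
      if_pos (mem_pbF.2 (hζB ψ hψ))] at h1
    linear_combination h1
  have hYreg : ∀ η ∈ Y, ∀ η' ∈ Y, ∀ g : G, ¬ p ∣ _root_.orderOf g →
      (η : G → ℂ) g = (η' : G → ℂ) g := by
    intro η hη η' hη' g hg
    obtain ⟨ψ, hψ, rfl⟩ := (hmemY η).1 hη
    obtain ⟨φ, hφ, rfl⟩ := (hmemY η').1 hη'
    have h1 := hreg ψ hψ g hg
    rw [hreg φ hφ g hg] at h1
    have h2 : (ε : ℂ) * (ε * (ζ φ : G → ℂ) g) = ε * (ε * (ζ ψ : G → ℂ) g) := by rw [h1]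
    rw [← mul_assoc, ← mul_assoc, hεc, one_mul, one_mul] at h2
    exact h2.symm
  refine ⟨ε, D (ζ ψ₀), ζ, D, pbF M G \ Y, Y, hε, ?_, Finset.sdiff_disjoint, hmemY, hcardY, hζ,
    ?_, ?_, ?_, ?_, hYreg, ?_, ?_, hΔ⟩
  · intro χ
    rw [Finset.mem_sdiff, mem_pbF]
    constructor
    · intro h1
      by_cases h2 : χ ∈ Y
      · exact Or.inr h2
      · exact Or.inl ⟨h1, h2⟩
    · rintro (h1 | h1)
      · exact h1.1
      · exact mem_pbF.1 (hYB h1)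
  · intro χ hχ
    refine ⟨Finset.mem_sdiff.2 ⟨mem_pbF.2 ?_, (hone χ hχ).1⟩, (hone χ hχ).2⟩
    have := Helper24.oneIrr_mem_principalBlock (G := G) (M := M)
    have e : χ = Helper24.oneIrr G := Subtype.ext hχ
    rw [e]; exact this
  · intro χ hχ
    rw [Finset.mem_sdiff, mem_pbF] at hχ
    have hv : ∀ y : G, y ∈ (P : Subgroup G) → y ≠ 1 → (χ : G → ℂ) y = (D χ : ℂ) := by
      intro y hy hy1
      have h1 := hval χ hχ.1 ⟨y, hy⟩ (fun h0 => hy1 (congrArg Subtype.val h0))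
      rw [Finset.filter_false_of_mem, Finset.sum_empty, mul_zero, add_zero] at h1
      · exact h1
      · intro φ hφ h0
        exact hχ.2 ((hmemY χ).2 ⟨φ, (hmemS φ).1 hφ, h0.symm⟩)
    constructor
    · intro h0
      obtain ⟨y, hy, hy1⟩ := h.exists_ne_one
      apply h.char_ne_zero hM hy hχ.1
      rw [hv y hy hy1, h0, Int.cast_zero]
    · intro z y hz hy hy1
      rw [h.section_const hM hy hy1 hz hχ.1, hv y hy hy1]
  · intro ψ hψ z y hz hy1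
    rw [h.section_const hM y.2 hy1 hz (hζB ψ hψ),
      hval (ζ ψ) (hζB ψ hψ) y (fun h0 => hy1 (by rw [h0]; rfl)), hd ψ hψ, ← hfib ψ hψ,
      finsum_mem_coe_finset]
  · have h1 := hnorm ψ₀ hψ₀
    rw [← Finset.sum_sdiff hYB] at h1
    rw [← h1]
    congr 1
    rw [Finset.sum_congr rfl (g := fun _ => D (ζ ψ₀) ^ 2), Finset.sum_const, nsmul_eq_mul]
    intro η hη
    obtain ⟨ψ, hψ, rfl⟩ := (hmemY η).1 hη
    rw [hd ψ hψ]
  · intro η hη g hg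
    obtain ⟨ψ, hψ, rfl⟩ := (hmemY η).1 hη
    have h1 := hreg ψ hψ g hg
    rw [← Finset.sum_sdiff hYB] at h1
    have h2 : ∑ χ ∈ Y, (D χ : ℂ) * (χ : G → ℂ) g
        = (Y.card : ℂ) * (D (ζ ψ₀) : ℂ) * (ζ ψ : G → ℂ) g := by
      rw [Finset.sum_congr rfl (g := fun _ => (D (ζ ψ₀) : ℂ) * (ζ ψ : G → ℂ) g), Finset.sum_const,
        nsmul_eq_mul, mul_assoc]
      intro η' hη'
      rw [hYreg η' hη' (ζ ψ) hη g hg]
      obtain ⟨φ, hφ, rfl⟩ := (hmemY η').1 hη'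
      rw [hd φ hφ]
    rw [h2] at h1
    linear_combination h1
  · intro η hη
    obtain ⟨ψ, hψ, rfl⟩ := (hmemY η).1 hη
    exact hd ψ hψ

theorem FreeHyp.core (h : FreeHyp P m) (hM : IsPModular p M) (hr : m + 1 < Nat.card P) :
    ∃ (ε d : ℤ) (ζ : (↥(P : Subgroup G) →* ℂˣ) → IrrCharacter G) (D : IrrCharacter G → ℤ)
      (X Y : Finset (IrrCharacter G)),
      (ε = 1 ∨ ε = -1) ∧
      (∀ χ, χ ∈ principalBlock M G ↔ χ ∈ X ∨ χ ∈ Y) ∧
      Disjoint X Y ∧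
      (∀ η, η ∈ Y ↔ ∃ ψ, ψ ≠ 1 ∧ ζ ψ = η) ∧
      Y.card * m + 1 = Nat.card P ∧
      (∀ ψ φ, ψ ≠ 1 → φ ≠ 1 → (ζ ψ = ζ φ ↔ NConj (P : Subgroup G) ψ φ)) ∧
      (∀ χ : IrrCharacter G, (χ : G → ℂ) = (fun _ => 1) → χ ∈ X ∧ D χ = 1) ∧
      (∀ χ ∈ X, D χ ≠ 0 ∧ ∀ z y : G, IsPPart p z y → y ∈ (P : Subgroup G) → y ≠ 1 →
        (χ : G → ℂ) z = (D χ : ℂ)) ∧
      (∀ ψ, ψ ≠ 1 → ∀ (z : G) (y : ↥(P : Subgroup G)), IsPPart p z (y : G) → (y : G) ≠ 1 →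
        (ζ ψ : G → ℂ) z = (d : ℂ) + (ε : ℂ) *
          ∑ᶠ ψ' ∈ {ψ' : ↥(P : Subgroup G) →* ℂˣ | NConj (P : Subgroup G) ψ ψ'},
            ((ψ' y : ℂˣ) : ℂ)) ∧
      (∑ χ ∈ X, D χ ^ 2 + (Y.card : ℤ) * d ^ 2 = m + 2 * ε * d) ∧
      (∀ η ∈ Y, ∀ η' ∈ Y, ∀ g : G, ¬ p ∣ _root_.orderOf g → (η : G → ℂ) g = (η' : G → ℂ) g) ∧
      (∀ η ∈ Y, ∀ g : G, ¬ p ∣ _root_.orderOf g →
        ∑ χ ∈ X, (D χ : ℂ) * (χ : G → ℂ) g + ((Y.card : ℂ) * d - ε) * (η : G → ℂ) g = 0) := by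
  obtain ⟨ε, d, ζ, D, X, Y, h1, h2, h3, h4, h5, h6, h7, h8, h9, h10, h11, h12, -, -⟩ :=
    h.core2 hM hr
  exact ⟨ε, d, ζ, D, X, Y, h1, h2, h3, h4, h5, h6, h7, h8, h9, h10, h11, h12⟩

end Cfsg.Agent.Lib.Helper2
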