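import Cfsg.Agent.Lib.Helper2.BFree6

set_option autoImplicit false
set_option linter.style.haveILetI false
set_option linter.unusedSectionVars false
set_option maxHeartbeats 1000000
open Cfsg
open scoped ComplexConjugate

namespace Cfsg.Agent.Lib.Helper2

universe u
variable {G : Type u} [Group G] [Finite G] {p : ℕ} [Fact p.Prime] {P : Sylow p G} {m : ℕ}
  {M : Ideal AlgInt}

/-- The values on `P` from the coefficients `a_χ(1 - ψ)`. -/
theorem FreeHyp.val_of_bA (h : FreeHyp P m) (χ : IrrCharacter G) (A ε : ℂ)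
    (ζ : (↥(P : Subgroup G) →* ℂˣ) → IrrCharacter G)
    (hΔ : ∀ ψ, ψ ≠ 1 → ∀ [Decidable (χ = ζ ψ)],
      bA (P : Subgroup G) (dl ψ) (χ : G → ℂ) = A - if χ = ζ ψ then ε else 0)
    {y : ↥(P : Subgroup G)} (hy : y ≠ 1) :
    (χ : G → ℂ) y = A + ε * ∑ᶠ ψ ∈ {ψ : ↥(P : Subgroup G) →* ℂˣ | ψ ≠ 1 ∧ χ = ζ ψ},
      ((ψ y : ℂˣ) : ℂ) := by
  classical
  haveI : Finite (↥(P : Subgroup G) →* ℂˣ) :=
    Nat.finite_of_card_ne_zero (by
      rw [Helper11.card_hom h.comm']; exact Nat.card_pos.ne')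
  haveI : Fintype (↥(P : Subgroup G) →* ℂˣ) := Fintype.ofFinite _
  obtain ⟨S, hS⟩ : ∃ S : Finset (↥(P : Subgroup G) →* ℂˣ), S = Finset.univ.erase 1 := ⟨_, rfl⟩
  have hmemS : ∀ ψ, ψ ∈ S ↔ ψ ≠ 1 := by
    intro ψ; rw [hS]; simp
  have hset : {ψ : ↥(P : Subgroup G) →* ℂˣ | ψ ≠ 1 ∧ χ = ζ ψ}
      = ((S.filter (fun φ => χ = ζ φ) : Finset _) : Set _) := by
    ext φ
    simp only [Finset.coe_filter, Set.mem_ofPred_eq, hmemS]
  rw [hset, finsum_mem_coe_finset]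
  have h1 := sum_bA_dl_mul (P : Subgroup G) h.comm' (χ : G → ℂ) hy
  rw [← Finset.add_sum_erase _ _ (Finset.mem_univ (1 : ↥(P : Subgroup G) →* ℂˣ)), bA_dl_one,
    zero_mul, zero_add, ← hS] at h1
  have h2 : ∑ ψ ∈ S, ((ψ y : ℂˣ) : ℂ) = -1 := by
    have := sum_hom_apply h.comm' y
    rw [if_neg hy, ← Finset.add_sum_erase _ _ (Finset.mem_univ (1 : ↥(P : Subgroup G) →* ℂˣ)),
      ← hS] at this
    simp only [MonoidHom.one_apply, Units.val_one] at this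
    linear_combination this
  have h3 : ∑ ψ ∈ S, bA (P : Subgroup G) (dl ψ) (χ : G → ℂ) * ((ψ y : ℂˣ) : ℂ)
      = A * ∑ ψ ∈ S, ((ψ y : ℂˣ) : ℂ)
        - ε * ∑ ψ ∈ S.filter (fun φ => χ = ζ φ), ((ψ y : ℂˣ) : ℂ) := by
    rw [Finset.mul_sum, Finset.mul_sum, Finset.sum_filter, ← Finset.sum_sub_distrib]
    refine Finset.sum_congr rfl fun ψ hψ => ?_
    rw [hΔ ψ ((hmemS ψ).1 hψ)]
    split_ifs <;> ring
  rw [h3, h2] at h1
  linear_combination h1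

/-- The case `|N(P) : C(P)| = 3`. -/
theorem FreeHyp.core3 (h : FreeHyp P 3) (hM : IsPModular p M) (hr : 3 + 1 < Nat.card P) :
    ∃ (ε a₂ a₃ : ℤ) (ζ : (↥(P : Subgroup G) →* ℂˣ) → IrrCharacter G) (χ₂ χ₃ : IrrCharacter G)
      (Y : Finset (IrrCharacter G)),
      (ε = 1 ∨ ε = -1) ∧ (a₂ = 1 ∨ a₂ = -1) ∧ (a₃ = 1 ∨ a₃ = -1) ∧
      (∀ χ, χ ∈ principalBlock M G ↔ χ = Helper24.oneIrr G ∨ χ = χ₂ ∨ χ = χ₃ ∨ χ ∈ Y) ∧
      χ₂ ≠ Helper24.oneIrr G ∧ χ₃ ≠ Helper24.oneIrr G ∧ χ₂ ≠ χ₃ ∧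
      Helper24.oneIrr G ∉ Y ∧ χ₂ ∉ Y ∧ χ₃ ∉ Y ∧
      (∀ η, η ∈ Y ↔ ∃ ψ, ψ ≠ 1 ∧ ζ ψ = η) ∧
      Y.card * 3 + 1 = Nat.card P ∧
      (∀ ψ φ, ψ ≠ 1 → NConj (P : Subgroup G) ψ φ → ζ φ = ζ ψ) ∧
      (∀ z y : G, IsPPart p z y → y ∈ (P : Subgroup G) → y ≠ 1 → (χ₂ : G → ℂ) z = (a₂ : ℂ)) ∧
      (∀ z y : G, IsPPart p z y → y ∈ (P : Subgroup G) → y ≠ 1 → (χ₃ : G → ℂ) z = (a₃ : ℂ)) ∧
      (∀ ψ, ψ ≠ 1 → ∀ (z : G) (y : ↥(P : Subgroup G)), IsPPart p z (y : G) → (y : G) ≠ 1 →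
        (ζ ψ : G → ℂ) z = (ε : ℂ) *
          ∑ᶠ ψ' ∈ {ψ' : ↥(P : Subgroup G) →* ℂˣ | NConj (P : Subgroup G) ψ ψ'},
            ((ψ' y : ℂˣ) : ℂ)) ∧
      (∀ η ∈ Y, ∀ η' ∈ Y, ∀ g : G, ¬ p ∣ _root_.orderOf g → (η : G → ℂ) g = (η' : G → ℂ) g) ∧
      (∀ ψ, ψ ≠ 1 → ∀ f : IrrCharacter G → ℂ,
        ∑ χ ∈ pbF M G, bA (P : Subgroup G) (dl ψ) (χ : G → ℂ) * f χ
          = f (Helper24.oneIrr G) + a₂ * f χ₂ + a₃ * f χ₃ - ε * f (ζ ψ)) := by
  classical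
  obtain ⟨ε, d, ζ, D, X, Y, hε, hB, hdisj, hmemY, hcard, hζ, hone, hX, hYv, hnorm, hYreg, hrel,
    hDY, hΔ⟩ := h.core2 hM hr
  obtain ⟨o, ho⟩ : ∃ o : IrrCharacter G, o = Helper24.oneIrr G := ⟨_, rfl⟩
  rw [← ho]
  have ho1 : (o : G → ℂ) = fun _ => 1 := by rw [ho]; rfl
  have hoX : o ∈ X := (hone o ho1).1
  have hDo : D o = 1 := (hone o ho1).2
  have hε2 : ε * ε = 1 := by rcases hε with h0 | h0 <;> rw [h0] <;> norm_num
  have hY2 : 2 ≤ Y.card := by omega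
  obtain ⟨s, hs⟩ : ∃ s : ℤ, s = ∑ χ ∈ X, D χ ^ 2 := ⟨_, rfl⟩
  have hsle : ∀ χ ∈ X, D χ ^ 2 ≤ s := by
    intro χ hχ
    rw [hs]
    exact Finset.single_le_sum (f := fun χ => D χ ^ 2) (fun i _ => sq_nonneg _) hχ
  have hs1 : 1 ≤ s := by
    have := hsle o hoX
    rw [hDo] at this
    linarith
  obtain ⟨r, hrr⟩ : ∃ r : ℤ, r = (Y.card : ℤ) := ⟨_, rfl⟩
  have hr2 : 2 ≤ r := by rw [hrr]; exact_mod_cast hY2
  obtain ⟨d', hd'⟩ : ∃ d' : ℤ, d' = ε * d := ⟨_, rfl⟩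
  have hdd : d = ε * d' := by rw [hd', ← mul_assoc, hε2, one_mul]
  have hn' : s + r * d' ^ 2 = 3 + 2 * d' := by
    have : d' ^ 2 = d ^ 2 := by rw [hd']; linear_combination d ^ 2 * hε2
    rw [this, hs, hrr, hd']
    push_cast at hnorm
    linear_combination hnorm
  have hd1 : d' ≤ 1 := by
    by_contra hlt
    have : 2 ≤ d' := by omega
    nlinarith [mul_nonneg (sub_nonneg.2 hr2) (sq_nonneg d')]
  have hd0 : 0 ≤ d' := by
    by_contra hlt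
    have : d' ≤ -1 := by omega
    nlinarith [mul_nonneg (sub_nonneg.2 hr2) (sq_nonneg d')]
  -- the two possible cases
  have hcases : s = 3 ∧ (d = 0 ∨ (d = ε ∧ Y.card = 2)) := by
    have h01 : d' = 0 ∨ d' = 1 := by omega
    rcases h01 with h0 | h0
    · rw [h0] at hn' hdd
      refine ⟨by linarith, Or.inl (by rw [hdd, mul_zero])⟩
    · rw [h0] at hn' hdd
      rw [mul_one] at hdd
      have hsr : s + r = 5 := by linarith
      have hr4 : r ≤ 4 := by linarith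
      have hY4 : Y.card ≤ 4 := by
        have : (Y.card : ℤ) ≤ 4 := by rw [← hrr]; exact hr4
        exact_mod_cast this
      have h234 : Y.card = 2 ∨ Y.card = 3 ∨ Y.card = 4 := by omega
      rcases h234 with h2 | h3 | h4
      · refine ⟨?_, Or.inr ⟨hdd, h2⟩⟩
        rw [hrr, h2] at hsr
        push_cast at hsr
        linarith
      · exfalso
        rw [h3] at hcard
        obtain ⟨k, hk⟩ := IsPGroup.iff_card.1 P.isPGroup'
        have hk' : p ^ k = 10 := by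
          have e : Nat.card P = Nat.card (P : Subgroup G) := rfl
          omega
        have hp : p.Prime := Fact.out
        have e2 : p = 2 := by
          have : 2 ∣ p ^ k := by rw [hk']; norm_num
          exact ((Nat.prime_dvd_prime_iff_eq Nat.prime_two hp).1
            (Nat.prime_two.dvd_of_dvd_pow this)).symm
        have e5 : p = 5 := by
          have : 5 ∣ p ^ k := by rw [hk']; norm_num
          exact ((Nat.prime_dvd_prime_iff_eq Nat.prime_five hp).1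
            (Nat.prime_five.dvd_of_dvd_pow this)).symm
        omega
      · exfalso
        have hs1' : s = 1 := by
          rw [hrr, h4] at hsr
          push_cast at hsr
          linarith
        have hXcard : (X.card : ℤ) ≤ s := by
          rw [hs, Finset.card_eq_sum_ones]
          push_cast
          apply Finset.sum_le_sum
          intro χ hχ
          have := (hX χ hχ).1
          have h2 : 0 < D χ ^ 2 := by positivity
          omega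
        have hX1 : X.card ≤ 1 := by
          have : (X.card : ℤ) ≤ 1 := by rw [← hs1']; exact hXcard
          exact_mod_cast this
        have hXo : X = {o} := by
          apply Finset.eq_singleton_iff_unique_mem.2
          refine ⟨hoX, fun χ hχ => Finset.card_le_one.1 hX1 χ hχ o hoX⟩
        obtain ⟨η, hη⟩ : ∃ η, η ∈ Y := Finset.card_pos.1 (by omega)
        have h5 := hrel η hη 1 (by
          rw [orderOf_one]
          exact fun h => (Fact.out : p.Prime).one_lt.ne' (Nat.dvd_one.1 h))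
        rw [hXo, Finset.sum_singleton, hDo, ho1, h4, hdd,
          ← Helper7.charDegree_cast (Helper7.isCharacter_of_irr η.2)] at h5
        beta_reduce at h5
        have h6 : (1 : ℤ) * 1 + ((4 : ℕ) * ε - ε) * (charDegree (η : G → ℂ) : ℤ) = 0 := by
          exact_mod_cast h5
        rcases hε with h0 | h0 <;> rw [h0] at h6 <;> omega
  obtain ⟨hs3, hcase⟩ := hcases
  have hD1 : ∀ χ ∈ X, D χ = 1 ∨ D χ = -1 := by
    intro χ hχ
    have h1 := hsle χ hχ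
    have h2 := (hX χ hχ).1
    rw [hs3] at h1
    have h3 : D χ ≤ 1 := by nlinarith
    have h4 : -1 ≤ D χ := by nlinarith
    omega
  have hXcard : X.card = 3 := by
    have : (X.card : ℤ) = 3 := by
      rw [← hs3, hs, Finset.card_eq_sum_ones]
      push_cast
      refine Finset.sum_congr rfl fun χ hχ => ?_
      rcases hD1 χ hχ with h0 | h0 <;> rw [h0] <;> norm_num
    exact_mod_cast this
  obtain ⟨χ₂, χ₃, h23, hXe⟩ : ∃ χ₂ χ₃, χ₂ ≠ χ₃ ∧ X.erase o = {χ₂, χ₃} := by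
    apply Finset.card_eq_two.1
    rw [Finset.card_erase_of_mem hoX, hXcard]
  have hχ₂ : χ₂ ∈ X.erase o := by rw [hXe]; simp
  have hχ₃ : χ₃ ∈ X.erase o := by rw [hXe]; simp
  have hXmem : ∀ χ, χ ∈ X ↔ χ = o ∨ χ = χ₂ ∨ χ = χ₃ := by
    intro χ
    by_cases hχo : χ = o
    · simp [hχo, hoX]
    · have : χ ∈ X.erase o ↔ χ ∈ X := by simp [hχo]
      rw [← this, hXe]
      simp [hχo]
  have hXY : ∀ χ ∈ X, χ ∉ Y := fun χ hχ hχ' => Finset.disjoint_left.1 hdisj hχ hχ'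
  -- normalisation
  have key : ∃ (ε' : ℤ) (ζ' : (↥(P : Subgroup G) →* ℂˣ) → IrrCharacter G),
      (ε' = 1 ∨ ε' = -1) ∧ (∀ η, η ∈ Y ↔ ∃ ψ, ψ ≠ 1 ∧ ζ' ψ = η) ∧
      (∀ ψ φ, ψ ≠ 1 → φ ≠ 1 → (ζ' ψ = ζ' φ ↔ NConj (P : Subgroup G) ψ φ)) ∧
      (∀ ψ, ψ ≠ 1 → ∀ χ ∈ principalBlock M G,
        bA (P : Subgroup G) (dl ψ) (χ : G → ℂ)
          = (if χ ∈ X then (D χ : ℂ) else 0) - if χ = ζ' ψ then (ε' : ℂ) else 0) := by
    rcases hcase with hd | ⟨hd, hY2'⟩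
    · refine ⟨ε, ζ, hε, hmemY, hζ, ?_⟩
      intro ψ hψ χ hχ
      rw [hΔ ψ hψ χ hχ]
      by_cases hχX : χ ∈ X
      · rw [if_pos hχX]
      · rw [if_neg hχX]
        have hχY : χ ∈ Y := ((hB χ).1 hχ).resolve_left hχX
        rw [hDY χ hχY, hd, Int.cast_zero]
    · obtain ⟨η₁, η₂, h12, hYe⟩ := Finset.card_eq_two.1 hY2'
      have hYm : ∀ η, η ∈ Y ↔ η = η₁ ∨ η = η₂ := by
        intro η; rw [hYe]; simp
      obtain ⟨σ, hσ1, hσ2⟩ : ∃ σ : IrrCharacter G → IrrCharacter G, σ η₁ = η₂ ∧ σ η₂ = η₁ :=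
        ⟨fun η => if η = η₁ then η₂ else η₁, by simp, by simp [Ne.symm h12]⟩
      refine ⟨-ε, fun ψ => σ (ζ ψ), ?_, ?_, ?_, ?_⟩
      · rcases hε with h0 | h0 <;> rw [h0] <;> simp
      · intro η
        constructor
        · intro hη
          rcases (hYm η).1 hη with rfl | rfl
          · obtain ⟨ψ, hψ, h1⟩ := (hmemY η₂).1 ((hYm _).2 (Or.inr rfl))
            exact ⟨ψ, hψ, by simp only [h1, hσ2]⟩
          · obtain ⟨ψ, hψ, h1⟩ := (hmemY η₁).1 ((hYm _).2 (Or.inl rfl))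
            exact ⟨ψ, hψ, by simp only [h1, hσ1]⟩
        · rintro ⟨ψ, hψ, rfl⟩
          rw [hYm]
          rcases (hYm _).1 ((hmemY _).2 ⟨ψ, hψ, rfl⟩) with h1 | h1
          · right; simp only [h1, hσ1]
          · left; simp only [h1, hσ2]
      · intro ψ φ hψ hφ
        rw [← hζ ψ φ hψ hφ]
        have h1 := (hYm _).1 ((hmemY _).2 ⟨ψ, hψ, rfl⟩)
        have h2 := (hYm _).1 ((hmemY _).2 ⟨φ, hφ, rfl⟩)
        rcases h1 with h1 | h1 <;> rcases h2 with h2 | h2 <;>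
          simp [h1, h2, hσ1, hσ2, h12, Ne.symm h12]
      · intro ψ hψ χ hχ
        rw [hΔ ψ hψ χ hχ]
        have h1 := (hYm _).1 ((hmemY _).2 ⟨ψ, hψ, rfl⟩)
        by_cases hχX : χ ∈ X
        · have hχY := hXY χ hχX
          rw [hYm] at hχY
          push Not at hχY
          rw [if_pos hχX]
          rcases h1 with h1 | h1 <;> simp [h1, hσ1, hσ2, hχY.1, hχY.2]
        · rw [if_neg hχX]
          have hχY : χ ∈ Y := ((hB χ).1 hχ).resolve_left hχX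
          rw [hDY χ hχY, hd]
          have h2 := (hYm _).1 hχY
          rcases h1 with h1 | h1 <;> rcases h2 with h2 | h2 <;>
            simp [h1, h2, hσ1, hσ2, h12, Ne.symm h12]
  obtain ⟨ε', ζ', hε', hmemY', hζ', hΔ'⟩ := key
  have hXB : X ⊆ pbF M G := fun χ hχ => mem_pbF.2 ((hB χ).2 (Or.inl hχ))
  have hχ₂X : χ₂ ∈ X := (hXmem _).2 (Or.inr (Or.inl rfl))
  have hχ₃X : χ₃ ∈ X := (hXmem _).2 (Or.inr (Or.inr rfl))
  refine ⟨ε', D χ₂, D χ₃, ζ', χ₂, χ₃, Y, hε', hD1 _ hχ₂X, hD1 _ hχ₃X, ?_,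
    (Finset.mem_erase.1 hχ₂).1, (Finset.mem_erase.1 hχ₃).1, h23, hXY _ hoX, hXY _ hχ₂X,
    hXY _ hχ₃X, hmemY', hcard, ?_, (hX _ hχ₂X).2, (hX _ hχ₃X).2, ?_, hYreg, ?_⟩
  · intro χ
    rw [hB, hXmem]
    tauto
  · intro ψ φ hψ hc
    exact ((hζ' ψ φ hψ (hc.ne_one hψ)).2 hc).symm
  · intro ψ hψ z y hz hy1
    have hζY : ζ' ψ ∈ Y := (hmemY' _).2 ⟨ψ, hψ, rfl⟩
    have hζB : ζ' ψ ∈ principalBlock M G := (hB _).2 (Or.inr hζY)
    have hζX : ζ' ψ ∉ X := fun h0 => hXY _ h0 hζY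
    have hset : {φ : ↥(P : Subgroup G) →* ℂˣ | φ ≠ 1 ∧ ζ' ψ = ζ' φ}
        = {ψ' : ↥(P : Subgroup G) →* ℂˣ | NConj (P : Subgroup G) ψ ψ'} := by
      ext φ
      simp only [Set.mem_ofPred_eq]
      constructor
      · rintro ⟨h1, h2⟩
        exact (hζ' ψ φ hψ h1).1 h2
      · intro h1
        exact ⟨h1.ne_one hψ, (hζ' ψ φ hψ (h1.ne_one hψ)).2 h1⟩
    rw [h.section_const hM y.2 hy1 hz hζB,
      h.val_of_bA (ζ' ψ) 0 ε' ζ' (by
        intro φ hφ _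
        rw [hΔ' φ hφ _ hζB, if_neg hζX]
        congr 1
        split_ifs <;> rfl) (fun h0 => hy1 (by rw [h0]; rfl)), zero_add, hset]
  · intro ψ hψ f
    have hζY : ζ' ψ ∈ Y := (hmemY' _).2 ⟨ψ, hψ, rfl⟩
    have hζB : ζ' ψ ∈ pbF M G := mem_pbF.2 ((hB _).2 (Or.inr hζY))
    have h1 : ∑ χ ∈ pbF M G, bA (P : Subgroup G) (dl ψ) (χ : G → ℂ) * f χ
        = ∑ χ ∈ pbF M G, ((if χ ∈ X then (D χ : ℂ) * f χ else 0)
          - if χ = ζ' ψ then (ε' : ℂ) * f χ else 0) := by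
      refine Finset.sum_congr rfl fun χ hχ => ?_
      rw [hΔ' ψ hψ χ (mem_pbF.1 hχ)]
      split_ifs <;> ring
    rw [h1, Finset.sum_sub_distrib, Finset.sum_ite_eq' (pbF M G) (ζ' ψ), if_pos hζB,
      Finset.sum_ite_mem, Finset.inter_eq_right.2 hXB, ← Finset.add_sum_erase X _ hoX, hXe,
      Finset.sum_pair h23, hDo]
    push_cast
    ring

end Cfsg.Agent.Lib.Helper2
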