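import Cfsg.Agent.Lib.Helper2.BFree7
import Cfsg.Agent.Lib.Helper2.CharReg
import Cfsg.Agent.Lib.Helper14.SylowConj

set_option autoImplicit false
set_option linter.style.haveILetI false
set_option linter.unusedSectionVars false
set_option maxHeartbeats 1000000
open Cfsg
open scoped ComplexConjugate

namespace Cfsg.Agent.Lib.Helper2

universe u
variable {G : Type u} [Group G] [Finite G] {p : ℕ} [Fact p.Prime] {P : Sylow p G} {m : ℕ}
  {M : Ideal AlgInt}

theorem FreeHyp.pow_mem_centralizer (h : FreeHyp P m) {n : G}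
    (hn : n ∈ Subgroup.normalizer ((P : Subgroup G) : Set G)) :
    n ^ m ∈ Subgroup.centralizer ((P : Subgroup G) : Set G) := by
  have := Subgroup.pow_index_mem ((Subgroup.centralizer ((P : Subgroup G) : Set G)).subgroupOf
    (Subgroup.normalizer ((P : Subgroup G) : Set G))) ⟨n, hn⟩
  rw [Subgroup.mem_subgroupOf] at this
  have e : ((Subgroup.centralizer ((P : Subgroup G) : Set G)).subgroupOf
    (Subgroup.normalizer ((P : Subgroup G) : Set G))).index = m := h.idx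
  rw [e] at this
  simpa using this

/-- If `|N(P) : C(P)|` is odd, an element of `P` conjugate to its inverse is an involution. -/
theorem FreeHyp.inv_eq_of_conj (h : FreeHyp P m) (hm : Odd m) {y s : G}
    (hy : y ∈ (P : Subgroup G)) (hs : s * y * s⁻¹ = y⁻¹) : y⁻¹ = y := by
  by_cases hy1 : y = 1
  · simp [hy1]
  obtain ⟨n, hn, hn'⟩ := h.fusion hy (g := s) (by rw [hs]; exact inv_mem hy)
  rw [hs] at hn'
  have h2 : n ^ 2 ∈ Subgroup.centralizer ({y} : Set G)
      ⊓ Subgroup.normalizer ((P : Subgroup G) : Set G) := by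
    refine ⟨?_, pow_mem hn 2⟩
    show n ^ 2 ∈ Subgroup.centralizer ({y} : Set G)
    rw [Helper24.mem_centralizer_singleton]
    have e1 : n * y⁻¹ * n⁻¹ = y := by
      have : (n * y * n⁻¹)⁻¹ = y := by rw [hn', inv_inv]
      calc n * y⁻¹ * n⁻¹ = (n * y * n⁻¹)⁻¹ := by group
        _ = y := this
    have e2 : n ^ 2 * y * (n ^ 2)⁻¹ = y := by
      calc n ^ 2 * y * (n ^ 2)⁻¹ = n * (n * y * n⁻¹) * n⁻¹ := by rw [pow_two]; group
        _ = y := by rw [hn', e1]
    exact (mul_inv_eq_iff_eq_mul.1 e2).symm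
  rw [h.frob y hy hy1] at h2
  obtain ⟨k, hk⟩ := hm
  have h3 : n ∈ Subgroup.centralizer ((P : Subgroup G) : Set G) := by
    have e : n = n ^ m * ((n ^ 2) ^ k)⁻¹ := by
      rw [eq_mul_inv_iff_mul_eq, ← pow_mul, hk, pow_succ']
    rw [e]
    exact mul_mem (h.pow_mem_centralizer hn) (inv_mem (pow_mem h2 k))
  rw [Subgroup.mem_centralizer_iff] at h3
  rw [← hn', ← h3 y hy, mul_inv_cancel_right]

theorem FreeHyp.stabilizer_elt (h : FreeHyp P m) {y : ↥(P : Subgroup G)} (hy : y ≠ 1) :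
    MulAction.stabilizer (Subgroup.normalizer ((P : Subgroup G) : Set G)) y
      = (Subgroup.centralizer ((P : Subgroup G) : Set G)).subgroupOf
        (Subgroup.normalizer ((P : Subgroup G) : Set G)) := by
  ext x
  rw [MulAction.mem_stabilizer_iff, Subgroup.mem_subgroupOf,
    ← h.frob y y.2 (fun h0 => hy (Subtype.ext h0))]
  constructor
  · intro hx
    refine ⟨?_, x.2⟩
    show (x : G) ∈ Subgroup.centralizer ({(y : G)} : Set G)
    rw [Helper24.mem_centralizer_singleton]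
    have := congrArg Subtype.val hx
    rw [coe_normalizer_smul] at this
    exact (mul_inv_eq_iff_eq_mul.1 this).symm
  · rintro ⟨hx, -⟩
    have hx' : (x : G) ∈ Subgroup.centralizer ({(y : G)} : Set G) := hx
    rw [Helper24.mem_centralizer_singleton] at hx'
    apply Subtype.ext
    rw [coe_normalizer_smul, ← hx', mul_inv_cancel_right]

theorem FreeHyp.ncard_orbit_elt (h : FreeHyp P m) {y : ↥(P : Subgroup G)} (hy : y ≠ 1) :
    (MulAction.orbit (Subgroup.normalizer ((P : Subgroup G) : Set G)) y).ncard = m := by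
  rw [← MulAction.index_stabilizer, h.stabilizer_elt hy, ← h.idx]
  rfl

theorem units_eq_of_sq {a b : ℂˣ} (ha : a * a = 1) (hb : b * b = 1) (h : a = 1 ↔ b = 1) :
    a = b := by
  by_cases h1 : a = 1
  · rw [h1, h.1 h1]
  · have h2 : b ≠ 1 := fun h0 => h1 (h.2 h0)
    have e : ∀ c : ℂˣ, c * c = 1 → c ≠ 1 → c = -1 := by
      intro c hc hc1
      have h3 : ((c : ℂ) - 1) * ((c : ℂ) + 1) = 0 := by
        have : (c : ℂ) * (c : ℂ) = 1 := by rw [← Units.val_mul, hc, Units.val_one]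
        linear_combination this
      rcases mul_eq_zero.1 h3 with h4 | h4
      · exact absurd (Units.ext (by simpa using sub_eq_zero.1 h4)) hc1
      · apply Units.ext
        simp only [Units.val_neg, Units.val_one]
        linear_combination h4
    rw [e a ha h1, e b hb h2]

/-- A non-principal linear character of `P` trivial on the `N(P)`-conjugates of an involution. -/
theorem FreeHyp.exists_hom_trivial (h : FreeHyp P m) (hr : 2 ^ m < Nat.card P)
    {t : ↥(P : Subgroup G)} (ht : t * t = 1) (ht1 : t ≠ 1) :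
    ∃ ψ : ↥(P : Subgroup G) →* ℂˣ, ψ ≠ 1 ∧
      ∀ s ∈ MulAction.orbit (Subgroup.normalizer ((P : Subgroup G) : Set G)) t, ψ s = 1 := by
  classical
  haveI : Finite (↥(P : Subgroup G) →* ℂˣ) :=
    Nat.finite_of_card_ne_zero (by
      rw [Helper11.card_hom h.comm']; exact Nat.card_pos.ne')
  haveI : Fintype (↥(P : Subgroup G) →* ℂˣ) := Fintype.ofFinite _
  haveI : Fintype (MulAction.orbit (Subgroup.normalizer ((P : Subgroup G) : Set G)) t) :=
    Fintype.ofFinite _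
  obtain ⟨ψ₁, ψ₂, hne, heq⟩ := Fintype.exists_ne_map_eq_of_card_lt
    (fun (ψ : ↥(P : Subgroup G) →* ℂˣ)
      (s : MulAction.orbit (Subgroup.normalizer ((P : Subgroup G) : Set G)) t) =>
        decide (ψ (s : ↥(P : Subgroup G)) = 1)) (by
      rw [Fintype.card_fun, Fintype.card_bool, ← Nat.card_eq_fintype_card,
        ← Nat.card_eq_fintype_card, Helper11.card_hom h.comm', Nat.card_coe_set_eq,
        h.ncard_orbit_elt ht1]
      exact hr)
  refine ⟨ψ₁ * ψ₂⁻¹, fun h0 => hne (mul_inv_eq_one.1 h0), ?_⟩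
  intro s hs
  have h1 := congrFun heq ⟨s, hs⟩
  simp only [decide_eq_decide] at h1
  have hss : s * s = 1 := by
    obtain ⟨x, rfl⟩ := hs
    show x • t * x • t = 1
    rw [← smul_mul', ht, smul_one]
  have h2 : ψ₁ s = ψ₂ s := units_eq_of_sq (by rw [← map_mul, hss, map_one])
    (by rw [← map_mul, hss, map_one]) h1
  rw [MonoidHom.mul_apply, MonoidHom.inv_apply, h2, mul_inv_cancel]

/-- The class function `∑ a_χ(1 - ψ) χ` vanishes on products of two conjugates of `t`. -/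
theorem FreeHyp.theta_zero {P : Sylow 2 G} (h : FreeHyp P m) (hm : Odd m) (hM : IsPModular 2 M)
    {t : G} (ht : _root_.orderOf t = 2) (ψ : ↥(P : Subgroup G) →* ℂˣ)
    (hψ : ∀ w : ↥(P : Subgroup G), IsConj t (w : G) → ψ w = 1) (x : G) :
    ∑ χ ∈ pbF M G, bA (P : Subgroup G) (dl ψ) (χ : G → ℂ) * (χ : G → ℂ) (x * t * x⁻¹ * t) = 0 := by
  classical
  have ht2 : t * t = 1 := by rw [← pow_two, ← ht, pow_orderOf_eq_one]
  have htinv : t⁻¹ = t := inv_eq_of_mul_eq_one_left ht2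
  obtain ⟨g, hg⟩ : ∃ g, g = x * t * x⁻¹ * t := ⟨_, rfl⟩
  rw [← hg]
  obtain ⟨u, hu⟩ := Helper7.exists_pPart Nat.prime_two g
  apply sum_bA_mul_eq_zero hM P.isPGroup' (dl ψ) hu
  intro y hy hc
  apply hy
  have hginv : t * g * t⁻¹ = g⁻¹ := by
    rw [hg, mul_inv_rev, mul_inv_rev, mul_inv_rev, inv_inv, htinv]
    simp only [mul_assoc, ht2, mul_one]
  have htu : t * u * t⁻¹ = u⁻¹ := by
    have h2 := Helper24.isPPart_conj t hu
    rw [hginv] at h2
    exact Helper7.isPPart_unique Nat.prime_two h2 (isPPart_inv hu)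
  obtain ⟨c, hc⟩ := isConj_iff.1 hc
  have hyinv : (y : G)⁻¹ = y := by
    apply h.inv_eq_of_conj hm y.2 (s := c⁻¹ * t * c)
    calc (c⁻¹ * t * c) * (y : G) * (c⁻¹ * t * c)⁻¹
        = c⁻¹ * (t * (c * y * c⁻¹) * t⁻¹) * c := by group
      _ = c⁻¹ * u⁻¹ * c := by rw [hc, htu]
      _ = (y : G)⁻¹ := by rw [← hc]; group
  have huinv : u⁻¹ = u := by
    calc u⁻¹ = c * (y : G)⁻¹ * c⁻¹ := by rw [← hc]; group
      _ = u := by rw [hyinv, hc]
  have htu' : Commute t u := by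
    rw [huinv] at htu
    exact mul_inv_eq_iff_eq_mul.1 htu
  obtain ⟨w, hw, hcw, -, hwodd⟩ := hu
  have htw : t * w * t⁻¹ = w⁻¹ := by
    have e : w = u⁻¹ * g := by rw [← hw]; group
    calc t * w * t⁻¹ = (t * u * t⁻¹)⁻¹ * (t * g * t⁻¹) := by rw [e]; group
      _ = u * g⁻¹ := by rw [htu, inv_inv, hginv]
      _ = u * w⁻¹ * u⁻¹ := by rw [← hw]; group
      _ = w⁻¹ := by rw [hcw.inv_right.eq, mul_inv_cancel_right]
  obtain ⟨j, hj⟩ : Odd (_root_.orderOf w) := Nat.odd_iff.2 (by omega)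
  obtain ⟨v, hv⟩ : ∃ v, v = w ^ (j + 1) := ⟨_, rfl⟩
  have hvv : v * v = w := by
    rw [hv, ← pow_add]
    have : j + 1 + (j + 1) = _root_.orderOf w + 1 := by omega
    rw [this, pow_succ, pow_orderOf_eq_one, one_mul]
  have htv : t * v * t⁻¹ = v⁻¹ := by
    rw [hv, ← conj_pow, htw, inv_pow]
  have hcv : Commute u v := by rw [hv]; exact hcw.pow_right _
  obtain ⟨t₂, ht₂⟩ : ∃ t₂, t₂ = v * t * v⁻¹ := ⟨_, rfl⟩
  have hwt : w * t = t₂ := by
    have e : t * v⁻¹ * t⁻¹ = v := by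
      calc t * v⁻¹ * t⁻¹ = (t * v * t⁻¹)⁻¹ := by group
        _ = v := by rw [htv, inv_inv]
    calc w * t = v * (t * v⁻¹ * t⁻¹) * t := by rw [e, hvv]
      _ = t₂ := by rw [ht₂]; group
  have hs : x * t * x⁻¹ = u * t₂ := by
    calc x * t * x⁻¹ = g * t := by rw [hg, mul_assoc _ t t, ht2, mul_one]
      _ = u * t₂ := by rw [← hw, mul_assoc, hwt]
  have hut₂ : Commute u t₂ := by
    rw [ht₂]
    exact (hcv.mul_right htu'.symm).mul_right hcv.inv_right
  obtain ⟨t₃, ht₃⟩ : ∃ t₃, t₃ = c⁻¹ * t₂ * c := ⟨_, rfl⟩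
  have hy_eq : (y : G) = c⁻¹ * u * c := by rw [← hc]; group
  have hyt₃ : (y : G) * t₃ = t₃ * y := by
    rw [hy_eq, ht₃]
    calc c⁻¹ * u * c * (c⁻¹ * t₂ * c) = c⁻¹ * (u * t₂) * c := by group
      _ = c⁻¹ * (t₂ * u) * c := by rw [hut₂.eq]
      _ = c⁻¹ * t₂ * c * (c⁻¹ * u * c) := by group
  have ht₃C : t₃ ∈ Subgroup.centralizer ({(y : G)} : Set G) := by
    rw [Helper24.mem_centralizer_singleton]
    exact hyt₃
  have ht₃2 : t₃ * t₃ = 1 := by
    rw [ht₃, ht₂]
    calc c⁻¹ * (v * t * v⁻¹) * c * (c⁻¹ * (v * t * v⁻¹) * c)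
        = c⁻¹ * (v * (t * t) * v⁻¹) * c := by group
      _ = 1 := by rw [ht2]; group
  obtain ⟨c', hc'⟩ := Helper14.exists_conj_mem_sylow (P.subtype (h.le_centralizer_singleton y.2))
    (Subgroup.zpowers (⟨t₃, ht₃C⟩ : Subgroup.centralizer ({(y : G)} : Set G)))
    (Helper14.isPGroup_zpowers (k := 1) (by
      apply Subtype.ext
      simp only [pow_one, pow_two, Subgroup.coe_mul, Subgroup.coe_one]
      exact ht₃2))
  have ha := hc' _ (Subgroup.mem_zpowers _)
  have ha' : (c' : G) * t₃ * (c' : G)⁻¹ ∈ (P : Subgroup G) := by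
    have : (c' * ⟨t₃, ht₃C⟩ * c'⁻¹ : Subgroup.centralizer ({(y : G)} : Set G))
        ∈ ((P.subtype (h.le_centralizer_singleton y.2) :
          Sylow 2 (Subgroup.centralizer ({(y : G)} : Set G))) :
          Subgroup (Subgroup.centralizer ({(y : G)} : Set G))) := ha
    rw [Sylow.coe_subtype, Subgroup.mem_subgroupOf] at this
    simpa using this
  have hc'y : (y : G) * c' = c' * y := by
    have := c'.2
    rwa [Helper24.mem_centralizer_singleton] at this
  have h1 : ψ ⟨(c' : G) * t₃ * (c' : G)⁻¹, ha'⟩ = 1 := by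
    apply hψ
    rw [isConj_iff]
    refine ⟨(c' : G) * c⁻¹ * v, ?_⟩
    show (c' : G) * c⁻¹ * v * t * ((c' : G) * c⁻¹ * v)⁻¹ = (c' : G) * t₃ * (c' : G)⁻¹
    rw [ht₃, ht₂]; group
  have h2 : ψ (y * ⟨(c' : G) * t₃ * (c' : G)⁻¹, ha'⟩) = 1 := by
    apply hψ
    rw [isConj_iff]
    refine ⟨(c' : G) * c⁻¹ * x, ?_⟩
    show (c' : G) * c⁻¹ * x * t * ((c' : G) * c⁻¹ * x)⁻¹ = (y : G) * ((c' : G) * t₃ * (c' : G)⁻¹)
    calc (c' : G) * c⁻¹ * x * t * ((c' : G) * c⁻¹ * x)⁻¹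
        = (c' : G) * (c⁻¹ * (x * t * x⁻¹) * c) * (c' : G)⁻¹ := by group
      _ = (c' : G) * ((c⁻¹ * u * c) * (c⁻¹ * t₂ * c)) * (c' : G)⁻¹ := by rw [hs]; group
      _ = ((c' : G) * y) * t₃ * (c' : G)⁻¹ := by rw [← hy_eq, ← ht₃]; group
      _ = (y : G) * ((c' : G) * t₃ * (c' : G)⁻¹) := by rw [← hc'y]; group
  rw [map_mul, h1, mul_one] at h2
  rw [dl_apply, h2]
  simp

end Cfsg.Agent.Lib.Helper2
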