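import Cfsg.Agent.Lib.Helper2.BFree8

set_option autoImplicit false
set_option linter.style.haveILetI false
set_option linter.unusedSectionVars false
set_option maxHeartbeats 1000000
open Cfsg
open scoped ComplexConjugate

namespace Cfsg.Agent.Lib.Helper2

universe u
variable {G : Type u} [Group G] [Finite G] {p : ℕ} [Fact p.Prime] {P : Sylow p G} {m : ℕ}
  {M : Ideal AlgInt}

theorem int_lemma_two (X₂ X₃ : ℤ) (h2 : (16 : ℤ) ∣ X₂ - 1) (h3 : (16 : ℤ) ∣ X₃ - 1)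
    (he : (X₂ * X₃ + X₂ + X₃) * (1 + X₂ + X₃) = 9 * (X₂ * X₃)) : X₂ = 1 ∧ X₃ = 1 := by
  obtain ⟨u, hu⟩ := h2
  obtain ⟨v, hv⟩ := h3
  obtain ⟨k, hk⟩ : ∃ k, k = u + v := ⟨_, rfl⟩
  have hS : X₂ + X₃ = 2 + 16 * k := by rw [hk]; linarith
  have h36 : (8 * k - 3) * (X₂ * X₃ + (X₂ + X₃) + 9) = -36 := by
    have h72 : ((X₂ + X₃) - 8) * (X₂ * X₃ + (X₂ + X₃) + 9) = -72 := by linear_combination he
    rw [hS] at h72 ⊢
    linarith
  have hdvd : (8 * k - 3) ∣ 36 := ⟨-(X₂ * X₃ + (X₂ + X₃) + 9), by linarith⟩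
  have hle1 : 8 * k - 3 ≤ 36 := Int.le_of_dvd (by norm_num) hdvd
  have hle2 : -(8 * k - 3) ≤ 36 := Int.le_of_dvd (by norm_num) ((neg_dvd).2 hdvd)
  have hk1 : -4 ≤ k := by omega
  have hk2 : k ≤ 4 := by omega
  have hk0 : k = 0 := by
    interval_cases k <;> first | rfl | (exfalso; revert hdvd; decide)
  rw [hk0] at hS h36
  have hPi : X₂ * X₃ = 1 := by linarith
  have hsq : (X₂ - 1) ^ 2 = 0 := by
    have : X₃ = 2 - X₂ := by linarith
    rw [this] at hPi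
    linear_combination -hPi
  have hX₂ : X₂ = 1 := by
    have := pow_eq_zero_iff (two_ne_zero) |>.1 hsq
    linarith
  exact ⟨hX₂, by rw [hX₂] at hS; linarith⟩

/-- A character constant on `P ∖ {1}` has degree congruent to that constant modulo `|P|`. -/
theorem card_dvd_degree_sub (H : Subgroup G) (χ : IrrCharacter G) (a : ℤ)
    (ha : ∀ y ∈ H, y ≠ 1 → (χ : G → ℂ) y = a) :
    (Nat.card H : ℤ) ∣ (charDegree (χ : G → ℂ) : ℤ) - a := by
  classical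
  haveI : Fintype H := Fintype.ofFinite _
  obtain ⟨z, hz⟩ := bA_int H (θ := fun _ => 1)
    (IsCharacter.isGeneralizedCharacter (Helper7.isCharacter_of_irr Helper7.isIrrCharacter_one))
    (Helper7.isCharacter_of_irr χ.2)
  rw [bA_eq_sum] at hz
  have hH : (Nat.card H : ℂ) ≠ 0 := by exact_mod_cast Nat.card_pos.ne'
  have h1 : ∑ y : H, (χ : G → ℂ) (y : G) * 1
      = (charDegree (χ : G → ℂ) : ℂ) + ((Nat.card H : ℂ) - 1) * a := by
    rw [← Finset.add_sum_erase _ _ (Finset.mem_univ (1 : H)), Subgroup.coe_one, mul_one,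
      Helper7.charDegree_cast (Helper7.isCharacter_of_irr χ.2)]
    congr 1
    rw [Finset.sum_congr rfl (g := fun _ => (a : ℂ)), Finset.sum_const,
      Finset.card_erase_of_mem (Finset.mem_univ _), Finset.card_univ, nsmul_eq_mul,
      ← Nat.card_eq_fintype_card, Nat.cast_sub Nat.card_pos, Nat.cast_one]
    intro y hy
    rw [mul_one, ha y y.2 (fun h0 => (Finset.mem_erase.1 hy).1 (Subtype.ext h0))]
  rw [h1] at hz
  refine ⟨z - a, ?_⟩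
  have h2 : (charDegree (χ : G → ℂ) : ℂ) + ((Nat.card H : ℂ) - 1) * a = (Nat.card H : ℂ) * z := by
    rw [← hz, ← mul_assoc, mul_inv_cancel₀ hH, one_mul]
  have h3 : ((charDegree (χ : G → ℂ) : ℤ) : ℂ) - a = ((Nat.card H : ℤ) : ℂ) * ((z - a : ℤ) : ℂ) := by
    push_cast
    linear_combination h2
  exact_mod_cast h3

/-- `∑ a_χ(θ) χ(t)²/χ(1)` in terms of the class function `∑ a_χ(θ) χ`. -/
theorem sum_bA_sq_div [Fintype G] (H : Subgroup G) (θ : H → ℂ) (t : G)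
    (h0 : ∀ x : G, ∑ χ ∈ pbF M G, bA H θ (χ : G → ℂ) * (χ : G → ℂ) (x * t * x⁻¹ * t) = 0) :
    ∑ χ ∈ pbF M G, bA H θ (χ : G → ℂ) * ((χ : G → ℂ) t ^ 2 / (χ : G → ℂ) 1) = 0 := by
  have hGc : (Nat.card G : ℂ) ≠ 0 := by exact_mod_cast Nat.card_pos.ne'
  have h1 : ∀ χ ∈ pbF M G, bA H θ (χ : G → ℂ) * ((χ : G → ℂ) t ^ 2 / (χ : G → ℂ) 1)
      = (Nat.card G : ℂ)⁻¹ * ∑ x : G, bA H θ (χ : G → ℂ) * (χ : G → ℂ) (x * t * x⁻¹ * t) := by
    intro χ _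
    rw [← Finset.mul_sum, sum_char_conj_mul χ.2 t t]
    field_simp
  rw [Finset.sum_congr rfl h1, ← Finset.mul_sum, Finset.sum_comm, Finset.sum_eq_zero, mul_zero]
  intro x _
  exact h0 x

theorem FreeHyp.finsum_nconj_one (h : FreeHyp P m) {ψ : ↥(P : Subgroup G) →* ℂˣ} (hψ : ψ ≠ 1) :
    ∑ᶠ ψ' ∈ {ψ' : ↥(P : Subgroup G) →* ℂˣ | NConj (P : Subgroup G) ψ ψ'}, (1 : ℂ) = m := by
  letI := dualAct (P : Subgroup G)
  haveI : Finite (↥(P : Subgroup G) →* ℂˣ) :=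
    Nat.finite_of_card_ne_zero (by
      rw [Helper11.card_hom h.comm']; exact Nat.card_pos.ne')
  have hset : {ψ' : ↥(P : Subgroup G) →* ℂˣ | NConj (P : Subgroup G) ψ ψ'}
      = MulAction.orbit (Subgroup.normalizer ((P : Subgroup G) : Set G)) ψ := by
    ext φ
    exact (mem_orbit_dualAct_iff _ ψ φ).symm
  rw [hset, finsum_mem_eq_finite_toFinset_sum _ (Set.toFinite _), Finset.sum_const,
    ← Set.ncard_eq_toFinset_card, h.ncard_orbit hψ]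
  simp

/-- Brauer: a group with an abelian Sylow `2`-subgroup `P` of order `> 4` on which `N(P)/C(P)`,
of order `3`, acts freely has a proper normal subgroup containing `P`. -/
theorem FreeHyp.exists_normal_of_two {P : Sylow 2 G} (h : FreeHyp P 3) (hM : IsPModular 2 M)
    (hr : 3 + 1 < Nat.card P) : ∃ K : Subgroup G, K.Normal ∧ K ≠ ⊤ ∧ (P : Subgroup G) ≤ K := by
  classical
  haveI := Fintype.ofFinite G
  obtain ⟨ε, a₂, a₃, ζ, χ₂, χ₃, Y, hε, ha₂, ha₃, hB, h2o, h3o, h23, hoY, h2Y, h3Y, hmemY, hcard,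
    hζ, hv₂, hv₃, hvζ, hYreg, hsum⟩ := h.core3 hM hr
  obtain ⟨k, hk⟩ := IsPGroup.iff_card.1 P.isPGroup'
  have hk' : Nat.card P = 2 ^ k := hk
  have hk4 : 4 ≤ k := by
    by_contra hlt
    have : k ≤ 3 := by omega
    interval_cases k <;> omega
  have h16 : 16 ∣ Nat.card P := by
    rw [hk']
    exact pow_dvd_pow 2 hk4
  have h16' : 16 ≤ Nat.card P := Nat.le_of_dvd Nat.card_pos h16
  obtain ⟨t, ht⟩ := exists_prime_orderOf_dvd_card' (G := ↥(P : Subgroup G)) 2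
    (Dvd.dvd.trans (by norm_num) h16)
  have ht1 : t ≠ 1 := by
    rintro rfl
    rw [orderOf_one] at ht
    omega
  have htt : t * t = 1 := by
    have := pow_orderOf_eq_one t
    rw [ht] at this
    rw [← pow_two]; exact this
  obtain ⟨ψ, hψ1, hψ⟩ := h.exists_hom_trivial (by omega) htt ht1
  have hψc : ∀ w : ↥(P : Subgroup G), IsConj (t : G) (w : G) → ψ w = 1 := by
    intro w hw
    obtain ⟨g, hg⟩ := isConj_iff.1 hw
    obtain ⟨n, hn, hn'⟩ := h.fusion t.2 (g := g) (by rw [hg]; exact w.2)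
    apply hψ
    refine ⟨⟨n, hn⟩, ?_⟩
    apply Subtype.ext
    show (((⟨n, hn⟩ : Subgroup.normalizer ((P : Subgroup G) : Set G)) • t :
      ↥(P : Subgroup G)) : G) = w
    rw [coe_normalizer_smul, ← hg, ← hn']
  have htG : _root_.orderOf (t : G) = 2 := by rw [Subgroup.orderOf_coe]; exact ht
  have htne : (t : G) ≠ 1 := fun h0 => ht1 (Subtype.ext h0)
  have e1 := sum_bA_sq_div (M := M) (P : Subgroup G) (dl ψ) (t : G)
    (h.theta_zero (by decide) hM htG ψ hψc)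
  have e2 := sum_bA_dl_regular (P := P) hM ψ (g := 1) (by rw [orderOf_one]; norm_num)
  rw [hsum ψ hψ1 (fun χ => (χ : G → ℂ) t ^ 2 / (χ : G → ℂ) 1)] at e1
  rw [hsum ψ hψ1 (fun χ => (χ : G → ℂ) 1)] at e2
  have hpt : IsPPart 2 (t : G) (t : G) :=
    Helper24.isPPart_self Nat.prime_two (k := 1) (by simpa using htG)
  have vζ : (ζ ψ : G → ℂ) t = ε * 3 := by
    rw [hvζ ψ hψ1 t t hpt htne]
    congr 1
    rw [finsum_mem_congr rfl (g := fun _ => (1 : ℂ)), h.finsum_nconj_one hψ1]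
    · norm_num
    · intro ψ' hψ'
      obtain ⟨n, hn, hn'⟩ := hψ'
      have hmem : n⁻¹ * (t : G) * n ∈ (P : Subgroup G) := by
        have := (Subgroup.mem_normalizer_iff.1 (inv_mem hn) (t : G)).1 t.2
        rwa [inv_inv] at this
      rw [hn' ⟨n⁻¹ * (t : G) * n, hmem⟩ t (by simp only []; group), hψc]
      · simp
      · rw [isConj_iff]
        exact ⟨n⁻¹, by simp⟩
  have ho1 : ∀ g : G, (Helper24.oneIrr G : G → ℂ) g = 1 := fun _ => rfl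
  beta_reduce at e1 e2
  rw [ho1, ho1, hv₂ t t hpt t.2 htne, hv₃ t t hpt t.2 htne, vζ,
    ← Helper7.charDegree_cast (Helper7.isCharacter_of_irr χ₂.2),
    ← Helper7.charDegree_cast (Helper7.isCharacter_of_irr χ₃.2),
    ← Helper7.charDegree_cast (Helper7.isCharacter_of_irr (ζ ψ).2)] at e1
  rw [ho1, ← Helper7.charDegree_cast (Helper7.isCharacter_of_irr χ₂.2),
    ← Helper7.charDegree_cast (Helper7.isCharacter_of_irr χ₃.2),
    ← Helper7.charDegree_cast (Helper7.isCharacter_of_irr (ζ ψ).2)] at e2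
  obtain ⟨x₂, hx₂⟩ : ∃ x : ℕ, x = charDegree (χ₂ : G → ℂ) := ⟨_, rfl⟩
  obtain ⟨x₃, hx₃⟩ : ∃ x : ℕ, x = charDegree (χ₃ : G → ℂ) := ⟨_, rfl⟩
  obtain ⟨y, hy⟩ : ∃ x : ℕ, x = charDegree (ζ ψ : G → ℂ) := ⟨_, rfl⟩
  have hx₂0 : 0 < x₂ := by rw [hx₂]; exact Helper7.charDegree_pos χ₂
  have hx₃0 : 0 < x₃ := by rw [hx₃]; exact Helper7.charDegree_pos χ₃
  have hy0 : 0 < y := by rw [hy]; exact Helper7.charDegree_pos (ζ ψ)
  rw [← hx₂, ← hx₃, ← hy] at e1 e2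
  have ha₂sq : a₂ ^ 2 = 1 := by rcases ha₂ with h0 | h0 <;> rw [h0] <;> norm_num
  have ha₃sq : a₃ ^ 2 = 1 := by rcases ha₃ with h0 | h0 <;> rw [h0] <;> norm_num
  have hεsq : ε ^ 2 = 1 := by rcases hε with h0 | h0 <;> rw [h0] <;> norm_num
  have ha₂c : (a₂ : ℂ) ^ 2 = 1 := by exact_mod_cast ha₂sq
  have ha₃c : (a₃ : ℂ) ^ 2 = 1 := by exact_mod_cast ha₃sq
  have hεc : (ε : ℂ) ^ 2 = 1 := by exact_mod_cast hεsq
  have hx₂c : (x₂ : ℂ) ≠ 0 := by exact_mod_cast hx₂0.ne'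
  have hx₃c : (x₃ : ℂ) ≠ 0 := by exact_mod_cast hx₃0.ne'
  have hyc : (y : ℂ) ≠ 0 := by exact_mod_cast hy0.ne'
  have e1' : (x₂ : ℂ) * x₃ * y + a₂ * x₃ * y + a₃ * x₂ * y - 9 * ε * x₂ * x₃ = 0 := by
    rw [ha₂c, ha₃c, mul_pow, hεc] at e1
    have h5 := congrArg (fun z => z * ((x₂ : ℂ) * x₃ * y)) e1
    simp only [zero_mul] at h5
    rw [← h5]
    field_simp
    ring
  have e1'' : (x₂ : ℤ) * x₃ * y + a₂ * x₃ * y + a₃ * x₂ * y - 9 * ε * x₂ * x₃ = 0 := by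
    exact_mod_cast e1'
  have e2'' : (1 : ℤ) + a₂ * x₂ + a₃ * x₃ - ε * y = 0 := by exact_mod_cast e2
  have hval : ∀ (χ : IrrCharacter G) (a : ℤ),
      (∀ z y : G, IsPPart 2 z y → y ∈ (P : Subgroup G) → y ≠ 1 → (χ : G → ℂ) z = (a : ℂ)) →
      ∀ y ∈ (P : Subgroup G), y ≠ 1 → (χ : G → ℂ) y = a := by
    intro χ a hχ y hy hy1
    obtain ⟨j, hj⟩ := h.orderOf hy
    exact hχ y y (Helper24.isPPart_self Nat.prime_two hj) hy hy1
  have hc₂ : (16 : ℤ) ∣ a₂ * x₂ - 1 := by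
    have h5 := card_dvd_degree_sub (P : Subgroup G) χ₂ a₂ (hval χ₂ a₂ hv₂)
    rw [← hx₂] at h5
    have h6 : (16 : ℤ) ∣ (x₂ : ℤ) - a₂ := Dvd.dvd.trans (by exact_mod_cast h16) h5
    have h7 : a₂ * x₂ - 1 = a₂ * ((x₂ : ℤ) - a₂) := by linear_combination ha₂sq
    rw [h7]
    exact Dvd.dvd.mul_left h6 _
  have hc₃ : (16 : ℤ) ∣ a₃ * x₃ - 1 := by
    have h5 := card_dvd_degree_sub (P : Subgroup G) χ₃ a₃ (hval χ₃ a₃ hv₃)
    rw [← hx₃] at h5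
    have h6 : (16 : ℤ) ∣ (x₃ : ℤ) - a₃ := Dvd.dvd.trans (by exact_mod_cast h16) h5
    have h7 : a₃ * x₃ - 1 = a₃ * ((x₃ : ℤ) - a₃) := by linear_combination ha₃sq
    rw [h7]
    exact Dvd.dvd.mul_left h6 _
  obtain ⟨hX₂, -⟩ := int_lemma_two (a₂ * x₂) (a₃ * x₃) hc₂ hc₃ (by
    linear_combination (a₂ * x₂ * (a₃ * x₃) + a₂ * x₂ + a₃ * x₃) * e2'' + a₂ * a₃ * ε * e1''
      - a₂ * ε * x₂ * y * ha₃sq - a₃ * ε * x₃ * y * ha₂sq + 9 * a₂ * a₃ * x₂ * x₃ * hεsq)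
  have ha₂1 : a₂ = 1 := by
    rcases ha₂ with h0 | h0
    · exact h0
    · rw [h0] at hX₂
      have : (0 : ℤ) < x₂ := by exact_mod_cast hx₂0
      omega
  have hx₂1 : x₂ = 1 := by
    rw [ha₂1, one_mul] at hX₂
    exact_mod_cast hX₂
  have hχ₂1 : (χ₂ : G → ℂ) 1 = 1 := by
    rw [← Helper7.charDegree_cast (Helper7.isCharacter_of_irr χ₂.2), ← hx₂, hx₂1, Nat.cast_one]
  obtain ⟨K, hKn, hKmem⟩ := Helper7.exists_ker_subgroup (Helper7.isCharacter_of_irr χ₂.2)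
  refine ⟨K, hKn, ?_, ?_⟩
  · intro htop
    apply h2o
    apply Subtype.ext
    funext g
    rw [(hKmem g).1 (by rw [htop]; exact Subgroup.mem_top g), hχ₂1, ho1]
  · intro y hy
    rw [hKmem]
    by_cases hy1 : y = 1
    · rw [hy1]
    · rw [hval χ₂ a₂ hv₂ y hy hy1, ha₂1, hχ₂1, Int.cast_one]

end Cfsg.Agent.Lib.Helper2
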