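import Mathlib
import Cfsg.Prelude.Def_Characters
import Cfsg.Prelude.Def_ParabolicCharacters
import Cfsg.Agent.Lib.Helper2.CharMore
import Cfsg.Agent.Lib.Helper2.CharInd

set_option autoImplicit false

namespace Cfsg.Agent.Lib.Helper2.GL2

open scoped ComplexConjugate
open Matrix

variable {F : Type*} [Field F]

theorem mem_bor (g : GL (Fin 2) F) :
    g ∈ Cfsg.upperTriangularGL 2 F ↔ (g : Matrix (Fin 2) (Fin 2) F) 1 0 = 0 := by
  constructor
  · intro h
    exact h (by decide)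
  · intro h i j hij
    fin_cases i <;> fin_cases j <;> simp_all

theorem det_ne (g : GL (Fin 2) F) : (g : Matrix (Fin 2) (Fin 2) F).det ≠ 0 :=
  ((Matrix.isUnit_iff_isUnit_det _).1 g.isUnit).ne_zero

theorem bor_diag_ne (b : Cfsg.upperTriangularGL 2 F) :
    ((b : GL (Fin 2) F) : Matrix (Fin 2) (Fin 2) F) 0 0 ≠ 0 ∧
      ((b : GL (Fin 2) F) : Matrix (Fin 2) (Fin 2) F) 1 1 ≠ 0 := by
  have h1 := det_ne (b : GL (Fin 2) F)
  rw [Matrix.det_fin_two, (mem_bor _).1 b.2, mul_zero, sub_zero] at h1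
  exact ⟨left_ne_zero_of_mul h1, right_ne_zero_of_mul h1⟩

/-- upper triangular element with given entries -/
noncomputable def bmk (a d : Fˣ) (c : F) : GL (Fin 2) F :=
  Matrix.GeneralLinearGroup.mkOfDetNeZero !![(a : F), c; 0, (d : F)]
    (by simp [Matrix.det_fin_two])

theorem bmk_coe (a d : Fˣ) (c : F) :
    ((bmk a d c : GL (Fin 2) F) : Matrix (Fin 2) (Fin 2) F) = !![(a : F), c; 0, (d : F)] := rfl

theorem bmk_mem (a d : Fˣ) (c : F) : bmk a d c ∈ Cfsg.upperTriangularGL 2 F :=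
  (mem_bor _).2 (by simp [bmk_coe])

noncomputable def bEquiv : Fˣ × Fˣ × F ≃ ↥(Cfsg.upperTriangularGL 2 F) :=
  Equiv.ofBijective (fun p => ⟨bmk p.1 p.2.1 p.2.2, bmk_mem _ _ _⟩) (by
    constructor
    · rintro ⟨a, d, c⟩ ⟨a', d', c'⟩ h
      have h1 : (bmk a d c : GL (Fin 2) F) = bmk a' d' c' := congrArg Subtype.val h
      have h2 : !![(a : F), c; 0, (d : F)] = !![(a' : F), c'; 0, (d' : F)] := by
        rw [← bmk_coe, ← bmk_coe, h1]
      have e00 := congrFun (congrFun h2 0) 0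
      have e01 := congrFun (congrFun h2 0) 1
      have e11 := congrFun (congrFun h2 1) 1
      simp at e00 e01 e11
      rw [Units.ext e00, e01, Units.ext e11]
    · intro b
      obtain ⟨h0, h1⟩ := bor_diag_ne b
      refine ⟨(Units.mk0 _ h0, Units.mk0 _ h1,
        ((b : GL (Fin 2) F) : Matrix (Fin 2) (Fin 2) F) 0 1), ?_⟩
      apply Subtype.ext
      apply Units.ext
      show ((bmk _ _ _ : GL (Fin 2) F) : Matrix (Fin 2) (Fin 2) F) = _
      rw [bmk_coe]
      ext i j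
      fin_cases i <;> fin_cases j <;> simp [(mem_bor _).1 b.2])

theorem bEquiv_coe (p : Fˣ × Fˣ × F) :
    ((bEquiv p : ↥(Cfsg.upperTriangularGL 2 F)) : GL (Fin 2) F) = bmk p.1 p.2.1 p.2.2 := rfl

/-- the linear character of the Borel subgroup -/
noncomputable def lam (α β : MulChar F ℂ) : ↥(Cfsg.upperTriangularGL 2 F) → ℂ :=
  fun b => α (((b : GL (Fin 2) F) : Matrix (Fin 2) (Fin 2) F) 0 0) *
    β (((b : GL (Fin 2) F) : Matrix (Fin 2) (Fin 2) F) 1 1)

noncomputable def d0 : ↥(Cfsg.upperTriangularGL 2 F) →* Fˣ where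
  toFun b := Units.mk0 _ (bor_diag_ne b).1
  map_one' := by ext; simp
  map_mul' a b := by
    ext
    simp [Matrix.mul_apply, Fin.sum_univ_two, (mem_bor _).1 b.2]

noncomputable def d1 : ↥(Cfsg.upperTriangularGL 2 F) →* Fˣ where
  toFun b := Units.mk0 _ (bor_diag_ne b).2
  map_one' := by ext; simp
  map_mul' a b := by
    ext
    simp [Matrix.mul_apply, Fin.sum_univ_two, (mem_bor _).1 a.2]

theorem lam_isCharacter (α β : MulChar F ℂ) :
    Cfsg.IsCharacter ↥(Cfsg.upperTriangularGL 2 F) (lam α β) :=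
  isCharacter_of_hom ((α.toUnitHom.comp d0) * (β.toUnitHom.comp d1))

theorem lam_mul (α β : MulChar F ℂ) (a b : ↥(Cfsg.upperTriangularGL 2 F)) :
    lam α β (a * b) = lam α β a * lam α β b := by
  have h := map_mul ((α.toUnitHom.comp d0) * (β.toUnitHom.comp d1)) a b
  exact congrArg Units.val h

theorem lam_bEquiv (α β : MulChar F ℂ) (a d : Fˣ) (c : F) :
    lam α β (bEquiv (a, d, c)) = α (a : F) * β (d : F) := by
  simp [lam, bEquiv_coe, bmk_coe]

theorem lam_one (α β : MulChar F ℂ) : lam α β 1 = 1 := by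
  simp [lam]

theorem lam_conj (α β : MulChar F ℂ) (x b : ↥(Cfsg.upperTriangularGL 2 F)) :
    lam α β (x⁻¹ * b * x) = lam α β b := by
  rw [lam_mul, lam_mul]
  have h : lam α β x⁻¹ * lam α β x = 1 := by rw [← lam_mul, inv_mul_cancel, lam_one]
  calc lam α β x⁻¹ * lam α β b * lam α β x = (lam α β x⁻¹ * lam α β x) * lam α β b := by ring
    _ = _ := by rw [h, one_mul]

theorem conj_entries (x : GL (Fin 2) F) (hx : (x : Matrix (Fin 2) (Fin 2) F) 1 0 ≠ 0)
    (a d : Fˣ) (c : F) :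
    (x⁻¹ * bmk a d c * x ∈ Cfsg.upperTriangularGL 2 F ↔
      c * (x : Matrix (Fin 2) (Fin 2) F) 1 0 = ((d : F) - a) * (x : Matrix (Fin 2) (Fin 2) F) 0 0) ∧
    (x⁻¹ * bmk a d c * x ∈ Cfsg.upperTriangularGL 2 F →
      ((x⁻¹ * bmk a d c * x : GL (Fin 2) F) : Matrix (Fin 2) (Fin 2) F) 0 0 = d ∧
      ((x⁻¹ * bmk a d c * x : GL (Fin 2) F) : Matrix (Fin 2) (Fin 2) F) 1 1 = a) := by
  obtain ⟨y, hy⟩ : ∃ y : GL (Fin 2) F, y = x⁻¹ * bmk a d c * x := ⟨_, rfl⟩
  rw [← hy]
  have hXY : (x : Matrix (Fin 2) (Fin 2) F) * (y : Matrix (Fin 2) (Fin 2) F) =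
      !![(a : F), c; 0, (d : F)] * (x : Matrix (Fin 2) (Fin 2) F) := by
    have h1 : x * y = bmk a d c * x := by rw [hy]; group
    have h2 := congrArg (fun g : GL (Fin 2) F => (g : Matrix (Fin 2) (Fin 2) F)) h1
    simpa [bmk_coe] using h2
  have e00 := congrFun (congrFun hXY 0) 0
  have e10 := congrFun (congrFun hXY 1) 0
  simp [Matrix.mul_apply, Fin.sum_univ_two] at e00 e10
  have hdet := det_ne x
  rw [Matrix.det_fin_two] at hdet
  have key : ((x : Matrix (Fin 2) (Fin 2) F) 0 0 * (x : Matrix (Fin 2) (Fin 2) F) 1 1 -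
      (x : Matrix (Fin 2) (Fin 2) F) 0 1 * (x : Matrix (Fin 2) (Fin 2) F) 1 0) *
      (y : Matrix (Fin 2) (Fin 2) F) 1 0 = (x : Matrix (Fin 2) (Fin 2) F) 1 0 *
      (((d : F) - a) * (x : Matrix (Fin 2) (Fin 2) F) 0 0 -
        c * (x : Matrix (Fin 2) (Fin 2) F) 1 0) := by
    linear_combination (x : Matrix (Fin 2) (Fin 2) F) 0 0 * e10 -
      (x : Matrix (Fin 2) (Fin 2) F) 1 0 * e00
  constructor
  · rw [mem_bor]
    constructor
    · intro h
      rw [h, mul_zero] at key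
      have := (mul_eq_zero.1 key.symm).resolve_left hx
      exact (sub_eq_zero.1 this).symm
    · intro h
      rw [h, sub_self, mul_zero] at key
      exact (mul_eq_zero.1 key).resolve_left hdet
  · intro h
    rw [mem_bor] at h
    rw [h, mul_zero, add_zero] at e10
    have h00 : (y : Matrix (Fin 2) (Fin 2) F) 0 0 = d := by
      apply mul_left_cancel₀ hx
      rw [e10, mul_comm]
    refine ⟨h00, ?_⟩
    have hd := congrArg Matrix.det hXY
    rw [Matrix.det_mul, Matrix.det_mul, mul_comm] at hd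
    have hd2 := mul_right_cancel₀ (det_ne x) hd
    rw [Matrix.det_fin_two, Matrix.det_fin_two, h, h00] at hd2
    simp at hd2
    apply mul_left_cancel₀ d.ne_zero
    rw [hd2, mul_comm]

section fin
variable [Fintype F] [DecidableEq F]

theorem sum_units_eq (χ : MulChar F ℂ) : ∑ a : Fˣ, χ (a : F) = ∑ a : F, χ a := by
  classical
  have h1 : ∑ a : Fˣ, χ (a : F) =
      ∑ a ∈ Finset.univ.map ⟨Units.val, fun _ _ h => Units.ext h⟩, χ a := by
    rw [Finset.sum_map]; rfl
  rw [h1]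
  apply Finset.sum_subset (Finset.subset_univ _)
  intro a _ ha
  apply MulChar.map_nonunit
  intro hu
  apply ha
  rw [Finset.mem_map]
  exact ⟨hu.unit, Finset.mem_univ _, rfl⟩

theorem sumE (α α' : MulChar F ℂ) :
    ∑ a : Fˣ, α (a : F) * conj (α' (a : F)) =
      if α = α' then ((Fintype.card F : ℂ) - 1) else 0 := by
  have h1 : ∀ a : Fˣ, α (a : F) * conj (α' (a : F)) = (α * α'⁻¹) (a : F) := by
    intro a
    rw [MulChar.mul_apply, ← MulChar.star_apply', starRingEnd_apply]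
  rw [Finset.sum_congr rfl fun a _ => h1 a, sum_units_eq]
  split_ifs with h
  · rw [h, mul_inv_cancel, MulChar.sum_one_eq_card_units, Fintype.card_units]
    have h2 : 1 ≤ Fintype.card F := Fintype.card_pos
    push_cast [Nat.cast_sub h2]; ring
  · apply MulChar.sum_eq_zero_of_ne_one
    intro h2
    exact h (mul_inv_eq_one.1 h2)

theorem S_mem [Fintype ↥(Cfsg.upperTriangularGL 2 F)] (α β α' β' : MulChar F ℂ)
    (x : GL (Fin 2) F) (hx : x ∈ Cfsg.upperTriangularGL 2 F) :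
    ∑ b : ↥(Cfsg.upperTriangularGL 2 F), lam α β b *
      conj (Cfsg.extendByZero (Cfsg.upperTriangularGL 2 F) (lam α' β') (x⁻¹ * b * x)) =
    (Fintype.card F : ℂ) * ((∑ a : Fˣ, α (a : F) * conj (α' (a : F))) *
      (∑ d : Fˣ, β (d : F) * conj (β' (d : F)))) := by
  have h1 : ∀ b : ↥(Cfsg.upperTriangularGL 2 F),
      Cfsg.extendByZero (Cfsg.upperTriangularGL 2 F) (lam α' β') (x⁻¹ * b * x) = lam α' β' b := by
    intro b
    have h2 := extendByZero_coe (Cfsg.upperTriangularGL 2 F) (lam α' β')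
      ((⟨x, hx⟩ : ↥(Cfsg.upperTriangularGL 2 F))⁻¹ * b * ⟨x, hx⟩)
    rw [lam_conj] at h2
    exact h2
  rw [Finset.sum_congr rfl fun b _ => by rw [h1 b], ← Equiv.sum_comp bEquiv,
    Fintype.sum_prod_type, Finset.sum_mul_sum, Finset.mul_sum]
  refine Finset.sum_congr rfl fun a _ => ?_
  rw [Fintype.sum_prod_type, Finset.mul_sum]
  refine Finset.sum_congr rfl fun d _ => ?_
  simp only [lam_bEquiv]
  rw [Finset.sum_const, Finset.card_univ, nsmul_eq_mul, map_mul]
  ring

theorem S_not_mem [Fintype ↥(Cfsg.upperTriangularGL 2 F)] (α β α' β' : MulChar F ℂ)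
    (x : GL (Fin 2) F) (hx : x ∉ Cfsg.upperTriangularGL 2 F) :
    ∑ b : ↥(Cfsg.upperTriangularGL 2 F), lam α β b *
      conj (Cfsg.extendByZero (Cfsg.upperTriangularGL 2 F) (lam α' β') (x⁻¹ * b * x)) =
    (∑ a : Fˣ, α (a : F) * conj (β' (a : F))) * (∑ d : Fˣ, β (d : F) * conj (α' (d : F))) := by
  have hx' : (x : Matrix (Fin 2) (Fin 2) F) 1 0 ≠ 0 := fun h => hx ((mem_bor x).2 h)
  rw [← Equiv.sum_comp bEquiv, Fintype.sum_prod_type, Finset.sum_mul_sum]
  refine Finset.sum_congr rfl fun a _ => ?_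
  rw [Fintype.sum_prod_type]
  refine Finset.sum_congr rfl fun d _ => ?_
  simp only [lam_bEquiv, bEquiv_coe]
  rw [Finset.sum_eq_single (((d : F) - a) * (x : Matrix (Fin 2) (Fin 2) F) 0 0 /
    (x : Matrix (Fin 2) (Fin 2) F) 1 0)]
  · have hm : x⁻¹ * bmk a d (((d : F) - a) * (x : Matrix (Fin 2) (Fin 2) F) 0 0 /
        (x : Matrix (Fin 2) (Fin 2) F) 1 0) * x ∈ Cfsg.upperTriangularGL 2 F := by
      rw [(conj_entries x hx' a d _).1, div_mul_cancel₀ _ hx']
    obtain ⟨h0, h1⟩ := (conj_entries x hx' a d _).2 hm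
    rw [extendByZero_of_mem _ _ hm]
    simp only [lam]
    rw [h0, h1, map_mul]
    ring
  · intro c _ hc
    have hm : x⁻¹ * bmk a d c * x ∉ Cfsg.upperTriangularGL 2 F := by
      rw [(conj_entries x hx' a d c).1]
      intro h
      apply hc
      rw [eq_div_iff hx', h]
    rw [extendByZero_of_not_mem _ _ hm, map_zero, mul_zero]
  · intro h; exact absurd (Finset.mem_univ _) h

theorem card_bor : (Nat.card ↥(Cfsg.upperTriangularGL 2 F) : ℂ) =
    (Fintype.card F : ℂ) * ((Fintype.card F : ℂ) - 1) ^ 2 := by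
  rw [Nat.card_congr (bEquiv (F := F)).symm, Nat.card_prod, Nat.card_prod,
    Nat.card_eq_fintype_card, Nat.card_eq_fintype_card, Fintype.card_units]
  have h2 : 1 ≤ Fintype.card F := Fintype.card_pos
  push_cast [Nat.cast_sub h2]; ring

theorem card_gl2 : (Nat.card (GL (Fin 2) F) : ℂ) =
    (Fintype.card F : ℂ) * ((Fintype.card F : ℂ) - 1) ^ 2 * ((Fintype.card F : ℂ) + 1) := by
  rw [Matrix.card_GL_field 2, Fin.prod_univ_two]
  have h2 : 1 ≤ Fintype.card F := Fintype.card_pos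
  have h3 : 1 ≤ Fintype.card F ^ 2 := Nat.one_le_pow _ _ h2
  have h4 : Fintype.card F ≤ Fintype.card F ^ 2 := Nat.le_self_pow two_ne_zero _
  simp only [Fin.val_zero, Fin.val_one, pow_zero, pow_one]
  push_cast [Nat.cast_sub h3, Nat.cast_sub h4]; ring

theorem inner_ind (α β α' β' : MulChar F ℂ) :
    Cfsg.classInner (Cfsg.indFun (Cfsg.upperTriangularGL 2 F) (lam α β))
      (Cfsg.indFun (Cfsg.upperTriangularGL 2 F) (lam α' β')) =
      (if α = α' ∧ β = β' then 1 else 0) + (if α = β' ∧ β = α' then 1 else 0) := by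
  classical
  haveI : Fintype ↥(Cfsg.upperTriangularGL 2 F) := Fintype.ofFinite _
  rw [frobenius_reciprocity _ (lam α β) _ (indFun_isClassFunction _ _), classInner_def]
  have h1 : ∀ b : ↥(Cfsg.upperTriangularGL 2 F), lam α β b *
      conj (Cfsg.indFun (Cfsg.upperTriangularGL 2 F) (lam α' β') b) =
      (Nat.card ↥(Cfsg.upperTriangularGL 2 F) : ℂ)⁻¹ * ∑ x : GL (Fin 2) F, lam α β b *
        conj (Cfsg.extendByZero (Cfsg.upperTriangularGL 2 F) (lam α' β') (x⁻¹ * b * x)) := by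
    intro b
    rw [indFun_apply, map_mul, map_inv₀, Complex.conj_natCast, map_sum, Finset.mul_sum,
      Finset.mul_sum, Finset.mul_sum]
    refine Finset.sum_congr rfl fun x _ => by ring
  rw [Finset.sum_congr rfl fun b _ => h1 b, ← Finset.mul_sum, Finset.sum_comm]
  have h2 : ∀ x : GL (Fin 2) F, ∑ b : ↥(Cfsg.upperTriangularGL 2 F), lam α β b *
      conj (Cfsg.extendByZero (Cfsg.upperTriangularGL 2 F) (lam α' β') (x⁻¹ * b * x)) =
      if x ∈ Cfsg.upperTriangularGL 2 F then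
        (Fintype.card F : ℂ) * ((∑ a : Fˣ, α (a : F) * conj (α' (a : F))) *
          (∑ d : Fˣ, β (d : F) * conj (β' (d : F))))
      else (∑ a : Fˣ, α (a : F) * conj (β' (a : F))) *
        (∑ d : Fˣ, β (d : F) * conj (α' (d : F))) := by
    intro x
    split_ifs with hx
    · exact S_mem α β α' β' x hx
    · exact S_not_mem α β α' β' x hx
  rw [Finset.sum_congr rfl fun x _ => h2 x, Finset.sum_ite, Finset.sum_const, Finset.sum_const]
  have hcB : (Finset.univ.filter (fun x : GL (Fin 2) F => x ∈ Cfsg.upperTriangularGL 2 F)).card =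
      Nat.card ↥(Cfsg.upperTriangularGL 2 F) := by
    rw [Nat.card_eq_fintype_card, Fintype.card_subtype]
  have hcW : ((Finset.univ.filter
      (fun x : GL (Fin 2) F => ¬ x ∈ Cfsg.upperTriangularGL 2 F)).card : ℂ) =
      (Nat.card (GL (Fin 2) F) : ℂ) - (Nat.card ↥(Cfsg.upperTriangularGL 2 F) : ℂ) := by
    have h3 := Finset.card_filter_add_card_filter_not (s := (Finset.univ : Finset (GL (Fin 2) F)))
      (fun x : GL (Fin 2) F => x ∈ Cfsg.upperTriangularGL 2 F)
    rw [hcB, Finset.card_univ, ← Nat.card_eq_fintype_card] at h3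
    rw [← h3]; push_cast; ring
  rw [nsmul_eq_mul, nsmul_eq_mul, hcB, hcW, card_bor, card_gl2]
  have hE12 : (∑ a : Fˣ, α (a : F) * conj (α' (a : F))) *
      (∑ d : Fˣ, β (d : F) * conj (β' (d : F))) =
      ((Fintype.card F : ℂ) - 1) ^ 2 * (if α = α' ∧ β = β' then 1 else 0) := by
    rw [sumE, sumE]
    by_cases h1 : α = α' <;> by_cases h2 : β = β' <;> simp [h1, h2]
    ring
  have hE34 : (∑ a : Fˣ, α (a : F) * conj (β' (a : F))) *
      (∑ d : Fˣ, β (d : F) * conj (α' (d : F))) =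
      ((Fintype.card F : ℂ) - 1) ^ 2 * (if α = β' ∧ β = α' then 1 else 0) := by
    rw [sumE, sumE]
    by_cases h1 : α = β' <;> by_cases h2 : β = α' <;> simp [h1, h2]
    ring
  rw [hE12, hE34]
  generalize (if α = α' ∧ β = β' then (1 : ℂ) else 0) = A
  generalize (if α = β' ∧ β = α' then (1 : ℂ) else 0) = A'
  have hq2 : 2 ≤ Fintype.card F := Fintype.one_lt_card
  have hQ0 : (Fintype.card F : ℂ) ≠ 0 := by
    have : Fintype.card F ≠ 0 := by omega
    exact_mod_cast this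
  have hQ1 : (Fintype.card F : ℂ) - 1 ≠ 0 := by
    intro h
    have h5 : (Fintype.card F : ℂ) = 1 := by linear_combination h
    have h6 : Fintype.card F = 1 := by exact_mod_cast h5
    omega
  field_simp
  ring

end fin

end Cfsg.Agent.Lib.Helper2.GL2
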