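import Mathlib
import Cfsg.Agent.Lib.Helper2.GL2a
import Cfsg.Agent.Lib.Helper2.CharReg

set_option autoImplicit false

namespace Cfsg.Agent.Lib.Helper2.GL2

open scoped ComplexConjugate
open Matrix

variable {F : Type*} [Field F]

theorem mul_bmk_eq {g h k : GL (Fin 2) F}
    (h1 : (h : Matrix (Fin 2) (Fin 2) F) * (g : Matrix (Fin 2) (Fin 2) F) =
      (k : Matrix (Fin 2) (Fin 2) F) * (h : Matrix (Fin 2) (Fin 2) F)) : h * g * h⁻¹ = k := by
  rw [mul_inv_eq_iff_eq_mul]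
  exact Units.ext h1

theorem class_split {χ : GL (Fin 2) F → ℂ} (hχ : Cfsg.IsClassFunction _ χ) (a d : Fˣ)
    (had : a ≠ d) (c : F) : χ (bmk a d c) = χ (bmk a d 0) := by
  have hne : (d : F) - a ≠ 0 := by
    intro h
    exact had (Units.ext (sub_eq_zero.1 h).symm)
  have h1 : bmk 1 1 (c / ((d : F) - a)) * bmk a d 0 * (bmk 1 1 (c / ((d : F) - a)))⁻¹ =
      bmk a d c := by
    apply mul_bmk_eq
    rw [bmk_coe, bmk_coe, bmk_coe]
    ext i j
    fin_cases i <;> fin_cases j <;> simp [Matrix.mul_apply, Fin.sum_univ_two]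
    field_simp
    ring
  rw [← h1, hχ]

theorem class_unip {χ : GL (Fin 2) F → ℂ} (hχ : Cfsg.IsClassFunction _ χ) (a : Fˣ)
    (c : F) (hc : c ≠ 0) : χ (bmk a a c) = χ (bmk a a 1) := by
  have h1 : bmk (Units.mk0 c hc) 1 0 * bmk a a 1 * (bmk (Units.mk0 c hc) 1 0)⁻¹ = bmk a a c := by
    apply mul_bmk_eq
    rw [bmk_coe, bmk_coe, bmk_coe]
    ext i j
    fin_cases i <;> fin_cases j <;> simp [Matrix.mul_apply, Fin.sum_univ_two]
    ring
  rw [← h1, hχ]

section fin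
variable [Fintype F] [DecidableEq F] [Fintype (MulChar F ℂ)]

theorem sum_dual {a : F} (ha : a ≠ 1) : ∑ χ : MulChar F ℂ, χ a = 0 := by
  haveI : NeZero (Monoid.exponent Fˣ) := ⟨Monoid.exponent_ne_zero_of_finite⟩
  obtain ⟨χ, hχ⟩ := MulChar.exists_apply_ne_one_of_hasEnoughRootsOfUnity F ℂ ha
  refine eq_zero_of_mul_eq_self_left hχ ?_
  simp only [Finset.mul_sum, ← MulChar.mul_apply]
  exact Fintype.sum_bijective _ (Group.mulLeft_bijective χ) _ _ fun χ' ↦ rfl

theorem card_mulChar : Fintype.card (MulChar F ℂ) = Fintype.card F - 1 := by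
  haveI : NeZero (Monoid.exponent Fˣ) := ⟨Monoid.exponent_ne_zero_of_finite⟩
  have h := MulChar.card_eq_card_units_of_hasEnoughRootsOfUnity F ℂ
  rw [Nat.card_eq_fintype_card, Nat.card_eq_fintype_card, Fintype.card_units] at h
  exact h

theorem sum_dual' (a₀ a : Fˣ) : ∑ χ : MulChar F ℂ, χ (a₀ : F) * conj (χ (a : F)) =
    if a₀ = a then ((Fintype.card F : ℂ) - 1) else 0 := by
  have h1 : ∀ χ : MulChar F ℂ, χ (a₀ : F) * conj (χ (a : F)) = χ ((a₀ : F) * (a : F)⁻¹) := by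
    intro χ
    rw [starRingEnd_apply, MulChar.star_apply', MulChar.inv_apply', map_mul]
  rw [Finset.sum_congr rfl fun χ _ => h1 χ]
  split_ifs with h
  · rw [h, mul_inv_cancel₀ a.ne_zero]
    simp only [map_one, Finset.sum_const, Finset.card_univ, nsmul_eq_mul, mul_one]
    rw [card_mulChar]
    have h2 : 1 ≤ Fintype.card F := Fintype.card_pos
    push_cast [Nat.cast_sub h2]; ring
  · apply sum_dual
    intro h2
    apply h
    apply Units.ext
    field_simp at h2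
    exact h2

theorem fourier [Fintype ↥(Cfsg.upperTriangularGL 2 F)] (f : GL (Fin 2) F → ℂ) (a₀ d₀ : Fˣ) :
    ∑ α : MulChar F ℂ, ∑ β : MulChar F ℂ,
      Cfsg.classInner (fun b : ↥(Cfsg.upperTriangularGL 2 F) => f b) (lam α β) *
        (α (a₀ : F) * β (d₀ : F)) =
    (Fintype.card F : ℂ)⁻¹ * ∑ c : F, f (bmk a₀ d₀ c) := by
  have e1 : ∀ α β : MulChar F ℂ,
      Cfsg.classInner (fun b : ↥(Cfsg.upperTriangularGL 2 F) => f b) (lam α β) =
      (Nat.card ↥(Cfsg.upperTriangularGL 2 F) : ℂ)⁻¹ * ∑ r : Fˣ × Fˣ,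
        (∑ c : F, f (bmk r.1 r.2 c)) * conj (α (r.1 : F) * β (r.2 : F)) := by
    intro α β
    rw [classInner_def, ← Equiv.sum_comp bEquiv, Fintype.sum_prod_type, Fintype.sum_prod_type]
    congr 1
    refine Finset.sum_congr rfl fun a _ => ?_
    rw [Fintype.sum_prod_type]
    refine Finset.sum_congr rfl fun d _ => ?_
    simp only [lam_bEquiv, bEquiv_coe]
    rw [Finset.sum_mul]
  rw [← Fintype.sum_prod_type' (f := fun α β : MulChar F ℂ =>
      Cfsg.classInner (fun b : ↥(Cfsg.upperTriangularGL 2 F) => f b) (lam α β) *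
        (α (a₀ : F) * β (d₀ : F)))]
  have e2 : ∀ p : MulChar F ℂ × MulChar F ℂ,
      Cfsg.classInner (fun b : ↥(Cfsg.upperTriangularGL 2 F) => f b) (lam p.1 p.2) *
        (p.1 (a₀ : F) * p.2 (d₀ : F)) =
      ∑ r : Fˣ × Fˣ, (Nat.card ↥(Cfsg.upperTriangularGL 2 F) : ℂ)⁻¹ *
        (∑ c : F, f (bmk r.1 r.2 c)) * ((p.1 (a₀ : F) * conj (p.1 (r.1 : F))) *
          (p.2 (d₀ : F) * conj (p.2 (r.2 : F)))) := by
    intro p
    rw [e1, Finset.mul_sum, Finset.sum_mul]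
    refine Finset.sum_congr rfl fun r _ => ?_
    rw [map_mul]; ring
  rw [Finset.sum_congr rfl fun p _ => e2 p, Finset.sum_comm]
  have e3 : ∀ r : Fˣ × Fˣ, ∑ p : MulChar F ℂ × MulChar F ℂ,
      (Nat.card ↥(Cfsg.upperTriangularGL 2 F) : ℂ)⁻¹ *
        (∑ c : F, f (bmk r.1 r.2 c)) * ((p.1 (a₀ : F) * conj (p.1 (r.1 : F))) *
          (p.2 (d₀ : F) * conj (p.2 (r.2 : F)))) =
      (Nat.card ↥(Cfsg.upperTriangularGL 2 F) : ℂ)⁻¹ * (∑ c : F, f (bmk r.1 r.2 c)) *
        ((if a₀ = r.1 then ((Fintype.card F : ℂ) - 1) else 0) *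
          (if d₀ = r.2 then ((Fintype.card F : ℂ) - 1) else 0)) := by
    intro r
    rw [← Finset.mul_sum, Fintype.sum_prod_type, ← sum_dual' a₀ r.1, ← sum_dual' d₀ r.2,
      Finset.sum_mul_sum]
  rw [Finset.sum_congr rfl fun r _ => e3 r, Finset.sum_eq_single (a₀, d₀)]
  · rw [if_pos rfl, if_pos rfl, card_bor]
    have hq2 : 2 ≤ Fintype.card F := Fintype.one_lt_card
    have hQ0 : (Fintype.card F : ℂ) ≠ 0 := by
      have : Fintype.card F ≠ 0 := by omega
      exact_mod_cast this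
    have hQ1 : (Fintype.card F : ℂ) - 1 ≠ 0 := by
      intro h
      have h5 : (Fintype.card F : ℂ) = 1 := by linear_combination h
      have h6 : Fintype.card F = 1 := by exact_mod_cast h5
      omega
    field_simp
  · rintro ⟨a, d⟩ _ hne
    by_cases h1 : a₀ = a
    · by_cases h2 : d₀ = d
      · exact absurd (by rw [h1, h2]) hne
      · simp [h2]
    · simp [h1]
  · intro h; exact absurd (Finset.mem_univ _) h

end fin

end Cfsg.Agent.Lib.Helper2.GL2
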