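import Mathlib
import Cfsg.Agent.Lib.Helper2.GL2b
import Cfsg.Agent.Lib.Helper2.CharConst
import Cfsg.Agent.Lib.Helper2.CharInt
import Cfsg.Agent.Lib.Helper7.CharBasic

set_option autoImplicit false

namespace Cfsg.Agent.Lib.Helper2.GL2

open scoped ComplexConjugate
open Matrix

theorem sum_ind {A : Type*} [Fintype A] [DecidableEq A] (f : A → A → ℂ) (a b : A) :
    ∑ x : A, ∑ y : A, (if a = x ∧ b = y then (1 : ℂ) else 0) * f x y = f a b := by
  rw [Finset.sum_eq_single a, Finset.sum_eq_single b]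
  · simp
  · intro y _ hy; simp [Ne.symm hy]
  · simp
  · intro x _ hx; apply Finset.sum_eq_zero; intro y _; simp [Ne.symm hx]
  · simp

variable {F : Type*} [Field F] [Fintype F] [DecidableEq F]

omit [DecidableEq F] in
theorem qne0 : (Fintype.card F : ℂ) ≠ 0 := by
  have : Fintype.card F ≠ 0 := Fintype.card_ne_zero
  exact_mod_cast this

omit [DecidableEq F] in
theorem qne1 : (Fintype.card F : ℂ) - 1 ≠ 0 := by
  have hq2 : 2 ≤ Fintype.card F := Fintype.one_lt_card
  intro h
  have h5 : (Fintype.card F : ℂ) = 1 := by linear_combination h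
  have h6 : Fintype.card F = 1 := by exact_mod_cast h5
  omega

/-- principal series -/
noncomputable def II (α β : MulChar F ℂ) : GL (Fin 2) F → ℂ :=
  Cfsg.indFun (Cfsg.upperTriangularGL 2 F) (lam α β)

theorem II_isCharacter (α β : MulChar F ℂ) : Cfsg.IsCharacter (GL (Fin 2) F) (II α β) :=
  IsCharacter.ind _ (lam_isCharacter α β)

theorem inner_II (α β α' β' : MulChar F ℂ) : Cfsg.classInner (II α β) (II α' β') =
    (if α = α' ∧ β = β' then 1 else 0) + (if α = β' ∧ β = α' then 1 else 0) :=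
  inner_ind α β α' β'

theorem II_one (α β : MulChar F ℂ) : II α β 1 = (Fintype.card F : ℂ) + 1 := by
  rw [II, indFun_one_eq, lam_one, mul_one]
  have h := Subgroup.card_mul_index (Cfsg.upperTriangularGL 2 F)
  have h2 : (Nat.card ↥(Cfsg.upperTriangularGL 2 F) : ℂ) *
      ((Cfsg.upperTriangularGL 2 F).index : ℂ) = (Nat.card (GL (Fin 2) F) : ℂ) := by
    exact_mod_cast h
  rw [card_bor, card_gl2] at h2
  have h3 : (Fintype.card F : ℂ) * ((Fintype.card F : ℂ) - 1) ^ 2 ≠ 0 :=
    mul_ne_zero qne0 (pow_ne_zero 2 qne1)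
  exact mul_left_cancel₀ h3 h2

/-- determinant characters -/
noncomputable def dl (α : MulChar F ℂ) : GL (Fin 2) F → ℂ :=
  fun g => ((α.toUnitHom.comp Matrix.GeneralLinearGroup.det) g : ℂˣ)

omit [Fintype F] in
theorem dl_apply (α : MulChar F ℂ) (g : GL (Fin 2) F) :
    dl α g = α ((g : Matrix (Fin 2) (Fin 2) F).det) := by
  simp [dl, MulChar.coe_toUnitHom]

theorem dl_irr (α : MulChar F ℂ) : Cfsg.IsIrrCharacter (GL (Fin 2) F) (dl α) :=
  isIrrCharacter_of_hom _

omit [Fintype F] in
theorem dl_one (α : MulChar F ℂ) : dl α 1 = 1 := by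
  simp [dl_apply]

omit [Fintype F] in
theorem dl_restrict (α : MulChar F ℂ) :
    (fun b : ↥(Cfsg.upperTriangularGL 2 F) => dl α b) = lam α α := by
  funext b
  rw [dl_apply, Matrix.det_fin_two, (mem_bor _).1 b.2, mul_zero, sub_zero, map_mul]
  rfl

theorem inner_lam [Fintype ↥(Cfsg.upperTriangularGL 2 F)] (α β α' β' : MulChar F ℂ) :
    Cfsg.classInner (lam α β) (lam α' β') = if α = α' ∧ β = β' then 1 else 0 := by
  have h := S_mem α β α' β' 1 (one_mem _)
  simp only [inv_one, one_mul, mul_one, extendByZero_coe] at h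
  rw [classInner_def, h, card_bor, sumE, sumE]
  have h0 := qne0 (F := F)
  have h1 := qne1 (F := F)
  by_cases e1 : α = α' <;> by_cases e2 : β = β' <;> simp [e1, e2]
  field_simp

theorem inner_II_dl (α β γ : MulChar F ℂ) :
    Cfsg.classInner (II α β) (dl γ) = if α = γ ∧ β = γ then 1 else 0 := by
  haveI : Fintype ↥(Cfsg.upperTriangularGL 2 F) := Fintype.ofFinite _
  rw [II, frobenius_reciprocity _ _ _
    (IsCharacter.isClassFunction (IsIrrCharacter.isCharacter (dl_irr γ))), dl_restrict, inner_lam]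

theorem inner_dl_II (α β γ : MulChar F ℂ) :
    Cfsg.classInner (dl γ) (II α β) = if α = γ ∧ β = γ then 1 else 0 := by
  rw [← classInner_conj_symm, inner_II_dl]
  split_ifs <;> simp

/-- Steinberg characters -/
noncomputable def St (α : MulChar F ℂ) : GL (Fin 2) F → ℂ := II α α - dl α

theorem St_isCharacter (α : MulChar F ℂ) : Cfsg.IsCharacter (GL (Fin 2) F) (St α) :=
  IsCharacter.sub_constituent (II_isCharacter α α) (dl_irr α) (by rw [inner_II_dl]; simp)

theorem inner_St_II (α β γ : MulChar F ℂ) :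
    Cfsg.classInner (St γ) (II α β) = if α = γ ∧ β = γ then 1 else 0 := by
  rw [St, classInner_sub_left, inner_II, inner_dl_II]
  by_cases e1 : α = γ <;> by_cases e2 : β = γ <;> simp [e1, e2, eq_comm]

theorem St_irr (α : MulChar F ℂ) : Cfsg.IsIrrCharacter (GL (Fin 2) F) (St α) := by
  apply isIrrCharacter_of_norm_one (St_isCharacter α)
  have h1 : Cfsg.classInner (St α) (dl α) = 0 := by
    rw [St, classInner_sub_left, inner_II_dl, irr_norm_one (dl_irr α)]
    simp
  conv_lhs => rw [St]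
  rw [classInner_sub_right]
  conv_lhs => rw [← St]
  rw [inner_St_II, h1]
  simp

theorem St_one (α : MulChar F ℂ) : St α 1 = (Fintype.card F : ℂ) := by
  rw [St, Pi.sub_apply, II_one, dl_one]; ring

theorem II_irr {α β : MulChar F ℂ} (h : α ≠ β) : Cfsg.IsIrrCharacter (GL (Fin 2) F) (II α β) := by
  apply isIrrCharacter_of_norm_one (II_isCharacter α β)
  rw [inner_II]
  simp [h]

theorem II_diag (α : MulChar F ℂ) : II α α = dl α + St α := by
  rw [St]; abel

/-- a non-cuspidal irreducible character is one of the three explicit types -/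
theorem noncusp {χ : GL (Fin 2) F → ℂ} (hχ : Cfsg.IsIrrCharacter (GL (Fin 2) F) χ)
    {α β : MulChar F ℂ} (h : Cfsg.classInner χ (II α β) ≠ 0) :
    (α = β ∧ χ = dl α) ∨ (α = β ∧ χ = St α) ∨ (α ≠ β ∧ χ = II α β) := by
  by_cases e : α = β
  · subst e
    rw [II_diag, classInner_add_right] at h
    by_cases h1 : χ = dl α
    · exact Or.inl ⟨rfl, h1⟩
    · by_cases h2 : χ = St α
      · exact Or.inr (Or.inl ⟨rfl, h2⟩)
      · rw [irr_orthogonal hχ (dl_irr α) h1, irr_orthogonal hχ (St_irr α) h2] at h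
        simp at h
  · refine Or.inr (Or.inr ⟨e, ?_⟩)
    by_contra h1
    exact h (irr_orthogonal hχ (II_irr e) h1)

end Cfsg.Agent.Lib.Helper2.GL2
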