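import Mathlib
import Cfsg.Agent.Lib.Helper2.GL2c

set_option autoImplicit false

namespace Cfsg.Agent.Lib.Helper2.GL2

open scoped ComplexConjugate
open Matrix

variable {F : Type*} [Field F] [Fintype F] [DecidableEq F]

/-- cuspidal: orthogonal to all principal series -/
def cusp (χ : GL (Fin 2) F → ℂ) : Prop :=
  ∀ α β : MulChar F ℂ, Cfsg.classInner χ (II α β) = 0

omit [Fintype F] [DecidableEq F] in
theorem bmk_one : bmk (1 : Fˣ) 1 (0 : F) = 1 := by
  apply Units.ext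
  rw [bmk_coe]
  ext i j
  fin_cases i <;> fin_cases j <;> simp

/-- companion matrices -/
noncomputable def comp (t : F) (d : Fˣ) : GL (Fin 2) F :=
  Matrix.GeneralLinearGroup.mkOfDetNeZero !![0, -(d : F); 1, t] (by simp [Matrix.det_fin_two])

omit [Fintype F] [DecidableEq F] in
theorem comp_coe (t : F) (d : Fˣ) :
    ((comp t d : GL (Fin 2) F) : Matrix (Fin 2) (Fin 2) F) = !![0, -(d : F); 1, t] := rfl

omit [Fintype F] [DecidableEq F] in
theorem scalar_central (a : Fˣ) (c : GL (Fin 2) F) : c * bmk a a 0 * c⁻¹ = bmk a a 0 := by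
  apply mul_bmk_eq
  rw [bmk_coe]
  ext i j
  fin_cases i <;> fin_cases j <;> simp [Matrix.mul_apply, Fin.sum_univ_two, mul_comm]

theorem card_conj_ge : (Fintype.card F - 1) + Fintype.card F * (Fintype.card F - 1) ≤
    Nat.card (ConjClasses (GL (Fin 2) F)) := by
  let Ψ : Fˣ ⊕ (F × Fˣ) → ConjClasses (GL (Fin 2) F) := fun s => match s with
    | Sum.inl a => ConjClasses.mk (bmk a a 0)
    | Sum.inr p => ConjClasses.mk (comp p.1 p.2)
  have hinj : Function.Injective Ψ := by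
    rintro (a | ⟨t, d⟩) (a' | ⟨t', d'⟩) h
    · have h1 : IsConj (bmk a a 0) (bmk a' a' 0) := ConjClasses.mk_eq_mk_iff_isConj.1 h
      obtain ⟨c, hc⟩ := isConj_iff.1 h1
      rw [scalar_central] at hc
      have h2 : ((bmk a a 0 : GL (Fin 2) F) : Matrix (Fin 2) (Fin 2) F) 0 0 =
          ((bmk a' a' 0 : GL (Fin 2) F) : Matrix (Fin 2) (Fin 2) F) 0 0 := by rw [hc]
      simp [bmk_coe] at h2
      rw [Units.ext h2]
    · exfalso
      have h1 : IsConj (bmk a a 0) (comp t' d') := ConjClasses.mk_eq_mk_iff_isConj.1 h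
      obtain ⟨c, hc⟩ := isConj_iff.1 h1
      rw [scalar_central] at hc
      have h2 : ((bmk a a 0 : GL (Fin 2) F) : Matrix (Fin 2) (Fin 2) F) 1 0 =
          ((comp t' d' : GL (Fin 2) F) : Matrix (Fin 2) (Fin 2) F) 1 0 := by rw [hc]
      simp [bmk_coe, comp_coe] at h2
    · exfalso
      have h1 : IsConj (bmk a' a' 0) (comp t d) := (ConjClasses.mk_eq_mk_iff_isConj.1 h).symm
      obtain ⟨c, hc⟩ := isConj_iff.1 h1
      rw [scalar_central] at hc
      have h2 : ((bmk a' a' 0 : GL (Fin 2) F) : Matrix (Fin 2) (Fin 2) F) 1 0 =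
          ((comp t d : GL (Fin 2) F) : Matrix (Fin 2) (Fin 2) F) 1 0 := by rw [hc]
      simp [bmk_coe, comp_coe] at h2
    · have h1 : IsConj (comp t d) (comp t' d') := ConjClasses.mk_eq_mk_iff_isConj.1 h
      obtain ⟨c, hc⟩ := isConj_iff.1 h1
      have hm : (c : Matrix (Fin 2) (Fin 2) F) * (comp t d : GL (Fin 2) F) *
          ((c⁻¹ : GL (Fin 2) F) : Matrix (Fin 2) (Fin 2) F) = (comp t' d' : GL (Fin 2) F) :=
        congrArg Units.val hc
      have ht : Matrix.trace ((comp t' d' : GL (Fin 2) F) : Matrix (Fin 2) (Fin 2) F) =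
          Matrix.trace ((comp t d : GL (Fin 2) F) : Matrix (Fin 2) (Fin 2) F) := by
        rw [← hm, Matrix.trace_units_conj]
      have hd : Matrix.det ((comp t' d' : GL (Fin 2) F) : Matrix (Fin 2) (Fin 2) F) =
          Matrix.det ((comp t d : GL (Fin 2) F) : Matrix (Fin 2) (Fin 2) F) := by
        rw [← hm, Matrix.det_units_conj]
      simp [comp_coe, Matrix.trace_fin_two] at ht
      simp [comp_coe, Matrix.det_fin_two] at hd
      rw [ht, Units.ext hd]
  have h := Nat.card_le_card_of_injective Ψ hinj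
  rw [Nat.card_sum, Nat.card_prod, Nat.card_eq_fintype_card, Nat.card_eq_fintype_card,
    Fintype.card_units] at h
  exact h

section vals
variable [Fintype (MulChar F ℂ)]

theorem sum_inner_II (f : MulChar F ℂ → MulChar F ℂ → ℂ) (α β : MulChar F ℂ) :
    ∑ x : MulChar F ℂ, ∑ y : MulChar F ℂ, Cfsg.classInner (II α β) (II x y) * f x y =
      f α β + f β α := by
  have h1 : ∀ x y : MulChar F ℂ, Cfsg.classInner (II α β) (II x y) * f x y =
      (if α = x ∧ β = y then (1 : ℂ) else 0) * f x y +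
        (if β = x ∧ α = y then (1 : ℂ) else 0) * f x y := by
    intro x y
    have e : (α = y ∧ β = x) ↔ (β = x ∧ α = y) := and_comm
    rw [inner_II, add_mul, if_congr e rfl rfl]
  simp only [h1, Finset.sum_add_distrib, sum_ind]

theorem sum_inner_dl (f : MulChar F ℂ → MulChar F ℂ → ℂ) (γ : MulChar F ℂ) :
    ∑ x : MulChar F ℂ, ∑ y : MulChar F ℂ, Cfsg.classInner (dl γ) (II x y) * f x y = f γ γ := by
  have h1 : ∀ x y : MulChar F ℂ, Cfsg.classInner (dl γ) (II x y) * f x y =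
      (if γ = x ∧ γ = y then (1 : ℂ) else 0) * f x y := by
    intro x y
    have e : (x = γ ∧ y = γ) ↔ (γ = x ∧ γ = y) :=
      ⟨fun h => ⟨h.1.symm, h.2.symm⟩, fun h => ⟨h.1.symm, h.2.symm⟩⟩
    rw [inner_dl_II, if_congr e rfl rfl]
  simp only [h1, sum_ind]

theorem sum_inner_St (f : MulChar F ℂ → MulChar F ℂ → ℂ) (γ : MulChar F ℂ) :
    ∑ x : MulChar F ℂ, ∑ y : MulChar F ℂ, Cfsg.classInner (St γ) (II x y) * f x y = f γ γ := by
  have h1 : ∀ x y : MulChar F ℂ, Cfsg.classInner (St γ) (II x y) * f x y =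
      (if γ = x ∧ γ = y then (1 : ℂ) else 0) * f x y := by
    intro x y
    have e : (x = γ ∧ y = γ) ↔ (γ = x ∧ γ = y) :=
      ⟨fun h => ⟨h.1.symm, h.2.symm⟩, fun h => ⟨h.1.symm, h.2.symm⟩⟩
    rw [inner_St_II, if_congr e rfl rfl]
  simp only [h1, sum_ind]

theorem fourier_II {χ : GL (Fin 2) F → ℂ} (hχ : Cfsg.IsClassFunction _ χ) (a d : Fˣ) :
    ∑ α : MulChar F ℂ, ∑ β : MulChar F ℂ,
      Cfsg.classInner χ (II α β) * (α (a : F) * β (d : F)) =
    (Fintype.card F : ℂ)⁻¹ * ∑ c : F, χ (bmk a d c) := by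
  haveI : Fintype ↥(Cfsg.upperTriangularGL 2 F) := Fintype.ofFinite _
  simp only [II, frobenius_reciprocity' _ _ _ hχ]
  exact fourier χ a d

theorem val_split {χ : GL (Fin 2) F → ℂ} (hχ : Cfsg.IsClassFunction _ χ) (a d : Fˣ)
    (had : a ≠ d) : χ (bmk a d 0) = ∑ α : MulChar F ℂ, ∑ β : MulChar F ℂ,
      Cfsg.classInner χ (II α β) * (α (a : F) * β (d : F)) := by
  rw [fourier_II hχ, Finset.sum_congr rfl fun c _ => class_split hχ a d had c, Finset.sum_const,
    Finset.card_univ, nsmul_eq_mul]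
  have h0 := qne0 (F := F)
  field_simp

theorem val_unip {χ : GL (Fin 2) F → ℂ} (hχ : Cfsg.IsClassFunction _ χ) :
    χ 1 + ((Fintype.card F : ℂ) - 1) * χ (bmk 1 1 1) =
      (Fintype.card F : ℂ) * ∑ α : MulChar F ℂ, ∑ β : MulChar F ℂ,
        Cfsg.classInner χ (II α β) := by
  have h := fourier_II hχ 1 1
  simp only [Units.val_one, map_one, mul_one] at h
  rw [h]
  have h2 : ∑ c : F, χ (bmk 1 1 c) = χ 1 + ((Fintype.card F : ℂ) - 1) * χ (bmk 1 1 1) := by
    rw [← Finset.add_sum_erase _ _ (Finset.mem_univ (0 : F)), bmk_one]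
    congr 1
    rw [Finset.sum_congr rfl fun c hc => class_unip hχ 1 c (Finset.ne_of_mem_erase hc),
      Finset.sum_const, Finset.card_erase_of_mem (Finset.mem_univ _), Finset.card_univ,
      nsmul_eq_mul, Nat.cast_sub Fintype.card_pos]
    simp
  rw [h2]
  have h0 := qne0 (F := F)
  field_simp

theorem cusp_deg {χ : GL (Fin 2) F → ℂ} (hχ : Cfsg.IsIrrCharacter _ χ) (hc : cusp χ) :
    ∃ m : ℕ, 1 ≤ m ∧ χ 1 = m * ((Fintype.card F : ℂ) - 1) ∧ χ (bmk 1 1 1) = -(m : ℂ) := by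
  have hcl := IsCharacter.isClassFunction (IsIrrCharacter.isCharacter hχ)
  have h1 := val_unip hcl
  simp only [hc _ _, Finset.sum_const_zero, mul_zero] at h1
  obtain ⟨n, hn, hn1⟩ := IsIrrCharacter.apply_one_pos hχ
  have hq2 : 2 ≤ Fintype.card F := Fintype.one_lt_card
  have hint : IsIntegral ℤ (χ (bmk 1 1 1)) :=
    Cfsg.Agent.Lib.Helper7.char_isIntegral (IsIrrCharacter.isCharacter hχ) _
  have hrat : χ (bmk 1 1 1) = ((-(n : ℚ) / ((Fintype.card F : ℚ) - 1) : ℚ) : ℂ) := by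
    push_cast
    rw [eq_div_iff qne1]
    linear_combination h1 - hn1
  obtain ⟨k, hk⟩ := exists_int_of_isIntegral_of_rat hint _ hrat
  have h2 : (n : ℤ) + ((Fintype.card F : ℤ) - 1) * k = 0 := by
    have : (((n : ℤ) + ((Fintype.card F : ℤ) - 1) * k : ℤ) : ℂ) = 0 := by
      push_cast
      rw [← hk, ← hn1]
      exact h1
    exact_mod_cast this
  have hk0 : k < 0 := by
    by_contra hcon
    push Not at hcon
    have : 0 ≤ ((Fintype.card F : ℤ) - 1) * k := mul_nonneg (by omega) hcon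
    omega
  obtain ⟨m, hm⟩ := Int.eq_ofNat_of_zero_le (show 0 ≤ -k by omega)
  have hkm : (k : ℂ) = -(m : ℂ) := by
    have : k = -(m : ℤ) := by omega
    rw [this]; push_cast; ring
  refine ⟨m, by omega, ?_, ?_⟩
  · rw [hk, hkm] at h1
    linear_combination h1
  · rw [hk, hkm]

end vals

end Cfsg.Agent.Lib.Helper2.GL2
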