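import Mathlib
import Cfsg.Agent.Lib.Helper2.GL2d

set_option autoImplicit false

namespace Cfsg.Agent.Lib.Helper2.GL2

open scoped ComplexConjugate
open Matrix

variable {F : Type*} [Field F] [Fintype F] [DecidableEq F]

section cnt
variable [Fintype (MulChar F ℂ)]

noncomputable def cc (α β : MulChar F ℂ) : ℂ := if α = β then 1 else 1 / 2

noncomputable def WW (χ : GL (Fin 2) F → ℂ) : ℂ :=
  ∑ α : MulChar F ℂ, ∑ β : MulChar F ℂ, Cfsg.classInner χ (II α β) * cc α β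

theorem WW_cusp {χ : GL (Fin 2) F → ℂ} (hc : cusp χ) : WW χ = 0 := by
  simp [WW, hc _ _]

theorem WW_noncusp {χ : GL (Fin 2) F → ℂ} (hχ : Cfsg.IsIrrCharacter _ χ) (hc : ¬ cusp χ) :
    WW χ = 1 := by
  unfold cusp at hc
  push Not at hc
  obtain ⟨α, β, h⟩ := hc
  rcases noncusp hχ h with ⟨_, rfl⟩ | ⟨_, rfl⟩ | ⟨hne, rfl⟩
  · rw [WW, sum_inner_dl]; simp [cc]
  · rw [WW, sum_inner_St]; simp [cc]
  · rw [WW, sum_inner_II]; simp [cc, hne, Ne.symm hne]; norm_num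

variable [Fintype (Cfsg.IrrCharacter (GL (Fin 2) F))]

omit [Fintype (MulChar F ℂ)] in
theorem sum_phi_inner (φ : ℂ → ℂ) {ψ : GL (Fin 2) F → ℂ} (hψ : Cfsg.IsIrrCharacter _ ψ) :
    ∑ χ : Cfsg.IrrCharacter (GL (Fin 2) F), φ ((χ : GL (Fin 2) F → ℂ) 1) *
      Cfsg.classInner (χ : GL (Fin 2) F → ℂ) ψ = φ (ψ 1) := by
  rw [Finset.sum_eq_single (⟨ψ, hψ⟩ : Cfsg.IrrCharacter (GL (Fin 2) F))]
  · show φ (ψ 1) * Cfsg.classInner ψ ψ = _
    rw [irr_norm_one hψ, mul_one]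
  · intro χ _ hne
    rw [irr_orthogonal χ.2 hψ (fun h => hne (Subtype.ext h)), mul_zero]
  · intro h; exact absurd (Finset.mem_univ _) h

omit [Fintype (MulChar F ℂ)] in
theorem sum_phi_II (φ : ℂ → ℂ) (α β : MulChar F ℂ) :
    ∑ χ : Cfsg.IrrCharacter (GL (Fin 2) F), φ ((χ : GL (Fin 2) F → ℂ) 1) *
      Cfsg.classInner (χ : GL (Fin 2) F → ℂ) (II α β) =
      if α = β then φ 1 + φ (Fintype.card F : ℂ) else φ ((Fintype.card F : ℂ) + 1) := by
  split_ifs with h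
  · subst h
    simp only [II_diag, classInner_add_right, mul_add, Finset.sum_add_distrib]
    rw [sum_phi_inner φ (dl_irr α), sum_phi_inner φ (St_irr α), dl_one, St_one]
  · rw [sum_phi_inner φ (II_irr h), II_one]

theorem sum_phi_WW (φ : ℂ → ℂ) :
    ∑ χ : Cfsg.IrrCharacter (GL (Fin 2) F), φ ((χ : GL (Fin 2) F → ℂ) 1) *
      WW (χ : GL (Fin 2) F → ℂ) =
    ((Fintype.card F : ℂ) - 1) * (φ 1 + φ (Fintype.card F : ℂ)) +
      ((Fintype.card F : ℂ) - 1) * ((Fintype.card F : ℂ) - 2) / 2 *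
        φ ((Fintype.card F : ℂ) + 1) := by
  have h1 : ∀ χ : Cfsg.IrrCharacter (GL (Fin 2) F), φ ((χ : GL (Fin 2) F → ℂ) 1) *
      WW (χ : GL (Fin 2) F → ℂ) = ∑ α : MulChar F ℂ, ∑ β : MulChar F ℂ,
        cc α β * (φ ((χ : GL (Fin 2) F → ℂ) 1) *
          Cfsg.classInner (χ : GL (Fin 2) F → ℂ) (II α β)) := by
    intro χ
    rw [WW, Finset.mul_sum]
    refine Finset.sum_congr rfl fun α _ => ?_
    rw [Finset.mul_sum]
    refine Finset.sum_congr rfl fun β _ => by ring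
  rw [Finset.sum_congr rfl fun χ _ => h1 χ, Finset.sum_comm]
  have h2 : ∀ α : MulChar F ℂ, ∑ χ : Cfsg.IrrCharacter (GL (Fin 2) F), ∑ β : MulChar F ℂ,
        cc α β * (φ ((χ : GL (Fin 2) F → ℂ) 1) *
          Cfsg.classInner (χ : GL (Fin 2) F → ℂ) (II α β)) =
      (φ 1 + φ (Fintype.card F : ℂ)) +
        ((Fintype.card F : ℂ) - 2) * (φ ((Fintype.card F : ℂ) + 1) / 2) := by
    intro α
    rw [Finset.sum_comm]
    have h3 : ∀ β : MulChar F ℂ, ∑ χ : Cfsg.IrrCharacter (GL (Fin 2) F),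
        cc α β * (φ ((χ : GL (Fin 2) F → ℂ) 1) *
          Cfsg.classInner (χ : GL (Fin 2) F → ℂ) (II α β)) =
        φ ((Fintype.card F : ℂ) + 1) / 2 + (if α = β then
          (φ 1 + φ (Fintype.card F : ℂ) - φ ((Fintype.card F : ℂ) + 1) / 2) else 0) := by
      intro β
      rw [← Finset.mul_sum, sum_phi_II, cc]
      split_ifs <;> ring
    rw [Finset.sum_congr rfl fun β _ => h3 β, Finset.sum_add_distrib, Finset.sum_const,
      Finset.sum_ite_eq, if_pos (Finset.mem_univ _), Finset.card_univ, card_mulChar,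
      nsmul_eq_mul, Nat.cast_sub Fintype.card_pos]
    push_cast; ring
  rw [Finset.sum_congr rfl fun α _ => h2 α, Finset.sum_const, Finset.card_univ, card_mulChar,
    nsmul_eq_mul, Nat.cast_sub Fintype.card_pos]
  push_cast; ring

open Classical in
theorem sum_phi (φ : ℂ → ℂ) :
    ∑ χ : Cfsg.IrrCharacter (GL (Fin 2) F), φ ((χ : GL (Fin 2) F → ℂ) 1) =
    ((Fintype.card F : ℂ) - 1) * (φ 1 + φ (Fintype.card F : ℂ)) +
      ((Fintype.card F : ℂ) - 1) * ((Fintype.card F : ℂ) - 2) / 2 *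
        φ ((Fintype.card F : ℂ) + 1) +
      ∑ χ ∈ Finset.univ.filter (fun χ : Cfsg.IrrCharacter (GL (Fin 2) F) =>
        cusp (χ : GL (Fin 2) F → ℂ)), φ ((χ : GL (Fin 2) F → ℂ) 1) := by
  rw [← sum_phi_WW φ, Finset.sum_filter, ← Finset.sum_add_distrib]
  refine Finset.sum_congr rfl fun χ _ => ?_
  split_ifs with h
  · rw [WW_cusp h]; ring
  · rw [WW_noncusp χ.2 h]; ring

open Classical in
theorem cusp_main :
    (∀ χ : Cfsg.IrrCharacter (GL (Fin 2) F), cusp (χ : GL (Fin 2) F → ℂ) →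
      (χ : GL (Fin 2) F → ℂ) 1 = (Fintype.card F : ℂ) - 1) ∧
    2 * ((Finset.univ.filter (fun χ : Cfsg.IrrCharacter (GL (Fin 2) F) =>
        cusp (χ : GL (Fin 2) F → ℂ))).card : ℤ) =
      (Fintype.card F : ℤ) * ((Fintype.card F : ℤ) - 1) := by
  set C := Finset.univ.filter (fun χ : Cfsg.IrrCharacter (GL (Fin 2) F) =>
        cusp (χ : GL (Fin 2) F → ℂ)) with hC
  have hm : ∀ χ : Cfsg.IrrCharacter (GL (Fin 2) F), ∃ m : ℕ, cusp (χ : GL (Fin 2) F → ℂ) →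
      (1 ≤ m ∧ (χ : GL (Fin 2) F → ℂ) 1 = m * ((Fintype.card F : ℂ) - 1)) := by
    intro χ
    by_cases h : cusp (χ : GL (Fin 2) F → ℂ)
    · obtain ⟨m, h1, h2, _⟩ := cusp_deg χ.2 h
      exact ⟨m, fun _ => ⟨h1, h2⟩⟩
    · exact ⟨0, fun h' => absurd h' h⟩
  choose m hm using hm
  have hq2 : 2 ≤ Fintype.card F := Fintype.one_lt_card
  have E1 := sum_phi (F := F) (fun _ => 1)
  have E2 := sum_phi (F := F) (fun z => z * z)
  rw [← hC] at E1 E2
  rw [Finset.sum_const, Finset.sum_const, Finset.card_univ, nsmul_eq_mul, nsmul_eq_mul, mul_one,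
    mul_one] at E1
  have hX : Fintype.card (Cfsg.IrrCharacter (GL (Fin 2) F)) =
      Nat.card (ConjClasses (GL (Fin 2) F)) := by
    rw [← Nat.card_eq_fintype_card, card_irrCharacter]
  have hge := card_conj_ge (F := F)
  rw [← hX] at hge
  have hsq : ∑ χ : Cfsg.IrrCharacter (GL (Fin 2) F), (χ : GL (Fin 2) F → ℂ) 1 *
      (χ : GL (Fin 2) F → ℂ) 1 = (Nat.card (GL (Fin 2) F) : ℂ) := by
    have := sum_irr_one_mul (G := GL (Fin 2) F) 1
    rwa [if_pos rfl] at this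
  rw [hsq, card_gl2] at E2
  have hCs : ∑ χ ∈ C, (χ : GL (Fin 2) F → ℂ) 1 * (χ : GL (Fin 2) F → ℂ) 1 =
      ((Fintype.card F : ℂ) - 1) ^ 2 * ((∑ χ ∈ C, (m χ : ℤ) ^ 2 : ℤ) : ℂ) := by
    push_cast
    rw [Finset.mul_sum]
    refine Finset.sum_congr rfl fun χ hχ => ?_
    rw [(hm χ (Finset.mem_filter.1 hχ).2).2]
    ring
  rw [hCs] at E2
  have I2c : 2 * ((∑ χ ∈ C, (m χ : ℤ) ^ 2 : ℤ) : ℂ) =
      (Fintype.card F : ℂ) * ((Fintype.card F : ℂ) - 1) := by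
    have h3 : ((Fintype.card F : ℂ) - 1) ^ 2 ≠ 0 := pow_ne_zero 2 qne1
    apply mul_left_cancel₀ h3
    linear_combination (-2 : ℂ) * E2
  have I2 : 2 * (∑ χ ∈ C, (m χ : ℤ) ^ 2) = (Fintype.card F : ℤ) * ((Fintype.card F : ℤ) - 1) := by
    have : ((2 * (∑ χ ∈ C, (m χ : ℤ) ^ 2) : ℤ) : ℂ) =
        (((Fintype.card F : ℤ) * ((Fintype.card F : ℤ) - 1) : ℤ) : ℂ) := by
      rw [Int.cast_mul]
      push_cast at I2c ⊢
      exact I2c
    exact_mod_cast this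
  have I1 : 2 * (Fintype.card (Cfsg.IrrCharacter (GL (Fin 2) F)) : ℤ) =
      4 * ((Fintype.card F : ℤ) - 1) + ((Fintype.card F : ℤ) - 1) * ((Fintype.card F : ℤ) - 2) +
        2 * (C.card : ℤ) := by
    have : ((2 * (Fintype.card (Cfsg.IrrCharacter (GL (Fin 2) F)) : ℤ) : ℤ) : ℂ) =
      ((4 * ((Fintype.card F : ℤ) - 1) + ((Fintype.card F : ℤ) - 1) * ((Fintype.card F : ℤ) - 2) +
        2 * (C.card : ℤ) : ℤ) : ℂ) := by
      push_cast
      linear_combination 2 * E1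
    exact_mod_cast this
  have I3 : ((Fintype.card F : ℤ) - 1) + (Fintype.card F : ℤ) * ((Fintype.card F : ℤ) - 1) ≤
      (Fintype.card (Cfsg.IrrCharacter (GL (Fin 2) F)) : ℤ) := by
    have h4 : ((Fintype.card F - 1 : ℕ) : ℤ) = (Fintype.card F : ℤ) - 1 := by
      rw [Nat.cast_sub (by omega)]; simp
    have h5 : (((Fintype.card F - 1) + Fintype.card F * (Fintype.card F - 1) : ℕ) : ℤ) ≤
      (Fintype.card (Cfsg.IrrCharacter (GL (Fin 2) F)) : ℤ) := by exact_mod_cast hge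
    rw [Nat.cast_add, Nat.cast_mul, h4] at h5
    exact h5
  have I4 : (C.card : ℤ) ≤ ∑ χ ∈ C, (m χ : ℤ) ^ 2 := by
    have : (C.card : ℤ) = ∑ χ ∈ C, (1 : ℤ) := by simp
    rw [this]
    apply Finset.sum_le_sum
    intro χ hχ
    have h6 := (hm χ (Finset.mem_filter.1 hχ).2).1
    have h7 : (1 : ℤ) ≤ (m χ : ℤ) := by exact_mod_cast h6
    nlinarith
  have I5 : (Fintype.card F : ℤ) * ((Fintype.card F : ℤ) - 1) ≤ 2 * (C.card : ℤ) := by
    nlinarith
  constructor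
  · intro χ hχ
    have hχC : χ ∈ C := Finset.mem_filter.2 ⟨Finset.mem_univ _, hχ⟩
    obtain ⟨h6, h7⟩ := hm χ hχ
    by_cases h8 : m χ = 1
    · rw [h7, h8]; simp
    · exfalso
      have h9 : (C.card : ℤ) < ∑ χ ∈ C, (m χ : ℤ) ^ 2 := by
        have : (C.card : ℤ) = ∑ χ ∈ C, (1 : ℤ) := by simp
        rw [this]
        apply Finset.sum_lt_sum
        · intro χ hχ
          have h6 := (hm χ (Finset.mem_filter.1 hχ).2).1
          have h7 : (1 : ℤ) ≤ (m χ : ℤ) := by exact_mod_cast h6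
          nlinarith
        · refine ⟨χ, hχC, ?_⟩
          have h10 : (2 : ℤ) ≤ (m χ : ℤ) := by
            have : 2 ≤ m χ := by omega
            exact_mod_cast this
          nlinarith
      linarith
  · linarith

end cnt

end Cfsg.Agent.Lib.Helper2.GL2
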