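import Mathlib
import Cfsg.Agent.Lib.Helper2.GL2e

set_option autoImplicit false

namespace Cfsg.Agent.Lib.Helper2.GL2

open scoped ComplexConjugate
open Matrix

variable {F : Type*} [Field F] [Fintype F] [DecidableEq F]

theorem classify {χ : GL (Fin 2) F → ℂ} (hχ : Cfsg.IsIrrCharacter _ χ) :
    (∃ α : MulChar F ℂ, χ = dl α) ∨ (∃ α : MulChar F ℂ, χ = St α) ∨
    (∃ α β : MulChar F ℂ, α ≠ β ∧ χ = II α β) ∨
    (cusp χ ∧ χ 1 = (Fintype.card F : ℂ) - 1) := by
  classical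
  haveI : Fintype (MulChar F ℂ) := Fintype.ofFinite _
  haveI := finite_irrCharacter (G := GL (Fin 2) F)
  haveI : Fintype (Cfsg.IrrCharacter (GL (Fin 2) F)) := Fintype.ofFinite _
  by_cases hc : cusp χ
  · exact Or.inr (Or.inr (Or.inr ⟨hc, cusp_main.1 ⟨χ, hχ⟩ hc⟩))
  · unfold cusp at hc
    push Not at hc
    obtain ⟨α, β, h⟩ := hc
    rcases noncusp hχ h with ⟨_, h⟩ | ⟨_, h⟩ | ⟨hne, h⟩
    · exact Or.inl ⟨α, h⟩
    · exact Or.inr (Or.inl ⟨α, h⟩)
    · exact Or.inr (Or.inr (Or.inl ⟨α, β, hne, h⟩))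

theorem count [Fintype (Cfsg.IrrCharacter (GL (Fin 2) F))] (φ : ℂ → ℂ) :
    ∑ χ : Cfsg.IrrCharacter (GL (Fin 2) F), φ ((χ : GL (Fin 2) F → ℂ) 1) =
    ((Fintype.card F : ℂ) - 1) * (φ 1 + φ (Fintype.card F : ℂ)) +
      ((Fintype.card F : ℂ) - 1) * ((Fintype.card F : ℂ) - 2) / 2 *
        φ ((Fintype.card F : ℂ) + 1) +
      (Fintype.card F : ℂ) * ((Fintype.card F : ℂ) - 1) / 2 * φ ((Fintype.card F : ℂ) - 1) := by
  classical
  haveI : Fintype (MulChar F ℂ) := Fintype.ofFinite _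
  rw [sum_phi φ]
  congr 1
  obtain ⟨h1, h2⟩ := cusp_main (F := F)
  rw [Finset.sum_congr rfl fun χ hχ => by rw [h1 χ (Finset.mem_filter.1 hχ).2], Finset.sum_const,
    nsmul_eq_mul]
  congr 1
  have h3 : ((2 * ((Finset.univ.filter (fun χ : Cfsg.IrrCharacter (GL (Fin 2) F) =>
        cusp (χ : GL (Fin 2) F → ℂ))).card : ℤ) : ℤ) : ℂ) =
      (((Fintype.card F : ℤ) * ((Fintype.card F : ℤ) - 1) : ℤ) : ℂ) := by rw [h2]
  push_cast at h3
  linear_combination h3 / 2

theorem card_deg (n : ℂ) :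
    (Nat.card {χ : Cfsg.IrrCharacter (GL (Fin 2) F) // (χ : GL (Fin 2) F → ℂ) 1 = n} : ℂ) =
    ((Fintype.card F : ℂ) - 1) * ((if (1 : ℂ) = n then 1 else 0) +
        (if (Fintype.card F : ℂ) = n then 1 else 0)) +
      ((Fintype.card F : ℂ) - 1) * ((Fintype.card F : ℂ) - 2) / 2 *
        (if (Fintype.card F : ℂ) + 1 = n then 1 else 0) +
      (Fintype.card F : ℂ) * ((Fintype.card F : ℂ) - 1) / 2 *
        (if (Fintype.card F : ℂ) - 1 = n then 1 else 0) := by
  classical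
  haveI := finite_irrCharacter (G := GL (Fin 2) F)
  haveI : Fintype (Cfsg.IrrCharacter (GL (Fin 2) F)) := Fintype.ofFinite _
  rw [← count (F := F) (fun z => if z = n then 1 else 0), Nat.card_eq_fintype_card,
    Fintype.card_subtype, Finset.card_filter]
  push_cast
  rfl

theorem II_elliptic (α β : MulChar F ℂ) (g : GL (Fin 2) F)
    (hg : ∀ (c : F) (v : Fin 2 → F), v ≠ 0 → (g : Matrix (Fin 2) (Fin 2) F).mulVec v ≠ c • v) :
    II α β g = 0 := by
  rw [II, indFun_apply]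
  rw [Finset.sum_eq_zero, mul_zero]
  intro x _
  apply extendByZero_of_not_mem
  intro hmem
  have h10 := (mem_bor _).1 hmem
  set y := x⁻¹ * g * x with hy
  have hxy : x * y = g * x := by rw [hy]; group
  have hm : (x : Matrix (Fin 2) (Fin 2) F) * (y : Matrix (Fin 2) (Fin 2) F) =
      (g : Matrix (Fin 2) (Fin 2) F) * (x : Matrix (Fin 2) (Fin 2) F) := congrArg Units.val hxy
  have e0 := congrFun (congrFun hm 0) 0
  have e1 := congrFun (congrFun hm 1) 0
  simp only [Matrix.mul_apply, Fin.sum_univ_two, h10, mul_zero, add_zero] at e0 e1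
  apply hg ((y : Matrix (Fin 2) (Fin 2) F) 0 0) (fun i => (x : Matrix (Fin 2) (Fin 2) F) i 0)
  · intro hv
    have v0 := congrFun hv 0
    have v1 := congrFun hv 1
    simp only [Pi.zero_apply] at v0 v1
    have hd := det_ne x
    rw [Matrix.det_fin_two, v0, v1] at hd
    simp at hd
  · funext i
    fin_cases i
    · simp only [Matrix.mulVec, dotProduct, Fin.sum_univ_two, Pi.smul_apply, smul_eq_mul]
      show _ = _
      simp only [Fin.zero_eta]
      rw [← e0]; ring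
    · simp only [Matrix.mulVec, dotProduct, Fin.sum_univ_two, Pi.smul_apply, smul_eq_mul]
      show _ = _
      simp only [Fin.mk_one]
      rw [← e1]; ring

omit [Fintype F] [DecidableEq F] in
theorem eq_bmk_of_diag (g : GL (Fin 2) F) (h01 : (g : Matrix (Fin 2) (Fin 2) F) 0 1 = 0)
    (h10 : (g : Matrix (Fin 2) (Fin 2) F) 1 0 = 0) :
    ∃ a d : Fˣ, (a : F) = (g : Matrix (Fin 2) (Fin 2) F) 0 0 ∧
      (d : F) = (g : Matrix (Fin 2) (Fin 2) F) 1 1 ∧ g = bmk a d 0 := by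
  obtain ⟨h0, h1⟩ := bor_diag_ne ⟨g, (mem_bor g).2 h10⟩
  refine ⟨Units.mk0 _ h0, Units.mk0 _ h1, rfl, rfl, ?_⟩
  apply Units.ext
  rw [bmk_coe]
  ext i j
  fin_cases i <;> fin_cases j <;> simp [h01, h10]

omit [DecidableEq F] in
theorem norm_mulChar (α : MulChar F ℂ) (a : Fˣ) : ‖α (a : F)‖ = 1 := by
  have h := norm_hom_eq_one α.toUnitHom a
  rwa [MulChar.coe_toUnitHom] at h

theorem norm_dl (α : MulChar F ℂ) (g : GL (Fin 2) F) : ‖dl α g‖ = 1 :=
  norm_hom_eq_one _ g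

theorem St_split (α : MulChar F ℂ) (a d : Fˣ) (had : a ≠ d) :
    St α (bmk a d 0) = α (a : F) * α (d : F) := by
  haveI : Fintype (MulChar F ℂ) := Fintype.ofFinite _
  rw [val_split (IsCharacter.isClassFunction (St_isCharacter α)) a d had,
    sum_inner_St (fun x y => x (a : F) * y (d : F))]

theorem cusp_split {χ : GL (Fin 2) F → ℂ} (hχ : Cfsg.IsIrrCharacter _ χ) (hc : cusp χ)
    (a d : Fˣ) (had : a ≠ d) : χ (bmk a d 0) = 0 := by
  haveI : Fintype (MulChar F ℂ) := Fintype.ofFinite _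
  rw [val_split (IsCharacter.isClassFunction (IsIrrCharacter.isCharacter hχ)) a d had]
  simp [hc _ _]

theorem cusp_unip {χ : GL (Fin 2) F → ℂ} (hχ : Cfsg.IsIrrCharacter _ χ) (hc : cusp χ)
    (h1 : χ 1 = (Fintype.card F : ℂ) - 1) : χ (bmk 1 1 1) = -1 := by
  haveI : Fintype (MulChar F ℂ) := Fintype.ofFinite _
  have h := val_unip (IsCharacter.isClassFunction (IsIrrCharacter.isCharacter hχ))
  simp only [hc _ _, Finset.sum_const_zero, mul_zero] at h
  rw [h1] at h
  apply mul_left_cancel₀ (qne1 (F := F))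
  linear_combination h

theorem St_unip (α : MulChar F ℂ) : St α (bmk 1 1 1) = 0 := by
  haveI : Fintype (MulChar F ℂ) := Fintype.ofFinite _
  have h := val_unip (IsCharacter.isClassFunction (St_isCharacter α))
  have h2 := sum_inner_St (fun _ _ => 1) α
  simp only [mul_one] at h2
  rw [h2, St_one] at h
  apply mul_left_cancel₀ (qne1 (F := F))
  linear_combination h

theorem II_unip (α β : MulChar F ℂ) : II α β (bmk 1 1 1) = 1 := by
  haveI : Fintype (MulChar F ℂ) := Fintype.ofFinite _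
  have h := val_unip (IsCharacter.isClassFunction (II_isCharacter α β))
  have h2 := sum_inner_II (fun _ _ => 1) α β
  simp only [mul_one] at h2
  rw [h2, II_one] at h
  apply mul_left_cancel₀ (qne1 (F := F))
  linear_combination h

omit [Fintype F] in
theorem dl_unip (α : MulChar F ℂ) : dl α (bmk 1 1 1) = 1 := by
  rw [dl_apply, bmk_coe]
  simp [Matrix.det_fin_two]

end Cfsg.Agent.Lib.Helper2.GL2
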