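import Mathlib
import Cfsg.Agent.Lib.Helper2.GL2a
import Cfsg.Agent.Lib.Helper14.ClassCard

set_option autoImplicit false

namespace Cfsg.Agent.Lib.Helper2.SL2c

open scoped ComplexConjugate
open Matrix

variable {F : Type*} [Field F]

theorem mem_b1 (g : Matrix.SpecialLinearGroup (Fin 2) F) :
    g ∈ (Cfsg.upperTriangularGL 2 F).comap Matrix.SpecialLinearGroup.toGL ↔
      (g : Matrix (Fin 2) (Fin 2) F) 1 0 = 0 := by
  rw [Subgroup.mem_comap, GL2.mem_bor]; rfl

/-- upper triangular element of `SL₂` -/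
def smk (a : Fˣ) (c : F) : Matrix.SpecialLinearGroup (Fin 2) F :=
  ⟨!![(a : F), c; 0, ((a⁻¹ : Fˣ) : F)], by simp [Matrix.det_fin_two]⟩

theorem smk_coe (a : Fˣ) (c : F) :
    ((smk a c : Matrix.SpecialLinearGroup (Fin 2) F) : Matrix (Fin 2) (Fin 2) F) =
      !![(a : F), c; 0, ((a⁻¹ : Fˣ) : F)] := rfl

theorem toGL_smk (a : Fˣ) (c : F) :
    Matrix.SpecialLinearGroup.toGL (smk a c) = GL2.bmk a a⁻¹ c := Units.ext rfl

theorem smk_mem (a : Fˣ) (c : F) :
    smk a c ∈ (Cfsg.upperTriangularGL 2 F).comap Matrix.SpecialLinearGroup.toGL :=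
  (mem_b1 _).2 (by simp [smk_coe])

noncomputable def sEquiv :
    Fˣ × F ≃ ↥((Cfsg.upperTriangularGL 2 F).comap Matrix.SpecialLinearGroup.toGL) :=
  Equiv.ofBijective (fun p => ⟨smk p.1 p.2, smk_mem _ _⟩) (by
    constructor
    · rintro ⟨a, c⟩ ⟨a', c'⟩ h
      have h1 : (smk a c : Matrix.SpecialLinearGroup (Fin 2) F) = smk a' c' :=
        congrArg Subtype.val h
      have h2 : !![(a : F), c; 0, ((a⁻¹ : Fˣ) : F)] = !![(a' : F), c'; 0, ((a'⁻¹ : Fˣ) : F)] := by
        rw [← smk_coe, ← smk_coe, h1]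
      have e00 := congrFun (congrFun h2 0) 0
      have e01 := congrFun (congrFun h2 0) 1
      simp at e00 e01
      rw [Units.ext e00, e01]
    · intro b
      have hb := (mem_b1 _).1 b.2
      have hdet := (b : Matrix.SpecialLinearGroup (Fin 2) F).2
      rw [Matrix.det_fin_two, hb, mul_zero, sub_zero] at hdet
      have h0 : ((b : Matrix.SpecialLinearGroup (Fin 2) F) : Matrix (Fin 2) (Fin 2) F) 0 0 ≠ 0 := by
        intro h; rw [h, zero_mul] at hdet; exact zero_ne_one hdet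
      refine ⟨(Units.mk0 _ h0,
        ((b : Matrix.SpecialLinearGroup (Fin 2) F) : Matrix (Fin 2) (Fin 2) F) 0 1), ?_⟩
      apply Subtype.ext
      apply Subtype.ext
      show ((smk _ _ : Matrix.SpecialLinearGroup (Fin 2) F) : Matrix (Fin 2) (Fin 2) F) = _
      rw [smk_coe]
      ext i j
      fin_cases i <;> fin_cases j
      · simp
      · simp
      · simp [hb]
      · simp
        exact (eq_inv_of_mul_eq_one_right hdet).symm)

theorem sEquiv_coe (p : Fˣ × F) :
    ((sEquiv p : ↥((Cfsg.upperTriangularGL 2 F).comap Matrix.SpecialLinearGroup.toGL)) :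
      Matrix.SpecialLinearGroup (Fin 2) F) = smk p.1 p.2 := rfl

/-- the linear character of the Borel subgroup of `SL₂` -/
noncomputable def lam1 (α : MulChar F ℂ) :
    ↥((Cfsg.upperTriangularGL 2 F).comap Matrix.SpecialLinearGroup.toGL) → ℂ :=
  fun b => α (((b : Matrix.SpecialLinearGroup (Fin 2) F) : Matrix (Fin 2) (Fin 2) F) 0 0)

theorem lam1_eq (α : MulChar F ℂ) :
    lam1 α = GL2.lam α 1 ∘
      (Matrix.SpecialLinearGroup.toGL.subgroupComap (Cfsg.upperTriangularGL 2 F)) := by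
  funext b
  have h1 := (GL2.bor_diag_ne
    (Matrix.SpecialLinearGroup.toGL.subgroupComap (Cfsg.upperTriangularGL 2 F) b)).2
  simp only [Function.comp_apply, GL2.lam]
  rw [MulChar.one_apply (isUnit_iff_ne_zero.2 h1), mul_one]
  rfl

theorem lam1_isCharacter (α : MulChar F ℂ) : Cfsg.IsCharacter _ (lam1 α) := by
  rw [lam1_eq]
  exact IsCharacter.comp _ (GL2.lam_isCharacter α 1)

theorem lam1_conj (α : MulChar F ℂ)
    (x b : ↥((Cfsg.upperTriangularGL 2 F).comap Matrix.SpecialLinearGroup.toGL)) :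
    lam1 α (x⁻¹ * b * x) = lam1 α b := by
  rw [lam1_eq]
  simp only [Function.comp_apply, map_mul, map_inv]
  exact GL2.lam_conj _ _ _ _

theorem lam1_sEquiv (α : MulChar F ℂ) (a : Fˣ) (c : F) : lam1 α (sEquiv (a, c)) = α (a : F) := by
  simp [lam1, sEquiv_coe, smk_coe]

theorem conj_entries1 (x : Matrix.SpecialLinearGroup (Fin 2) F)
    (hx : (x : Matrix (Fin 2) (Fin 2) F) 1 0 ≠ 0) (a : Fˣ) (c : F) :
    (x⁻¹ * smk a c * x ∈ (Cfsg.upperTriangularGL 2 F).comap Matrix.SpecialLinearGroup.toGL ↔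
      c * (x : Matrix (Fin 2) (Fin 2) F) 1 0 =
        (((a⁻¹ : Fˣ) : F) - a) * (x : Matrix (Fin 2) (Fin 2) F) 0 0) ∧
    (x⁻¹ * smk a c * x ∈ (Cfsg.upperTriangularGL 2 F).comap Matrix.SpecialLinearGroup.toGL →
      ((x⁻¹ * smk a c * x : Matrix.SpecialLinearGroup (Fin 2) F) :
        Matrix (Fin 2) (Fin 2) F) 0 0 = ((a⁻¹ : Fˣ) : F)) := by
  have h := GL2.conj_entries (Matrix.SpecialLinearGroup.toGL x) hx a a⁻¹ c
  have e : Matrix.SpecialLinearGroup.toGL (x⁻¹ * smk a c * x) =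
      (Matrix.SpecialLinearGroup.toGL x)⁻¹ * GL2.bmk a a⁻¹ c * Matrix.SpecialLinearGroup.toGL x := by
    rw [map_mul, map_mul, map_inv, toGL_smk]
  rw [Subgroup.mem_comap, e]
  refine ⟨h.1, fun hm => ?_⟩
  have h2 := (h.2 hm).1
  rw [← e] at h2
  exact h2

section fin
variable [Fintype F] [DecidableEq F]

theorem S_mem1 [Fintype ↥((Cfsg.upperTriangularGL 2 F).comap Matrix.SpecialLinearGroup.toGL)]
    (α α' : MulChar F ℂ) (x : Matrix.SpecialLinearGroup (Fin 2) F)
    (hx : x ∈ (Cfsg.upperTriangularGL 2 F).comap Matrix.SpecialLinearGroup.toGL) :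
    ∑ b : ↥((Cfsg.upperTriangularGL 2 F).comap Matrix.SpecialLinearGroup.toGL), lam1 α b *
      conj (Cfsg.extendByZero _ (lam1 α') (x⁻¹ * b * x)) =
    (Fintype.card F : ℂ) * (∑ a : Fˣ, α (a : F) * conj (α' (a : F))) := by
  have h1 : ∀ b : ↥((Cfsg.upperTriangularGL 2 F).comap Matrix.SpecialLinearGroup.toGL),
      Cfsg.extendByZero _ (lam1 α') (x⁻¹ * b * x) = lam1 α' b := by
    intro b
    have h2 := extendByZero_coe _ (lam1 α')
      ((⟨x, hx⟩ : ↥((Cfsg.upperTriangularGL 2 F).comap Matrix.SpecialLinearGroup.toGL))⁻¹ *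
        b * ⟨x, hx⟩)
    rw [lam1_conj] at h2
    exact h2
  rw [Finset.sum_congr rfl fun b _ => by rw [h1 b], ← Equiv.sum_comp sEquiv,
    Fintype.sum_prod_type, Finset.mul_sum]
  refine Finset.sum_congr rfl fun a _ => ?_
  simp only [lam1_sEquiv]
  rw [Finset.sum_const, Finset.card_univ, nsmul_eq_mul]

theorem S_not_mem1 [Fintype ↥((Cfsg.upperTriangularGL 2 F).comap Matrix.SpecialLinearGroup.toGL)]
    (α α' : MulChar F ℂ) (x : Matrix.SpecialLinearGroup (Fin 2) F)
    (hx : x ∉ (Cfsg.upperTriangularGL 2 F).comap Matrix.SpecialLinearGroup.toGL) :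
    ∑ b : ↥((Cfsg.upperTriangularGL 2 F).comap Matrix.SpecialLinearGroup.toGL), lam1 α b *
      conj (Cfsg.extendByZero _ (lam1 α') (x⁻¹ * b * x)) =
    ∑ a : Fˣ, α (a : F) * conj (α'⁻¹ (a : F)) := by
  have hx' : (x : Matrix (Fin 2) (Fin 2) F) 1 0 ≠ 0 := fun h => hx ((mem_b1 x).2 h)
  rw [← Equiv.sum_comp sEquiv, Fintype.sum_prod_type]
  refine Finset.sum_congr rfl fun a _ => ?_
  simp only [lam1_sEquiv, sEquiv_coe]
  rw [Finset.sum_eq_single ((((a⁻¹ : Fˣ) : F) - a) * (x : Matrix (Fin 2) (Fin 2) F) 0 0 /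
    (x : Matrix (Fin 2) (Fin 2) F) 1 0)]
  · have hm : x⁻¹ * smk a ((((a⁻¹ : Fˣ) : F) - a) * (x : Matrix (Fin 2) (Fin 2) F) 0 0 /
        (x : Matrix (Fin 2) (Fin 2) F) 1 0) * x ∈
        (Cfsg.upperTriangularGL 2 F).comap Matrix.SpecialLinearGroup.toGL := by
      rw [(conj_entries1 x hx' a _).1, div_mul_cancel₀ _ hx']
    have h0 := (conj_entries1 x hx' a _).2 hm
    rw [extendByZero_of_mem _ _ hm]
    simp only [lam1]
    rw [h0, MulChar.inv_apply' α' (a : F), Units.val_inv_eq_inv_val]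
  · intro c _ hc
    have hm : x⁻¹ * smk a c * x ∉
        (Cfsg.upperTriangularGL 2 F).comap Matrix.SpecialLinearGroup.toGL := by
      rw [(conj_entries1 x hx' a c).1]
      intro h
      apply hc
      rw [eq_div_iff hx', h]
    rw [extendByZero_of_not_mem _ _ hm, map_zero, mul_zero]
  · intro h; exact absurd (Finset.mem_univ _) h

theorem card_b1 :
    (Nat.card ↥((Cfsg.upperTriangularGL 2 F).comap Matrix.SpecialLinearGroup.toGL) : ℂ) =
    (Fintype.card F : ℂ) * ((Fintype.card F : ℂ) - 1) := by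
  rw [Nat.card_congr (sEquiv (F := F)).symm, Nat.card_prod,
    Nat.card_eq_fintype_card, Nat.card_eq_fintype_card, Fintype.card_units]
  have h2 : 1 ≤ Fintype.card F := Fintype.card_pos
  push_cast [Nat.cast_sub h2]; ring

theorem card_sl2 : (Nat.card (Matrix.SpecialLinearGroup (Fin 2) F) : ℂ) =
    (Fintype.card F : ℂ) * ((Fintype.card F : ℂ) - 1) * ((Fintype.card F : ℂ) + 1) := by
  rw [Helper14.card_SL2]
  have h2 : 1 ≤ Fintype.card F := Fintype.card_pos
  have h3 : 1 ≤ Fintype.card F ^ 2 := Nat.one_le_pow _ _ h2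
  push_cast [Nat.cast_sub h3]; ring

theorem inner_ind1 (α α' : MulChar F ℂ) :
    Cfsg.classInner (Cfsg.indFun _ (lam1 α)) (Cfsg.indFun _ (lam1 α')) =
      (if α = α' then 1 else 0) + (if α = α'⁻¹ then 1 else 0) := by
  classical
  have : Fintype ↥((Cfsg.upperTriangularGL 2 F).comap Matrix.SpecialLinearGroup.toGL) :=
    Fintype.ofFinite _
  rw [frobenius_reciprocity _ (lam1 α) _ (indFun_isClassFunction _ _), classInner_def]
  have h1 : ∀ b : ↥((Cfsg.upperTriangularGL 2 F).comap Matrix.SpecialLinearGroup.toGL),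
      lam1 α b * conj (Cfsg.indFun _ (lam1 α') (b : Matrix.SpecialLinearGroup (Fin 2) F)) =
      (Nat.card ↥((Cfsg.upperTriangularGL 2 F).comap Matrix.SpecialLinearGroup.toGL) : ℂ)⁻¹ *
        ∑ x : Matrix.SpecialLinearGroup (Fin 2) F, lam1 α b *
        conj (Cfsg.extendByZero _ (lam1 α') (x⁻¹ * b * x)) := by
    intro b
    rw [indFun_apply, map_mul, map_inv₀, Complex.conj_natCast, map_sum, Finset.mul_sum,
      Finset.mul_sum, Finset.mul_sum]
    refine Finset.sum_congr rfl fun x _ => by ring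
  rw [Finset.sum_congr rfl fun b _ => h1 b, ← Finset.mul_sum, Finset.sum_comm]
  have h2 : ∀ x : Matrix.SpecialLinearGroup (Fin 2) F,
      ∑ b : ↥((Cfsg.upperTriangularGL 2 F).comap Matrix.SpecialLinearGroup.toGL), lam1 α b *
      conj (Cfsg.extendByZero _ (lam1 α') (x⁻¹ * b * x)) =
      if x ∈ (Cfsg.upperTriangularGL 2 F).comap Matrix.SpecialLinearGroup.toGL then
        (Fintype.card F : ℂ) * (∑ a : Fˣ, α (a : F) * conj (α' (a : F)))
      else ∑ a : Fˣ, α (a : F) * conj (α'⁻¹ (a : F)) := by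
    intro x
    split_ifs with hx
    · exact S_mem1 α α' x hx
    · exact S_not_mem1 α α' x hx
  rw [Finset.sum_congr rfl fun x _ => h2 x, Finset.sum_ite, Finset.sum_const, Finset.sum_const]
  have hcB : (Finset.univ.filter (fun x : Matrix.SpecialLinearGroup (Fin 2) F =>
      x ∈ (Cfsg.upperTriangularGL 2 F).comap Matrix.SpecialLinearGroup.toGL)).card =
      Nat.card ↥((Cfsg.upperTriangularGL 2 F).comap Matrix.SpecialLinearGroup.toGL) := by
    rw [Nat.card_eq_fintype_card, Fintype.card_subtype]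
  have hcW : ((Finset.univ.filter (fun x : Matrix.SpecialLinearGroup (Fin 2) F =>
      ¬ x ∈ (Cfsg.upperTriangularGL 2 F).comap Matrix.SpecialLinearGroup.toGL)).card : ℂ) =
      (Nat.card (Matrix.SpecialLinearGroup (Fin 2) F) : ℂ) -
      (Nat.card ↥((Cfsg.upperTriangularGL 2 F).comap Matrix.SpecialLinearGroup.toGL) : ℂ) := by
    have h3 := Finset.card_filter_add_card_filter_not
      (s := (Finset.univ : Finset (Matrix.SpecialLinearGroup (Fin 2) F)))
      (fun x : Matrix.SpecialLinearGroup (Fin 2) F =>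
        x ∈ (Cfsg.upperTriangularGL 2 F).comap Matrix.SpecialLinearGroup.toGL)
    rw [hcB, Finset.card_univ, ← Nat.card_eq_fintype_card] at h3
    rw [← h3]; push_cast; ring
  rw [nsmul_eq_mul, nsmul_eq_mul, hcB, hcW, card_b1, card_sl2, GL2.sumE, GL2.sumE]
  have hE1 : (if α = α' then ((Fintype.card F : ℂ) - 1) else 0) =
      ((Fintype.card F : ℂ) - 1) * (if α = α' then 1 else 0) := by split_ifs <;> simp
  have hE2 : (if α = α'⁻¹ then ((Fintype.card F : ℂ) - 1) else 0) =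
      ((Fintype.card F : ℂ) - 1) * (if α = α'⁻¹ then 1 else 0) := by split_ifs <;> simp
  rw [hE1, hE2]
  generalize (if α = α' then (1 : ℂ) else 0) = A
  generalize (if α = α'⁻¹ then (1 : ℂ) else 0) = A'
  have hq2 : 2 ≤ Fintype.card F := Fintype.one_lt_card
  have hQ0 : (Fintype.card F : ℂ) ≠ 0 := by
    have : Fintype.card F ≠ 0 := by omega
    exact_mod_cast this
  have hQ1 : (Fintype.card F : ℂ) - 1 ≠ 0 := by
    intro h
    have h5 : (Fintype.card F : ℂ) = 1 := by linear_combination h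
    have h6 : Fintype.card F = 1 := by exact_mod_cast h5
    omega
  field_simp
  ring

end fin

end Cfsg.Agent.Lib.Helper2.SL2c
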