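import Mathlib
import Cfsg.Agent.Lib.Helper2.GL2f
import Cfsg.Agent.Lib.Helper2.SL2a
import Cfsg.Agent.Lib.Helper2.CharNorm
import Cfsg.Agent.Lib.Helper2.CharBasic
import Cfsg.Agent.Lib.Helper25.CliffordCorr

set_option autoImplicit false

namespace Cfsg.Agent.Lib.Helper2.SL2r

open scoped ComplexConjugate
open Matrix GL2

variable {F : Type*} [Field F] [Fintype F] [DecidableEq F]

/-- restriction from `GL₂` to `SL₂` -/
def res (f : GL (Fin 2) F → ℂ) : Matrix.SpecialLinearGroup (Fin 2) F → ℂ :=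
  fun s => f (Matrix.SpecialLinearGroup.toGL s)

omit [Fintype F] [DecidableEq F] in
theorem res_isCharacter {f : GL (Fin 2) F → ℂ} (h : Cfsg.IsCharacter _ f) :
    Cfsg.IsCharacter _ (res f) :=
  IsCharacter.comp Matrix.SpecialLinearGroup.toGL h

omit [DecidableEq F] in
theorem qne' : (Fintype.card F : ℂ) + 1 ≠ 0 := by
  exact_mod_cast Nat.succ_ne_zero (Fintype.card F)

theorem sum_toGL (Φ : GL (Fin 2) F → ℂ) :
    ∑ s : Matrix.SpecialLinearGroup (Fin 2) F, Φ (Matrix.SpecialLinearGroup.toGL s) =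
      ∑ g : GL (Fin 2) F, if (g : Matrix (Fin 2) (Fin 2) F).det = 1 then Φ g else 0 := by
  rw [← Finset.sum_filter]
  refine Finset.sum_bij (fun s _ => Matrix.SpecialLinearGroup.toGL s) ?_ ?_ ?_ ?_
  · intro s _
    rw [Finset.mem_filter]
    exact ⟨Finset.mem_univ _, s.2⟩
  · intro a _ b _ h
    exact Matrix.SpecialLinearGroup.toGL_injective h
  · intro g hg
    exact ⟨⟨(g : Matrix (Fin 2) (Fin 2) F), (Finset.mem_filter.1 hg).2⟩, Finset.mem_univ _,
      Units.ext rfl⟩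
  · intro s _; rfl

theorem inner_res [Fintype (MulChar F ℂ)] (f f' : GL (Fin 2) F → ℂ) :
    Cfsg.classInner (res f) (res f') = ∑ γ : MulChar F ℂ, Cfsg.classInner (f * dl γ) f' := by
  simp only [classInner_def]
  rw [← Finset.mul_sum, Finset.sum_comm]
  have h1 : ∀ g : GL (Fin 2) F, ∑ γ : MulChar F ℂ, (f * dl γ) g * conj (f' g) =
      if (g : Matrix (Fin 2) (Fin 2) F).det = 1 then
        ((Fintype.card F : ℂ) - 1) * (f g * conj (f' g)) else 0 := by
    intro g
    have h2 : ∀ γ : MulChar F ℂ, (f * dl γ) g * conj (f' g) =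
        (f g * conj (f' g)) * γ ((g : Matrix (Fin 2) (Fin 2) F).det) := by
      intro γ; rw [Pi.mul_apply, dl_apply]; ring
    rw [Finset.sum_congr rfl fun γ _ => h2 γ, ← Finset.mul_sum]
    split_ifs with hd
    · rw [hd]
      simp only [map_one, Finset.sum_const, Finset.card_univ, nsmul_eq_mul, mul_one]
      rw [card_mulChar, Nat.cast_sub Fintype.card_pos]
      push_cast; ring
    · rw [sum_dual hd, mul_zero]
  rw [Finset.sum_congr rfl fun g _ => h1 g]
  have h3 := sum_toGL (fun g : GL (Fin 2) F => ((Fintype.card F : ℂ) - 1) * (f g * conj (f' g)))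
  rw [← h3, ← Finset.mul_sum, SL2c.card_sl2, card_gl2]
  simp only [res]
  generalize (∑ s : Matrix.SpecialLinearGroup (Fin 2) F, f (Matrix.SpecialLinearGroup.toGL s) *
    conj (f' (Matrix.SpecialLinearGroup.toGL s))) = T
  have h0 := qne0 (F := F)
  have h1 := qne1 (F := F)
  have h2 := qne' (F := F)
  field_simp

theorem twist_irr {ψ : GL (Fin 2) F → ℂ} (hψ : Cfsg.IsIrrCharacter _ ψ) (γ : MulChar F ℂ) :
    Cfsg.IsIrrCharacter _ (ψ * dl γ) := by
  apply isIrrCharacter_of_norm_one (IsCharacter.mul (IsIrrCharacter.isCharacter hψ)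
    (IsIrrCharacter.isCharacter (dl_irr γ)))
  rw [← irr_norm_one hψ, classInner_def, classInner_def]
  congr 1
  refine Finset.sum_congr rfl fun g _ => ?_
  rw [Pi.mul_apply, map_mul]
  have : dl γ g * conj (dl γ g) = 1 := by
    rw [Complex.mul_conj, Complex.normSq_eq_norm_sq, norm_dl]; simp
  calc _ = ψ g * conj (ψ g) * (dl γ g * conj (dl γ g)) := by ring
    _ = _ := by rw [this, mul_one]

theorem central_mul {ψ : GL (Fin 2) F → ℂ} (hψ : Cfsg.IsIrrCharacter _ ψ) (a : Fˣ)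
    (y : GL (Fin 2) F) : ψ (bmk a a 0 * y) * ψ 1 = ψ (bmk a a 0) * ψ y := by
  have h := sum_char_conj_mul hψ (bmk a a 0) y
  simp only [scalar_central, Finset.sum_const, Finset.card_univ, nsmul_eq_mul] at h
  rw [← Nat.card_eq_fintype_card] at h
  have h1 := IsIrrCharacter.apply_one_ne_zero hψ
  have h2 : (Nat.card (GL (Fin 2) F) : ℂ) ≠ 0 := card_ne_zero'
  field_simp at h
  exact h

theorem central_ne_zero {ψ : GL (Fin 2) F → ℂ} (hψ : Cfsg.IsIrrCharacter _ ψ) (a : Fˣ) :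
    ψ (bmk a a 0) ≠ 0 := by
  intro h0
  have h := central_mul hψ a (bmk a a 0)⁻¹
  rw [mul_inv_cancel, h0, zero_mul] at h
  exact IsIrrCharacter.apply_one_ne_zero hψ (mul_self_eq_zero.1 h)

theorem stab_sq {ψ : GL (Fin 2) F → ℂ} (hψ : Cfsg.IsIrrCharacter _ ψ) {γ : MulChar F ℂ}
    (h : ψ * dl γ = ψ) : γ ^ 2 = 1 := by
  ext a
  have h1 := congrFun h (bmk a a 0)
  rw [Pi.mul_apply, dl_apply, bmk_coe] at h1
  have h2 : γ (Matrix.det !![(a : F), 0; 0, (a : F)]) = 1 :=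
    mul_left_cancel₀ (central_ne_zero hψ a) (by rw [h1, mul_one])
  simp only [Matrix.det_fin_two_of, mul_zero, sub_zero, map_mul] at h2
  rw [MulChar.pow_apply_coe, MulChar.one_apply_coe, sq]
  exact h2

theorem exists_over {χ : Matrix.SpecialLinearGroup (Fin 2) F → ℂ}
    (hχ : Cfsg.IsIrrCharacter _ χ) :
    ∃ ψ : GL (Fin 2) F → ℂ, Cfsg.IsIrrCharacter _ ψ ∧ Cfsg.classInner (res ψ) χ ≠ 0 := by
  classical
  haveI := finite_irrCharacter (G := GL (Fin 2) F)
  haveI : Fintype (Cfsg.IrrCharacter (GL (Fin 2) F)) := Fintype.ofFinite _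
  by_contra hcon
  push Not at hcon
  have h2 : ∑ ψ : Cfsg.IrrCharacter (GL (Fin 2) F), (ψ : GL (Fin 2) F → ℂ) 1 *
      Cfsg.classInner (res (ψ : GL (Fin 2) F → ℂ)) χ =
      (Nat.card (Matrix.SpecialLinearGroup (Fin 2) F) : ℂ)⁻¹ *
        ((Nat.card (GL (Fin 2) F) : ℂ) * conj (χ 1)) := by
    simp only [classInner_def, res]
    have e1 : ∀ ψ : Cfsg.IrrCharacter (GL (Fin 2) F), (ψ : GL (Fin 2) F → ℂ) 1 *
        ((Nat.card (Matrix.SpecialLinearGroup (Fin 2) F) : ℂ)⁻¹ *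
          ∑ s : Matrix.SpecialLinearGroup (Fin 2) F,
            (ψ : GL (Fin 2) F → ℂ) (Matrix.SpecialLinearGroup.toGL s) * conj (χ s)) =
        ∑ s : Matrix.SpecialLinearGroup (Fin 2) F,
          (Nat.card (Matrix.SpecialLinearGroup (Fin 2) F) : ℂ)⁻¹ *
          (((ψ : GL (Fin 2) F → ℂ) 1 * (ψ : GL (Fin 2) F → ℂ) (Matrix.SpecialLinearGroup.toGL s)) *
            conj (χ s)) := by
      intro ψ
      rw [Finset.mul_sum, Finset.mul_sum]
      refine Finset.sum_congr rfl fun s _ => by ring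
    rw [Finset.sum_congr rfl fun ψ _ => e1 ψ, Finset.sum_comm]
    have e2 : ∀ s : Matrix.SpecialLinearGroup (Fin 2) F,
        ∑ ψ : Cfsg.IrrCharacter (GL (Fin 2) F),
          (Nat.card (Matrix.SpecialLinearGroup (Fin 2) F) : ℂ)⁻¹ *
          (((ψ : GL (Fin 2) F → ℂ) 1 * (ψ : GL (Fin 2) F → ℂ) (Matrix.SpecialLinearGroup.toGL s)) *
            conj (χ s)) =
        (Nat.card (Matrix.SpecialLinearGroup (Fin 2) F) : ℂ)⁻¹ *
          ((if s = 1 then (Nat.card (GL (Fin 2) F) : ℂ) else 0) * conj (χ s)) := by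
      intro s
      rw [← Finset.mul_sum, ← Finset.sum_mul, sum_irr_one_mul]
      have e3 : (Matrix.SpecialLinearGroup.toGL s = 1) ↔ s = 1 := by
        rw [← map_one Matrix.SpecialLinearGroup.toGL,
          Matrix.SpecialLinearGroup.toGL_injective.eq_iff]
      rw [if_congr e3 rfl rfl]
    rw [Finset.sum_congr rfl fun s _ => e2 s, Finset.sum_eq_single 1]
    · rw [if_pos rfl]
    · intro s _ hs
      rw [if_neg hs, zero_mul, mul_zero]
    · intro h; exact absurd (Finset.mem_univ _) h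
  rw [Finset.sum_eq_zero (fun ψ _ => by rw [hcon ψ ψ.2, mul_zero])] at h2
  have h3 : (Nat.card (Matrix.SpecialLinearGroup (Fin 2) F) : ℂ) ≠ 0 := card_ne_zero'
  have h4 : (Nat.card (GL (Fin 2) F) : ℂ) ≠ 0 := card_ne_zero'
  have h5 : conj (χ 1) ≠ 0 := by
    rw [Ne, map_eq_zero]
    exact IsIrrCharacter.apply_one_ne_zero hχ
  exact mul_ne_zero (inv_ne_zero h3) (mul_ne_zero h4 h5) h2.symm

end Cfsg.Agent.Lib.Helper2.SL2r
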