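import Mathlib
import Cfsg.Agent.Lib.Helper2.SL2r

set_option autoImplicit false

namespace Cfsg.Agent.Lib.Helper2.SL2r

open scoped ComplexConjugate
open Matrix GL2

theorem split_of_norm {S : Type*} [Group S] [Fintype S] {Φ χ : S → ℂ}
    (hΦ : Cfsg.IsCharacter S Φ) (hχ : Cfsg.IsIrrCharacter S χ)
    (hne : Cfsg.classInner Φ χ ≠ 0)
    (hn : Cfsg.classInner Φ Φ = 1 ∨ Cfsg.classInner Φ Φ = 2) :
    Φ = χ ∨ ∃ χ', Cfsg.IsIrrCharacter S χ' ∧ χ' ≠ χ ∧ Φ = χ + χ' := by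
  rcases hn with hn | hn
  · left
    have h1 := isIrrCharacter_of_norm_one hΦ hn
    by_contra h2
    exact hne (irr_orthogonal h1 hχ h2)
  · right
    obtain ⟨χ₁, χ₂, a, b, h₁, h₂, hne12, ha, hb, heq⟩ :=
      IsGeneralizedCharacter.of_norm_two (IsCharacter.isGeneralizedCharacter hΦ) hn
    have ia : Cfsg.classInner Φ χ₁ = a := by
      rw [heq, classInner_add_left, classInner_smul_left, classInner_smul_left, irr_norm_one h₁,
        irr_orthogonal h₂ h₁ hne12.symm]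
      simp
    have ib : Cfsg.classInner Φ χ₂ = b := by
      rw [heq, classInner_add_left, classInner_smul_left, classInner_smul_left, irr_norm_one h₂,
        irr_orthogonal h₁ h₂ hne12]
      simp
    obtain ⟨na, hna⟩ := IsCharacter.classInner_nat hΦ (IsIrrCharacter.isCharacter h₁)
    obtain ⟨nb, hnb⟩ := IsCharacter.classInner_nat hΦ (IsIrrCharacter.isCharacter h₂)
    have ha1 : a = 1 := by
      have h3 : ((a : ℤ) : ℂ) = ((na : ℤ) : ℂ) := by rw [← ia, hna]; simp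
      have h4 : a = (na : ℤ) := by exact_mod_cast h3
      rcases ha with h | h
      · exact h
      · omega
    have hb1 : b = 1 := by
      have h3 : ((b : ℤ) : ℂ) = ((nb : ℤ) : ℂ) := by rw [← ib, hnb]; simp
      have h4 : b = (nb : ℤ) := by exact_mod_cast h3
      rcases hb with h | h
      · exact h
      · omega
    have heq' : Φ = χ₁ + χ₂ := by
      rw [heq, ha1, hb1]; simp
    by_cases e : χ = χ₁
    · exact ⟨χ₂, h₂, by rw [e]; exact hne12.symm, by rw [heq', e]⟩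
    · have e2 : χ = χ₂ := by
        by_contra e2
        apply hne
        rw [heq', classInner_add_left, irr_orthogonal h₁ hχ (Ne.symm e),
          irr_orthogonal h₂ hχ (Ne.symm e2)]
        simp
      exact ⟨χ₁, h₁, by rw [e2]; exact hne12, by rw [heq', e2, add_comm]⟩

variable {F : Type*} [Field F] [Fintype F] [DecidableEq F]

open Classical in
theorem norm_res [Fintype (MulChar F ℂ)] {ψ : GL (Fin 2) F → ℂ}
    (hψ : Cfsg.IsIrrCharacter _ ψ) :
    Cfsg.classInner (res ψ) (res ψ) =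
      ((Finset.univ.filter (fun γ : MulChar F ℂ => ψ * dl γ = ψ)).card : ℂ) := by
  rw [inner_res, Finset.card_filter]
  push_cast
  refine Finset.sum_congr rfl fun γ _ => ?_
  rw [irr_orthonormal (twist_irr hψ γ) hψ]

omit [DecidableEq F] in
theorem mulChar_ext_gen {ζ : Fˣ} (hζ : ∀ a : Fˣ, a ∈ Subgroup.zpowers ζ) {γ γ' : MulChar F ℂ}
    (h : γ (ζ : F) = γ' (ζ : F)) : γ = γ' := by
  ext a
  have h1 : γ.toUnitHom ζ = γ'.toUnitHom ζ :=
    Units.ext (by rw [MulChar.coe_toUnitHom, MulChar.coe_toUnitHom]; exact h)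
  obtain ⟨k, rfl⟩ := Subgroup.mem_zpowers_iff.1 (hζ a)
  have h2 : γ.toUnitHom (ζ ^ k) = γ'.toUnitHom (ζ ^ k) := by rw [map_zpow, map_zpow, h1]
  rw [← MulChar.coe_toUnitHom, ← MulChar.coe_toUnitHom, h2]

open Classical in
theorem card_stab_le [Fintype (MulChar F ℂ)] {ψ : GL (Fin 2) F → ℂ}
    (hψ : Cfsg.IsIrrCharacter _ ψ) :
    (Finset.univ.filter (fun γ : MulChar F ℂ => ψ * dl γ = ψ)).card ≤ 2 := by
  obtain ⟨ζ, hζ⟩ := IsCyclic.exists_generator (α := Fˣ)
  have h1 : (Finset.univ.filter (fun γ : MulChar F ℂ => ψ * dl γ = ψ)).card ≤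
      ({1, -1} : Finset ℂ).card := by
    apply Finset.card_le_card_of_injOn (fun γ : MulChar F ℂ => γ (ζ : F))
    · intro γ hγ
      have h2 := stab_sq hψ (Finset.mem_filter.1 hγ).2
      have h3 : (γ ^ 2) (ζ : F) = 1 := by rw [h2, MulChar.one_apply_coe]
      rw [MulChar.pow_apply_coe, sq] at h3
      rcases mul_self_eq_one_iff.1 h3 with h | h
      · simp [h]
      · simp [h]
    · intro γ _ γ' _ h
      exact mulChar_ext_gen hζ h
  exact h1.trans Finset.card_le_two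

omit [Fintype F] in
theorem mul_dl_one (ψ : GL (Fin 2) F → ℂ) : ψ * dl 1 = ψ := by
  funext g
  rw [Pi.mul_apply, dl_apply, MulChar.one_apply (isUnit_iff_ne_zero.2 (det_ne g)), mul_one]

open Classical in
theorem card_stab_pos [Fintype (MulChar F ℂ)] (ψ : GL (Fin 2) F → ℂ) :
    1 ≤ (Finset.univ.filter (fun γ : MulChar F ℂ => ψ * dl γ = ψ)).card :=
  Finset.card_pos.2 ⟨1, Finset.mem_filter.2 ⟨Finset.mem_univ _, mul_dl_one ψ⟩⟩

theorem norm_res_cases {ψ : GL (Fin 2) F → ℂ} (hψ : Cfsg.IsIrrCharacter _ ψ) :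
    Cfsg.classInner (res ψ) (res ψ) = 1 ∨ Cfsg.classInner (res ψ) (res ψ) = 2 := by
  classical
  haveI : Fintype (MulChar F ℂ) := Fintype.ofFinite _
  rw [norm_res hψ]
  have h1 := card_stab_le hψ
  have h2 := card_stab_pos (F := F) ψ
  have h3 : (Finset.univ.filter (fun γ : MulChar F ℂ => ψ * dl γ = ψ)).card = 1 ∨
      (Finset.univ.filter (fun γ : MulChar F ℂ => ψ * dl γ = ψ)).card = 2 := by omega
  rcases h3 with h | h
  · left; rw [h]; simp
  · right; rw [h]; simp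

omit [DecidableEq F] in
theorem eq_one_of_sq [CharP F 2] {γ : MulChar F ℂ} (h : γ ^ 2 = 1) : γ = 1 := by
  ext a
  obtain ⟨b, hb⟩ := FiniteField.isSquare_of_char_two (ringChar.eq F 2) (a : F)
  have hb0 : b ≠ 0 := by
    intro h0
    rw [h0, mul_zero] at hb
    exact a.ne_zero hb
  have h1 : (γ ^ 2) b = 1 := by rw [h, MulChar.one_apply (isUnit_iff_ne_zero.2 hb0)]
  rw [MulChar.pow_apply' _ two_ne_zero, sq] at h1
  rw [hb, map_mul, h1, MulChar.one_apply (isUnit_iff_ne_zero.2 (mul_ne_zero hb0 hb0))]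

theorem norm_res_even [CharP F 2] {ψ : GL (Fin 2) F → ℂ} (hψ : Cfsg.IsIrrCharacter _ ψ) :
    Cfsg.classInner (res ψ) (res ψ) = 1 := by
  classical
  haveI : Fintype (MulChar F ℂ) := Fintype.ofFinite _
  rw [norm_res hψ]
  have h1 : Finset.univ.filter (fun γ : MulChar F ℂ => ψ * dl γ = ψ) = {1} := by
    ext γ
    rw [Finset.mem_filter, Finset.mem_singleton]
    constructor
    · rintro ⟨_, h⟩
      exact eq_one_of_sq (stab_sq hψ h)
    · rintro rfl
      exact ⟨Finset.mem_univ _, mul_dl_one ψ⟩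
  rw [h1]; simp

/-- `SL₂` as the kernel of the determinant -/
noncomputable def eN : Matrix.SpecialLinearGroup (Fin 2) F ≃*
    ↥((Matrix.GeneralLinearGroup.det : GL (Fin 2) F →* Fˣ).ker) :=
  MulEquiv.ofBijective (Matrix.SpecialLinearGroup.toGL.codRestrict _ (fun s => by
    rw [MonoidHom.mem_ker]
    apply Units.ext
    exact s.2)) (by
    constructor
    · intro a b h
      exact Matrix.SpecialLinearGroup.toGL_injective (congrArg Subtype.val h)
    · intro n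
      have h1 : ((n : GL (Fin 2) F) : Matrix (Fin 2) (Fin 2) F).det = 1 := by
        have := MonoidHom.mem_ker.1 n.2
        exact congrArg Units.val this
      exact ⟨⟨_, h1⟩, Subtype.ext (Units.ext rfl)⟩)

omit [Fintype F] in
theorem eN_coe (s : Matrix.SpecialLinearGroup (Fin 2) F) :
    ((eN s : ↥((Matrix.GeneralLinearGroup.det : GL (Fin 2) F →* Fˣ).ker)) : GL (Fin 2) F) =
      Matrix.SpecialLinearGroup.toGL s := rfl

theorem clifford_conj {ψ : GL (Fin 2) F → ℂ} (hψ : Cfsg.IsIrrCharacter _ ψ)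
    {χ₁ χ₂ : Matrix.SpecialLinearGroup (Fin 2) F → ℂ} (h₁ : Cfsg.IsIrrCharacter _ χ₁)
    (h₂ : Cfsg.IsIrrCharacter _ χ₂) (c₁ : Cfsg.classInner (res ψ) χ₁ ≠ 0)
    (c₂ : Cfsg.classInner (res ψ) χ₂ ≠ 0) :
    ∃ x : GL (Fin 2) F, ∀ g h : Matrix.SpecialLinearGroup (Fin 2) F,
      Matrix.SpecialLinearGroup.toGL h = x * Matrix.SpecialLinearGroup.toGL g * x⁻¹ →
        χ₂ g = χ₁ h := by
  classical
  set N := (Matrix.GeneralLinearGroup.det : GL (Fin 2) F →* Fˣ).ker with hN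
  haveI : Fintype N := Fintype.ofFinite _
  have t₁ : Cfsg.IsIrrCharacter N (χ₁ ∘ (eN (F := F)).symm.toMonoidHom) :=
    IsIrrCharacter.comp_surjective _ (eN (F := F)).symm.surjective h₁
  have t₂ : Cfsg.IsIrrCharacter N (χ₂ ∘ (eN (F := F)).symm.toMonoidHom) :=
    IsIrrCharacter.comp_surjective _ (eN (F := F)).symm.surjective h₂
  have i₁ : ∀ χ : Matrix.SpecialLinearGroup (Fin 2) F → ℂ,
      Cfsg.classInner (fun n : N => ψ n) (χ ∘ (eN (F := F)).symm.toMonoidHom) =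
      Cfsg.classInner (res ψ) χ := by
    intro χ
    rw [← Cfsg.Agent.Lib.Helper25.classInner_comp_mulEquiv (eN (F := F))]
    congr 1
    funext s
    simp
  have hc := Cfsg.Agent.Lib.Helper25.clifford' N hψ t₁ (by rw [i₁]; exact c₁)
  have c₂' : Cfsg.classInner (fun n : N => ψ n) (χ₂ ∘ (eN (F := F)).symm.toMonoidHom) ≠ 0 := by
    rw [i₁]; exact c₂
  rw [hc, classInner_smul_left, classInner_sum_left] at c₂'
  have h3 : ∃ φ ∈ Finset.univ.image (Cfsg.Agent.Lib.Helper25.conjFun N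
      (χ₁ ∘ (eN (F := F)).symm.toMonoidHom)),
      Cfsg.classInner φ (χ₂ ∘ (eN (F := F)).symm.toMonoidHom) ≠ 0 := by
    by_contra hcon
    push Not at hcon
    apply c₂'
    rw [Finset.sum_eq_zero hcon, mul_zero]
  obtain ⟨φ, hφ, hφ2⟩ := h3
  obtain ⟨x, _, rfl⟩ := Finset.mem_image.1 hφ
  have h4 : Cfsg.Agent.Lib.Helper25.conjFun N (χ₁ ∘ (eN (F := F)).symm.toMonoidHom) x =
      χ₂ ∘ (eN (F := F)).symm.toMonoidHom := by
    by_contra hne
    exact hφ2 (irr_orthogonal (Cfsg.Agent.Lib.Helper25.isIrrCharacter_conjFun N t₁ x) t₂ hne)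
  refine ⟨x, fun g h hgh => ?_⟩
  have h5 := congrFun h4 (eN g)
  rw [Cfsg.Agent.Lib.Helper25.conjFun_apply] at h5
  have h6 : (⟨x * ((eN g : N) : GL (Fin 2) F) * x⁻¹,
      (inferInstance : N.Normal).conj_mem (eN g) (eN g).2 x⟩ : N) = eN h := by
    apply Subtype.ext
    exact hgh.symm
  rw [h6] at h5
  simp at h5
  exact h5.symm

theorem classify_sl {χ : Matrix.SpecialLinearGroup (Fin 2) F → ℂ}
    (hχ : Cfsg.IsIrrCharacter _ χ) :
    ∃ ψ : GL (Fin 2) F → ℂ, Cfsg.IsIrrCharacter _ ψ ∧ (res ψ = χ ∨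
      ∃ χ', Cfsg.IsIrrCharacter _ χ' ∧ χ' ≠ χ ∧ res ψ = χ + χ' ∧
        ∃ x : GL (Fin 2) F, ∀ g h : Matrix.SpecialLinearGroup (Fin 2) F,
          Matrix.SpecialLinearGroup.toGL h = x * Matrix.SpecialLinearGroup.toGL g * x⁻¹ →
            χ' h = χ g) := by
  obtain ⟨ψ, hψ, hne⟩ := exists_over hχ
  refine ⟨ψ, hψ, ?_⟩
  rcases split_of_norm (res_isCharacter (IsIrrCharacter.isCharacter hψ)) hχ hne
    (norm_res_cases hψ) with h | ⟨χ', hχ', hne', heq⟩
  · exact Or.inl h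
  · refine Or.inr ⟨χ', hχ', hne', heq, ?_⟩
    have c' : Cfsg.classInner (res ψ) χ' ≠ 0 := by
      rw [heq, classInner_add_left, irr_orthogonal hχ hχ' hne'.symm, irr_norm_one hχ']
      simp
    obtain ⟨x, hx⟩ := clifford_conj hψ hχ' hχ c' hne
    exact ⟨x, fun g h hgh => (hx g h hgh).symm⟩

theorem classify_sl_even [CharP F 2] {χ : Matrix.SpecialLinearGroup (Fin 2) F → ℂ}
    (hχ : Cfsg.IsIrrCharacter _ χ) :
    ∃ ψ : GL (Fin 2) F → ℂ, Cfsg.IsIrrCharacter _ ψ ∧ res ψ = χ := by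
  obtain ⟨ψ, hψ, hne⟩ := exists_over hχ
  refine ⟨ψ, hψ, ?_⟩
  have h1 := isIrrCharacter_of_norm_one (res_isCharacter (IsIrrCharacter.isCharacter hψ))
    (norm_res_even hψ)
  by_contra h2
  exact hne (irr_orthogonal h1 hχ h2)

end Cfsg.Agent.Lib.Helper2.SL2r
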