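import Mathlib
import Cfsg.Agent.Lib.Helper2.SL2s

set_option autoImplicit false

namespace Cfsg.Agent.Lib.Helper2.SL2r

open scoped ComplexConjugate
open Matrix GL2

theorem sum_phi_inner' {S : Type*} [Group S] [Fintype S] [Fintype (Cfsg.IrrCharacter S)]
    (φ : ℂ → ℂ) {θ : S → ℂ} (hθ : Cfsg.IsIrrCharacter S θ) :
    ∑ χ : Cfsg.IrrCharacter S, φ ((χ : S → ℂ) 1) * Cfsg.classInner (χ : S → ℂ) θ = φ (θ 1) := by
  rw [Finset.sum_eq_single (⟨θ, hθ⟩ : Cfsg.IrrCharacter S)]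
  · show φ (θ 1) * Cfsg.classInner θ θ = _
    rw [irr_norm_one hθ, mul_one]
  · intro χ _ hne
    rw [irr_orthogonal χ.2 hθ (fun h => hne (Subtype.ext h)), mul_zero]
  · intro h; exact absurd (Finset.mem_univ _) h

theorem sum_inner_irr {S : Type*} [Group S] [Fintype S] [Fintype (Cfsg.IrrCharacter S)]
    {θ : S → ℂ} (hθ : Cfsg.IsIrrCharacter S θ) :
    ∑ χ : Cfsg.IrrCharacter S, Cfsg.classInner θ (χ : S → ℂ) = 1 := by
  rw [Finset.sum_eq_single (⟨θ, hθ⟩ : Cfsg.IrrCharacter S)]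
  · exact irr_norm_one hθ
  · intro χ _ hne
    exact irr_orthogonal hθ χ.2 (fun h => hne (Subtype.ext h.symm))
  · intro h; exact absurd (Finset.mem_univ _) h

variable {F : Type*} [Field F] [Fintype F] [DecidableEq F]

theorem sum_inner_res [Fintype (Cfsg.IrrCharacter (GL (Fin 2) F))] {ψ₀ : GL (Fin 2) F → ℂ}
    (h₀ : Cfsg.IsIrrCharacter _ ψ₀) :
    ∑ ψ : Cfsg.IrrCharacter (GL (Fin 2) F),
      Cfsg.classInner (res ψ₀) (res (ψ : GL (Fin 2) F → ℂ)) = (Fintype.card F : ℂ) - 1 := by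
  haveI : Fintype (MulChar F ℂ) := Fintype.ofFinite _
  simp only [inner_res]
  rw [Finset.sum_comm, Finset.sum_congr rfl fun γ _ => sum_inner_irr (twist_irr h₀ γ),
    Finset.sum_const, Finset.card_univ, card_mulChar, nsmul_eq_mul, mul_one,
    Nat.cast_sub Fintype.card_pos]
  simp

omit [Fintype F] [DecidableEq F] in
theorem res_one (ψ : GL (Fin 2) F → ℂ) : res ψ 1 = ψ 1 := by simp [res]

theorem count_even [CharP F 2] [Fintype (Cfsg.IrrCharacter (Matrix.SpecialLinearGroup (Fin 2) F))]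
    (φ : ℂ → ℂ) :
    ∑ χ : Cfsg.IrrCharacter (Matrix.SpecialLinearGroup (Fin 2) F),
      φ ((χ : Matrix.SpecialLinearGroup (Fin 2) F → ℂ) 1) =
    (φ 1 + φ (Fintype.card F : ℂ)) + ((Fintype.card F : ℂ) - 2) / 2 *
        φ ((Fintype.card F : ℂ) + 1) + (Fintype.card F : ℂ) / 2 * φ ((Fintype.card F : ℂ) - 1) := by
  classical
  haveI := finite_irrCharacter (G := GL (Fin 2) F)
  haveI : Fintype (Cfsg.IrrCharacter (GL (Fin 2) F)) := Fintype.ofFinite _
  have hB : ∀ χ : Cfsg.IrrCharacter (Matrix.SpecialLinearGroup (Fin 2) F),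
      ∑ ψ : Cfsg.IrrCharacter (GL (Fin 2) F),
        Cfsg.classInner (χ : Matrix.SpecialLinearGroup (Fin 2) F → ℂ)
          (res (ψ : GL (Fin 2) F → ℂ)) = (Fintype.card F : ℂ) - 1 := by
    intro χ
    obtain ⟨ψ₀, h₀, he⟩ := classify_sl_even χ.2
    rw [← he]
    exact sum_inner_res h₀
  have hA : ∀ ψ : Cfsg.IrrCharacter (GL (Fin 2) F),
      ∑ χ : Cfsg.IrrCharacter (Matrix.SpecialLinearGroup (Fin 2) F),
        φ ((χ : Matrix.SpecialLinearGroup (Fin 2) F → ℂ) 1) *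
        Cfsg.classInner (χ : Matrix.SpecialLinearGroup (Fin 2) F → ℂ)
          (res (ψ : GL (Fin 2) F → ℂ)) = φ ((ψ : GL (Fin 2) F → ℂ) 1) := by
    intro ψ
    rw [sum_phi_inner' φ (isIrrCharacter_of_norm_one
      (res_isCharacter (IsIrrCharacter.isCharacter ψ.2)) (norm_res_even ψ.2)), res_one]
  have h1 : ((Fintype.card F : ℂ) - 1) *
      ∑ χ : Cfsg.IrrCharacter (Matrix.SpecialLinearGroup (Fin 2) F),
        φ ((χ : Matrix.SpecialLinearGroup (Fin 2) F → ℂ) 1) =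
      ∑ ψ : Cfsg.IrrCharacter (GL (Fin 2) F), φ ((ψ : GL (Fin 2) F → ℂ) 1) := by
    rw [← Finset.sum_congr rfl fun ψ _ => hA ψ, Finset.sum_comm, Finset.mul_sum]
    refine Finset.sum_congr rfl fun χ _ => ?_
    rw [← Finset.mul_sum, hB χ]; ring
  rw [count] at h1
  apply mul_left_cancel₀ (qne1 (F := F))
  rw [h1]; ring

theorem card_deg_even [CharP F 2] (n : ℂ) :
    (Nat.card {χ : Cfsg.IrrCharacter (Matrix.SpecialLinearGroup (Fin 2) F) //
      (χ : Matrix.SpecialLinearGroup (Fin 2) F → ℂ) 1 = n} : ℂ) =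
    ((if (1 : ℂ) = n then 1 else 0) + (if (Fintype.card F : ℂ) = n then 1 else 0)) +
      ((Fintype.card F : ℂ) - 2) / 2 * (if (Fintype.card F : ℂ) + 1 = n then 1 else 0) +
      (Fintype.card F : ℂ) / 2 * (if (Fintype.card F : ℂ) - 1 = n then 1 else 0) := by
  classical
  haveI := finite_irrCharacter (G := Matrix.SpecialLinearGroup (Fin 2) F)
  haveI : Fintype (Cfsg.IrrCharacter (Matrix.SpecialLinearGroup (Fin 2) F)) := Fintype.ofFinite _
  rw [← count_even (F := F) (fun z => if z = n then 1 else 0), Nat.card_eq_fintype_card,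
    Fintype.card_subtype, Finset.card_filter]
  push_cast
  rfl

end Cfsg.Agent.Lib.Helper2.SL2r
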