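import Mathlib
import Cfsg.Agent.Lib.Helper2.SL2t

set_option autoImplicit false

namespace Cfsg.Agent.Lib.Helper2.SL2r

open scoped ComplexConjugate
open Matrix GL2

variable {F : Type*} [Field F] [Fintype F] [DecidableEq F]

theorem sum_GL_of_inv (Φ : GL (Fin 2) F → ℂ)
    (hΦ : ∀ (x : GL (Fin 2) F) (d : Fˣ), Φ (x * bmk d 1 0) = Φ x) :
    ∑ x : GL (Fin 2) F, Φ x = ((Fintype.card F : ℂ) - 1) *
      ∑ y : Matrix.SpecialLinearGroup (Fin 2) F, Φ (Matrix.SpecialLinearGroup.toGL y) := by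
  have h1 : ∀ x : GL (Fin 2) F, Φ x =
      ∑ d : Fˣ, if (x : Matrix (Fin 2) (Fin 2) F).det = (d : F) then Φ x else 0 := by
    intro x
    rw [Finset.sum_eq_single (Units.mk0 _ (det_ne x))]
    · simp
    · intro d _ hd
      rw [if_neg]
      intro h
      apply hd
      apply Units.ext
      exact h.symm
    · intro h; exact absurd (Finset.mem_univ _) h
  rw [Finset.sum_congr rfl fun x _ => h1 x, Finset.sum_comm]
  have h2 : ∀ d : Fˣ, ∑ x : GL (Fin 2) F,
      (if (x : Matrix (Fin 2) (Fin 2) F).det = (d : F) then Φ x else 0) =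
      ∑ y : Matrix.SpecialLinearGroup (Fin 2) F, Φ (Matrix.SpecialLinearGroup.toGL y) := by
    intro d
    rw [sum_toGL, ← Equiv.sum_comp (Equiv.mulRight (bmk d 1 0))]
    refine Finset.sum_congr rfl fun x _ => ?_
    simp only [Equiv.coe_mulRight]
    rw [hΦ]
    have h3 : ((x * bmk d 1 0 : GL (Fin 2) F) : Matrix (Fin 2) (Fin 2) F).det =
        (x : Matrix (Fin 2) (Fin 2) F).det * d := by
      rw [Units.val_mul, Matrix.det_mul, bmk_coe]
      simp [Matrix.det_fin_two]
    have e : (((x * bmk d 1 0 : GL (Fin 2) F) : Matrix (Fin 2) (Fin 2) F).det = d) ↔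
        (x : Matrix (Fin 2) (Fin 2) F).det = 1 := by
      rw [h3]
      constructor
      · intro h
        exact mul_right_cancel₀ d.ne_zero (by rw [h, one_mul])
      · intro h
        rw [h, one_mul]
    exact if_congr e rfl rfl
  rw [Finset.sum_congr rfl fun d _ => h2 d, Finset.sum_const, Finset.card_univ,
    Fintype.card_units, nsmul_eq_mul, Nat.cast_sub Fintype.card_pos]
  simp

omit [Fintype F] [DecidableEq F] in
theorem ext_conj (α β : MulChar F ℂ) (t g : GL (Fin 2) F) (ht : t ∈ Cfsg.upperTriangularGL 2 F) :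
    Cfsg.extendByZero (Cfsg.upperTriangularGL 2 F) (lam α β) (t⁻¹ * g * t) =
      Cfsg.extendByZero (Cfsg.upperTriangularGL 2 F) (lam α β) g := by
  by_cases hg : g ∈ Cfsg.upperTriangularGL 2 F
  · have h2 := extendByZero_coe (Cfsg.upperTriangularGL 2 F) (lam α β)
      ((⟨t, ht⟩ : ↥(Cfsg.upperTriangularGL 2 F))⁻¹ * ⟨g, hg⟩ * ⟨t, ht⟩)
    rw [lam_conj] at h2
    rw [extendByZero_of_mem _ _ hg]
    exact h2
  · rw [extendByZero_of_not_mem _ _ hg, extendByZero_of_not_mem]
    intro h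
    apply hg
    have h3 := mul_mem (mul_mem ht h) (inv_mem ht)
    have h4 : t * (t⁻¹ * g * t) * t⁻¹ = g := by group
    rwa [h4] at h3

omit [Fintype F] [DecidableEq F] in
theorem lam_toGL (α β : MulChar F ℂ) (b : Matrix.SpecialLinearGroup (Fin 2) F)
    (hb : b ∈ (Cfsg.upperTriangularGL 2 F).comap Matrix.SpecialLinearGroup.toGL) :
    lam α β ⟨Matrix.SpecialLinearGroup.toGL b, Subgroup.mem_comap.1 hb⟩ =
      SL2c.lam1 (α * β⁻¹) ⟨b, hb⟩ := by
  have h10 := (SL2c.mem_b1 b).1 hb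
  have hdet : (b : Matrix (Fin 2) (Fin 2) F) 0 0 * (b : Matrix (Fin 2) (Fin 2) F) 1 1 = 1 := by
    have := b.2
    rw [Matrix.det_fin_two, h10, mul_zero, sub_zero] at this
    exact this
  show α ((b : Matrix (Fin 2) (Fin 2) F) 0 0) * β ((b : Matrix (Fin 2) (Fin 2) F) 1 1) =
    (α * β⁻¹) ((b : Matrix (Fin 2) (Fin 2) F) 0 0)
  rw [MulChar.mul_apply, MulChar.inv_apply', eq_inv_of_mul_eq_one_right hdet]

theorem res_II (α β : MulChar F ℂ) :
    res (II α β) = Cfsg.indFun _ (SL2c.lam1 (α * β⁻¹)) := by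
  funext s
  rw [res, II, indFun_apply, indFun_apply]
  rw [sum_GL_of_inv (fun x => Cfsg.extendByZero (Cfsg.upperTriangularGL 2 F) (lam α β)
    (x⁻¹ * Matrix.SpecialLinearGroup.toGL s * x))]
  · have h1 : ∀ y : Matrix.SpecialLinearGroup (Fin 2) F,
        Cfsg.extendByZero (Cfsg.upperTriangularGL 2 F) (lam α β)
          ((Matrix.SpecialLinearGroup.toGL y)⁻¹ * Matrix.SpecialLinearGroup.toGL s *
            Matrix.SpecialLinearGroup.toGL y) =
        Cfsg.extendByZero ((Cfsg.upperTriangularGL 2 F).comap Matrix.SpecialLinearGroup.toGL)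
          (SL2c.lam1 (α * β⁻¹)) (y⁻¹ * s * y) := by
      intro y
      have e : (Matrix.SpecialLinearGroup.toGL y)⁻¹ * Matrix.SpecialLinearGroup.toGL s *
          Matrix.SpecialLinearGroup.toGL y = Matrix.SpecialLinearGroup.toGL (y⁻¹ * s * y) := by
        simp
      rw [e]
      by_cases hm : y⁻¹ * s * y ∈
          (Cfsg.upperTriangularGL 2 F).comap Matrix.SpecialLinearGroup.toGL
      · rw [extendByZero_of_mem _ _ hm, extendByZero_of_mem _ _ (Subgroup.mem_comap.1 hm),
          lam_toGL]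
      · rw [extendByZero_of_not_mem _ _ hm,
          extendByZero_of_not_mem _ _ (fun h => hm (Subgroup.mem_comap.2 h))]
    rw [Finset.sum_congr rfl fun y _ => h1 y, card_bor, SL2c.card_b1]
    have h0 := qne0 (F := F)
    have h1 := qne1 (F := F)
    field_simp
  · intro x d
    have e : (x * bmk d 1 0)⁻¹ * Matrix.SpecialLinearGroup.toGL s * (x * bmk d 1 0) =
        (bmk d 1 0)⁻¹ * (x⁻¹ * Matrix.SpecialLinearGroup.toGL s * x) * bmk d 1 0 := by group
    simp only [e]
    exact ext_conj α β _ _ (bmk_mem _ _ _)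

theorem norm_res_II (α β : MulChar F ℂ) :
    Cfsg.classInner (res (II α β)) (res (II α β)) =
      1 + (if α * β⁻¹ = (α * β⁻¹)⁻¹ then 1 else 0) := by
  rw [res_II, SL2c.inner_ind1, if_pos rfl]

end Cfsg.Agent.Lib.Helper2.SL2r
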