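import Mathlib
import Cfsg.Agent.Lib.Helper2.SL2u

set_option autoImplicit false

namespace Cfsg.Agent.Lib.Helper2.SL2r

open scoped ComplexConjugate
open Matrix GL2

variable {F : Type*} [Field F] [Fintype F] [DecidableEq F]

omit [Fintype F] in
theorem res_twist (ψ : GL (Fin 2) F → ℂ) (γ : MulChar F ℂ) : res (ψ * dl γ) = res ψ := by
  funext s
  simp only [res, Pi.mul_apply, dl_apply]
  have : ((Matrix.SpecialLinearGroup.toGL s : GL (Fin 2) F) : Matrix (Fin 2) (Fin 2) F).det = 1 :=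
    s.2
  rw [this, map_one, mul_one]

theorem half_of_norm_two {ψ : GL (Fin 2) F → ℂ} (hψ : Cfsg.IsIrrCharacter _ ψ)
    (hn : Cfsg.classInner (res ψ) (res ψ) = 2) :
    ∃ χ χ' : Matrix.SpecialLinearGroup (Fin 2) F → ℂ, Cfsg.IsIrrCharacter _ χ ∧
      Cfsg.IsIrrCharacter _ χ' ∧ χ' ≠ χ ∧ res ψ = χ + χ' ∧ χ' 1 = χ 1 := by
  have hchar := res_isCharacter (IsIrrCharacter.isCharacter hψ)
  have hne0 : res ψ ≠ 0 := by
    intro h
    have := congrFun h 1
    rw [res_one] at this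
    exact IsIrrCharacter.apply_one_ne_zero hψ this
  obtain ⟨χ₁, h₁, c₁⟩ := IsCharacter.exists_constituent hchar hne0
  rcases split_of_norm hchar h₁ c₁ (Or.inr hn) with h | ⟨χ₂, h₂, hne, heq⟩
  · exfalso
    rw [h, irr_norm_one h₁] at hn
    norm_num at hn
  · have c₂ : Cfsg.classInner (res ψ) χ₂ ≠ 0 := by
      rw [heq, classInner_add_left, irr_orthogonal h₁ h₂ hne.symm, irr_norm_one h₂]
      simp
    obtain ⟨x, hx⟩ := clifford_conj hψ h₂ h₁ c₂ c₁
    exact ⟨χ₁, χ₂, h₁, h₂, hne, heq, (hx 1 1 (by simp)).symm⟩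

theorem M2 [Fintype (Cfsg.IrrCharacter (Matrix.SpecialLinearGroup (Fin 2) F))] (φ : ℂ → ℂ)
    {ψ : GL (Fin 2) F → ℂ} (hψ : Cfsg.IsIrrCharacter _ ψ) :
    ∑ χ : Cfsg.IrrCharacter (Matrix.SpecialLinearGroup (Fin 2) F),
      φ ((χ : Matrix.SpecialLinearGroup (Fin 2) F → ℂ) 1) *
        Cfsg.classInner (χ : Matrix.SpecialLinearGroup (Fin 2) F → ℂ) (res ψ) =
    if Cfsg.classInner (res ψ) (res ψ) = 1 then φ (ψ 1) else 2 * φ (ψ 1 / 2) := by
  rcases norm_res_cases hψ with h | h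
  · rw [if_pos h, sum_phi_inner' φ (isIrrCharacter_of_norm_one
      (res_isCharacter (IsIrrCharacter.isCharacter hψ)) h), res_one]
  · rw [if_neg (by rw [h]; norm_num)]
    obtain ⟨χ, χ', h₁, h₂, hne, heq, hd⟩ := half_of_norm_two hψ h
    simp only [heq, classInner_add_right, mul_add, Finset.sum_add_distrib]
    rw [sum_phi_inner' φ h₁, sum_phi_inner' φ h₂, hd]
    have h3 : ψ 1 / 2 = χ 1 := by
      have := congrFun heq 1
      rw [res_one, Pi.add_apply, hd] at this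
      rw [this]; ring
    rw [h3]; ring

theorem M1 [Fintype (Cfsg.IrrCharacter (GL (Fin 2) F))]
    {χ : Matrix.SpecialLinearGroup (Fin 2) F → ℂ} (hχ : Cfsg.IsIrrCharacter _ χ) :
    ∑ ψ : Cfsg.IrrCharacter (GL (Fin 2) F),
      Cfsg.classInner (res (ψ : GL (Fin 2) F → ℂ)) (res (ψ : GL (Fin 2) F → ℂ)) *
        Cfsg.classInner χ (res (ψ : GL (Fin 2) F → ℂ)) = (Fintype.card F : ℂ) - 1 := by
  haveI : Fintype (MulChar F ℂ) := Fintype.ofFinite _
  obtain ⟨ψ₀, h₀, hne⟩ := exists_over hχ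
  rw [← sum_inner_res h₀]
  refine Finset.sum_congr rfl fun ψ _ => ?_
  have hchar₀ := res_isCharacter (IsIrrCharacter.isCharacter h₀)
  have hcharψ := res_isCharacter (IsIrrCharacter.isCharacter ψ.2)
  have hsplit := split_of_norm hchar₀ hχ hne (norm_res_cases h₀)
  by_cases hex : ∃ γ : MulChar F ℂ, ψ₀ * dl γ = (ψ : GL (Fin 2) F → ℂ)
  · obtain ⟨γ, hγ⟩ := hex
    have h1 : res (ψ : GL (Fin 2) F → ℂ) = res ψ₀ := by rw [← hγ, res_twist]
    rw [h1]
    have h2 : Cfsg.classInner χ (res ψ₀) = 1 := by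
      rcases hsplit with h | ⟨χ', h', hne', heq⟩
      · rw [h, irr_norm_one hχ]
      · rw [heq, classInner_add_right, irr_norm_one hχ, irr_orthogonal hχ h' hne'.symm, add_zero]
    rw [h2, mul_one]
  · push Not at hex
    have h0 : Cfsg.classInner (res ψ₀) (res (ψ : GL (Fin 2) F → ℂ)) = 0 := by
      rw [inner_res]
      apply Finset.sum_eq_zero
      intro γ _
      exact irr_orthogonal (twist_irr h₀ γ) ψ.2 (hex γ)
    rw [h0]
    have h3 : Cfsg.classInner χ (res (ψ : GL (Fin 2) F → ℂ)) = 0 := by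
      rcases hsplit with h | ⟨χ', h', hne', heq⟩
      · rw [← h]; exact h0
      · rw [heq, classInner_add_left] at h0
        obtain ⟨a, ha⟩ := IsCharacter.classInner_nat (IsIrrCharacter.isCharacter hχ) hcharψ
        obtain ⟨b, hb⟩ := IsCharacter.classInner_nat (IsIrrCharacter.isCharacter h') hcharψ
        rw [ha, hb] at h0
        have h4 : a + b = 0 := by exact_mod_cast h0
        have h5 : a = 0 := by omega
        rw [ha, h5]; simp
    rw [h3, mul_zero]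

theorem M3 [Fintype (Cfsg.IrrCharacter (Matrix.SpecialLinearGroup (Fin 2) F))]
    [Fintype (Cfsg.IrrCharacter (GL (Fin 2) F))] (φ : ℂ → ℂ) :
    ((Fintype.card F : ℂ) - 1) * ∑ χ : Cfsg.IrrCharacter (Matrix.SpecialLinearGroup (Fin 2) F),
      φ ((χ : Matrix.SpecialLinearGroup (Fin 2) F → ℂ) 1) =
    ∑ ψ : Cfsg.IrrCharacter (GL (Fin 2) F),
      (if Cfsg.classInner (res (ψ : GL (Fin 2) F → ℂ)) (res (ψ : GL (Fin 2) F → ℂ)) = 1 then
        φ ((ψ : GL (Fin 2) F → ℂ) 1) else 4 * φ ((ψ : GL (Fin 2) F → ℂ) 1 / 2)) := by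
  have h1 : ∀ ψ : Cfsg.IrrCharacter (GL (Fin 2) F),
      (if Cfsg.classInner (res (ψ : GL (Fin 2) F → ℂ)) (res (ψ : GL (Fin 2) F → ℂ)) = 1 then
        φ ((ψ : GL (Fin 2) F → ℂ) 1) else 4 * φ ((ψ : GL (Fin 2) F → ℂ) 1 / 2)) =
      Cfsg.classInner (res (ψ : GL (Fin 2) F → ℂ)) (res (ψ : GL (Fin 2) F → ℂ)) *
        ∑ χ : Cfsg.IrrCharacter (Matrix.SpecialLinearGroup (Fin 2) F),
          φ ((χ : Matrix.SpecialLinearGroup (Fin 2) F → ℂ) 1) *
          Cfsg.classInner (χ : Matrix.SpecialLinearGroup (Fin 2) F → ℂ)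
            (res (ψ : GL (Fin 2) F → ℂ)) := by
    intro ψ
    rw [M2 φ ψ.2]
    rcases norm_res_cases ψ.2 with h | h
    · rw [if_pos h, if_pos h, h, one_mul]
    · have h2 : ¬ (Cfsg.classInner (res (ψ : GL (Fin 2) F → ℂ)) (res (ψ : GL (Fin 2) F → ℂ)) = 1) := by
        rw [h]; norm_num
      rw [if_neg h2, if_neg h2, h]; ring
  rw [Finset.sum_congr rfl fun ψ _ => h1 ψ]
  simp only [Finset.mul_sum]
  rw [Finset.sum_comm]
  refine Finset.sum_congr rfl fun χ _ => ?_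
  rw [← M1 χ.2, Finset.sum_mul]
  refine Finset.sum_congr rfl fun ψ _ => by ring

theorem sum_f_inner [Fintype (Cfsg.IrrCharacter (GL (Fin 2) F))]
    (f : (GL (Fin 2) F → ℂ) → ℂ) {θ : GL (Fin 2) F → ℂ} (hθ : Cfsg.IsIrrCharacter _ θ) :
    ∑ ψ : Cfsg.IrrCharacter (GL (Fin 2) F), f (ψ : GL (Fin 2) F → ℂ) *
      Cfsg.classInner (ψ : GL (Fin 2) F → ℂ) θ = f θ := by
  rw [Finset.sum_eq_single (⟨θ, hθ⟩ : Cfsg.IrrCharacter (GL (Fin 2) F))]
  · show f θ * Cfsg.classInner θ θ = _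
    rw [irr_norm_one hθ, mul_one]
  · intro χ _ hne
    rw [irr_orthogonal χ.2 hθ (fun h => hne (Subtype.ext h)), mul_zero]
  · intro h; exact absurd (Finset.mem_univ _) h

theorem sum_f_II [Fintype (Cfsg.IrrCharacter (GL (Fin 2) F))]
    (f : (GL (Fin 2) F → ℂ) → ℂ) (α β : MulChar F ℂ) :
    ∑ ψ : Cfsg.IrrCharacter (GL (Fin 2) F), f (ψ : GL (Fin 2) F → ℂ) *
      Cfsg.classInner (ψ : GL (Fin 2) F → ℂ) (II α β) =
      if α = β then f (dl α) + f (St α) else f (II α β) := by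
  split_ifs with h
  · subst h
    simp only [II_diag, classInner_add_right, mul_add, Finset.sum_add_distrib]
    rw [sum_f_inner f (dl_irr α), sum_f_inner f (St_irr α)]
  · rw [sum_f_inner f (II_irr h)]

open Classical in
theorem sum_f [Fintype (Cfsg.IrrCharacter (GL (Fin 2) F))] [Fintype (MulChar F ℂ)]
    (f : (GL (Fin 2) F → ℂ) → ℂ) :
    ∑ ψ : Cfsg.IrrCharacter (GL (Fin 2) F), f (ψ : GL (Fin 2) F → ℂ) =
    ∑ α : MulChar F ℂ, ∑ β : MulChar F ℂ,
      cc α β * (if α = β then f (dl α) + f (St α) else f (II α β)) +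
    ∑ ψ ∈ Finset.univ.filter (fun ψ : Cfsg.IrrCharacter (GL (Fin 2) F) =>
        cusp (ψ : GL (Fin 2) F → ℂ)), f (ψ : GL (Fin 2) F → ℂ) := by
  have h1 : ∑ ψ : Cfsg.IrrCharacter (GL (Fin 2) F), f (ψ : GL (Fin 2) F → ℂ) *
      WW (ψ : GL (Fin 2) F → ℂ) = ∑ α : MulChar F ℂ, ∑ β : MulChar F ℂ,
      cc α β * (if α = β then f (dl α) + f (St α) else f (II α β)) := by
    have h2 : ∀ ψ : Cfsg.IrrCharacter (GL (Fin 2) F), f (ψ : GL (Fin 2) F → ℂ) *
        WW (ψ : GL (Fin 2) F → ℂ) = ∑ α : MulChar F ℂ, ∑ β : MulChar F ℂ,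
          cc α β * (f (ψ : GL (Fin 2) F → ℂ) *
            Cfsg.classInner (ψ : GL (Fin 2) F → ℂ) (II α β)) := by
      intro ψ
      rw [WW, Finset.mul_sum]
      refine Finset.sum_congr rfl fun α _ => ?_
      rw [Finset.mul_sum]
      refine Finset.sum_congr rfl fun β _ => by ring
    rw [Finset.sum_congr rfl fun ψ _ => h2 ψ, Finset.sum_comm]
    refine Finset.sum_congr rfl fun α _ => ?_
    rw [Finset.sum_comm]
    refine Finset.sum_congr rfl fun β _ => ?_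
    rw [← Finset.mul_sum, sum_f_II]
  rw [← h1, Finset.sum_filter, ← Finset.sum_add_distrib]
  refine Finset.sum_congr rfl fun ψ _ => ?_
  split_ifs with h
  · rw [WW_cusp h]; ring
  · rw [WW_noncusp ψ.2 h]; ring

omit [DecidableEq F] in
theorem exists_quad (hodd : Odd (Fintype.card F)) :
    ∃ γ₀ : MulChar F ℂ, γ₀ ≠ 1 ∧ ∀ γ : MulChar F ℂ, γ = γ⁻¹ ↔ (γ = 1 ∨ γ = γ₀) := by
  classical
  have hF : ringChar F ≠ 2 := by
    intro h
    have := FiniteField.even_card_iff_char_two.mp h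
    rw [Nat.odd_iff] at hodd
    omega
  obtain ⟨ζ, hζ⟩ := IsCyclic.exists_generator (α := Fˣ)
  have hsq : ∀ γ : MulChar F ℂ, γ = γ⁻¹ → γ (ζ : F) = 1 ∨ γ (ζ : F) = -1 := by
    intro γ hγ
    have h2 : γ ^ 2 = 1 := by rw [sq]; nth_rewrite 2 [hγ]; exact mul_inv_cancel γ
    have h3 : (γ ^ 2) (ζ : F) = 1 := by rw [h2, MulChar.one_apply_coe]
    rw [MulChar.pow_apply_coe, sq] at h3
    exact mul_self_eq_one_iff.1 h3
  set γ₀ : MulChar F ℂ := (quadraticChar F).ringHomComp (Int.castRingHom ℂ) with hγ₀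
  have h1 : γ₀ ≠ 1 := by
    rw [hγ₀, MulChar.ringHomComp_ne_one_iff (Int.cast_injective)]
    exact quadraticChar_ne_one hF
  have h2 : γ₀ = γ₀⁻¹ := by
    have h3 : γ₀ ^ 2 = 1 := ((quadraticChar_isQuadratic F).comp _).sq_eq_one
    rw [eq_inv_iff_mul_eq_one, ← sq]; exact h3
  have h4 : γ₀ (ζ : F) = -1 := by
    rcases hsq γ₀ h2 with h | h
    · exfalso
      apply h1
      apply mulChar_ext_gen hζ
      rw [h, MulChar.one_apply_coe]
    · exact h
  refine ⟨γ₀, h1, fun γ => ⟨fun hγ => ?_, fun hγ => ?_⟩⟩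
  · rcases hsq γ hγ with h | h
    · left
      apply mulChar_ext_gen hζ
      rw [h, MulChar.one_apply_coe]
    · right
      apply mulChar_ext_gen hζ
      rw [h, h4]
  · rcases hγ with rfl | rfl
    · simp
    · exact h2

end Cfsg.Agent.Lib.Helper2.SL2r
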