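import Mathlib
import Cfsg.Agent.Lib.Helper2.SL2v
import Cfsg.Agent.S2325

set_option autoImplicit false

namespace Cfsg.Agent.Lib.Helper2.SL2r

open scoped ComplexConjugate
open Matrix GL2

variable {F : Type*} [Field F] [Fintype F] [DecidableEq F]

theorem nn_eq_one_of_odd {ψ : GL (Fin 2) F → ℂ} (hψ : Cfsg.IsIrrCharacter _ ψ) (m : ℕ)
    (hm : ψ 1 = m) (hodd : Odd m) : Cfsg.classInner (res ψ) (res ψ) = 1 := by
  rcases norm_res_cases hψ with h | h
  · exact h
  · exfalso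
    obtain ⟨χ, χ', h₁, h₂, hne, heq, hd⟩ := half_of_norm_two hψ h
    obtain ⟨d, _, hd1⟩ := IsIrrCharacter.apply_one_pos h₁
    have h3 := congrFun heq 1
    rw [res_one, Pi.add_apply, hd, hd1, hm] at h3
    have h4 : m = d + d := by exact_mod_cast h3
    rw [Nat.odd_iff] at hodd
    omega

noncomputable def ff (φ : ℂ → ℂ) (ψ : GL (Fin 2) F → ℂ) : ℂ :=
  if Cfsg.classInner (res ψ) (res ψ) = 1 then φ (ψ 1) else 4 * φ (ψ 1 / 2)

theorem ff_dl (φ : ℂ → ℂ) (α : MulChar F ℂ) : ff φ (dl α) = φ 1 := by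
  rw [ff, if_pos (nn_eq_one_of_odd (dl_irr α) 1 (by rw [dl_one]; simp) odd_one), dl_one]

theorem ff_St (hodd : Odd (Fintype.card F)) (φ : ℂ → ℂ) (α : MulChar F ℂ) :
    ff φ (St α) = φ (Fintype.card F : ℂ) := by
  rw [ff, if_pos (nn_eq_one_of_odd (St_irr α) _ (St_one α) hodd), St_one]

theorem ff_II (φ : ℂ → ℂ) (α β : MulChar F ℂ) :
    ff φ (II α β) = if α * β⁻¹ = (α * β⁻¹)⁻¹ then 4 * φ (((Fintype.card F : ℂ) + 1) / 2)
      else φ ((Fintype.card F : ℂ) + 1) := by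
  rw [ff, norm_res_II, II_one]
  by_cases h : α * β⁻¹ = (α * β⁻¹)⁻¹
  · rw [if_pos h, if_pos h, if_neg (by norm_num)]
  · rw [if_neg h, if_neg h, if_pos (by norm_num)]

theorem T_eval (hodd : Odd (Fintype.card F)) [Fintype (MulChar F ℂ)] (φ : ℂ → ℂ) :
    ∑ α : MulChar F ℂ, ∑ β : MulChar F ℂ,
      cc α β * (if α = β then ff φ (dl α) + ff φ (St α) else ff φ (II α β)) =
    ((Fintype.card F : ℂ) - 1) * (φ 1 + φ (Fintype.card F : ℂ) +
      2 * φ (((Fintype.card F : ℂ) + 1) / 2) +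
      ((Fintype.card F : ℂ) - 3) / 2 * φ ((Fintype.card F : ℂ) + 1)) := by
  obtain ⟨γ₀, hγ1, hγ⟩ := exists_quad hodd
  set g : MulChar F ℂ → ℂ := fun γ => if γ = 1 then (φ 1 + φ (Fintype.card F : ℂ)) else
    (1 / 2) * (if γ = γ⁻¹ then 4 * φ (((Fintype.card F : ℂ) + 1) / 2)
      else φ ((Fintype.card F : ℂ) + 1)) with hg
  have h1 : ∀ α β : MulChar F ℂ,
      cc α β * (if α = β then ff φ (dl α) + ff φ (St α) else ff φ (II α β)) = g (α * β⁻¹) := by
    intro α β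
    by_cases h : α = β
    · subst h
      simp only [hg, cc, if_true, mul_inv_cancel, one_mul]
      rw [ff_dl, ff_St hodd]
    · have h2 : α * β⁻¹ ≠ 1 := fun h3 => h (mul_inv_eq_one.1 h3)
      simp only [hg]
      rw [if_neg h, if_neg h2, cc, if_neg h, ff_II]
  have h2 : ∑ γ : MulChar F ℂ, g γ = φ 1 + φ (Fintype.card F : ℂ) +
      2 * φ (((Fintype.card F : ℂ) + 1) / 2) +
      ((Fintype.card F : ℂ) - 3) / 2 * φ ((Fintype.card F : ℂ) + 1) := by
    have h3 : ∀ γ : MulChar F ℂ, g γ = φ ((Fintype.card F : ℂ) + 1) / 2 +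
        (if γ = 1 then (φ 1 + φ (Fintype.card F : ℂ) - φ ((Fintype.card F : ℂ) + 1) / 2) else 0) +
        (if γ = γ₀ then (2 * φ (((Fintype.card F : ℂ) + 1) / 2) -
          φ ((Fintype.card F : ℂ) + 1) / 2) else 0) := by
      intro γ
      simp only [hg]
      by_cases e1 : γ = 1
      · rw [if_pos e1, if_pos e1, if_neg (by rw [e1]; exact hγ1.symm)]
        ring
      · by_cases e2 : γ = γ₀
        · rw [if_neg e1, if_neg e1, if_pos e2, if_pos ((hγ γ).2 (Or.inr e2))]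
          ring
        · rw [if_neg e1, if_neg e1, if_neg e2, if_neg (fun h => by
            rcases (hγ γ).1 h with h | h
            · exact e1 h
            · exact e2 h)]
          ring
    rw [Finset.sum_congr rfl fun γ _ => h3 γ, Finset.sum_add_distrib, Finset.sum_add_distrib,
      Finset.sum_const, Finset.sum_ite_eq', Finset.sum_ite_eq', if_pos (Finset.mem_univ _),
      if_pos (Finset.mem_univ _), Finset.card_univ, card_mulChar, nsmul_eq_mul,
      Nat.cast_sub Fintype.card_pos]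
    push_cast; ring
  have h4 : ∀ α : MulChar F ℂ, ∑ β : MulChar F ℂ,
      cc α β * (if α = β then ff φ (dl α) + ff φ (St α) else ff φ (II α β)) =
      ∑ γ : MulChar F ℂ, g γ := by
    intro α
    rw [Finset.sum_congr rfl fun β _ => h1 α β]
    exact Equiv.sum_comp ((Equiv.inv (MulChar F ℂ)).trans (Equiv.mulLeft α)) g
  rw [Finset.sum_congr rfl fun α _ => h4 α, Finset.sum_const, Finset.card_univ, card_mulChar,
    nsmul_eq_mul, Nat.cast_sub Fintype.card_pos, h2]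
  push_cast; ring

theorem count_odd (hodd : Odd (Fintype.card F))
    [Fintype (Cfsg.IrrCharacter (Matrix.SpecialLinearGroup (Fin 2) F))] (φ : ℂ → ℂ) :
    ∑ χ : Cfsg.IrrCharacter (Matrix.SpecialLinearGroup (Fin 2) F),
      φ ((χ : Matrix.SpecialLinearGroup (Fin 2) F → ℂ) 1) =
    φ 1 + φ (Fintype.card F : ℂ) + 2 * φ (((Fintype.card F : ℂ) + 1) / 2) +
      ((Fintype.card F : ℂ) - 3) / 2 * φ ((Fintype.card F : ℂ) + 1) +
      ((Fintype.card F : ℂ) - 1) / 2 * φ ((Fintype.card F : ℂ) - 1) +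
      2 * φ (((Fintype.card F : ℂ) - 1) / 2) := by
  classical
  haveI : Fintype (MulChar F ℂ) := Fintype.ofFinite _
  haveI := finite_irrCharacter (G := GL (Fin 2) F)
  haveI : Fintype (Cfsg.IrrCharacter (GL (Fin 2) F)) := Fintype.ofFinite _
  obtain ⟨hC1, hC2⟩ := cusp_main (F := F)
  set C := Finset.univ.filter (fun ψ : Cfsg.IrrCharacter (GL (Fin 2) F) =>
        cusp (ψ : GL (Fin 2) F → ℂ)) with hC
  set c₁ : ℂ := ((C.filter (fun ψ : Cfsg.IrrCharacter (GL (Fin 2) F) =>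
    Cfsg.classInner (res (ψ : GL (Fin 2) F → ℂ)) (res (ψ : GL (Fin 2) F → ℂ)) = 1)).card : ℂ)
    with hc₁
  set t : ℂ := ((C.filter (fun ψ : Cfsg.IrrCharacter (GL (Fin 2) F) =>
    ¬ Cfsg.classInner (res (ψ : GL (Fin 2) F → ℂ)) (res (ψ : GL (Fin 2) F → ℂ)) = 1)).card : ℂ)
    with ht
  have hct : c₁ + t = (Fintype.card F : ℂ) * ((Fintype.card F : ℂ) - 1) / 2 := by
    have h1 := Finset.card_filter_add_card_filter_not (s := C)
      (fun ψ : Cfsg.IrrCharacter (GL (Fin 2) F) =>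
        Cfsg.classInner (res (ψ : GL (Fin 2) F → ℂ)) (res (ψ : GL (Fin 2) F → ℂ)) = 1)
    have h2 : c₁ + t = (C.card : ℂ) := by
      rw [hc₁, ht, ← h1]; push_cast; ring
    have h3 : ((2 * (C.card : ℤ) : ℤ) : ℂ) =
      (((Fintype.card F : ℤ) * ((Fintype.card F : ℤ) - 1) : ℤ) : ℂ) := by rw [hC2]
    push_cast at h3
    rw [h2]; linear_combination h3 / 2
  have key : ∀ φ : ℂ → ℂ, ((Fintype.card F : ℂ) - 1) *
      ∑ χ : Cfsg.IrrCharacter (Matrix.SpecialLinearGroup (Fin 2) F),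
        φ ((χ : Matrix.SpecialLinearGroup (Fin 2) F → ℂ) 1) =
      ((Fintype.card F : ℂ) - 1) * (φ 1 + φ (Fintype.card F : ℂ) +
        2 * φ (((Fintype.card F : ℂ) + 1) / 2) +
        ((Fintype.card F : ℂ) - 3) / 2 * φ ((Fintype.card F : ℂ) + 1)) +
      (c₁ * φ ((Fintype.card F : ℂ) - 1) + t * (4 * φ (((Fintype.card F : ℂ) - 1) / 2))) := by
    intro φ
    rw [M3 φ]
    have h1 := sum_f (F := F) (ff φ)
    rw [T_eval hodd φ, ← hC] at h1
    have h2 : ∑ ψ ∈ C, ff φ (ψ : GL (Fin 2) F → ℂ) =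
        c₁ * φ ((Fintype.card F : ℂ) - 1) + t * (4 * φ (((Fintype.card F : ℂ) - 1) / 2)) := by
      have h3 : ∀ ψ ∈ C, ff φ (ψ : GL (Fin 2) F → ℂ) =
          if Cfsg.classInner (res (ψ : GL (Fin 2) F → ℂ)) (res (ψ : GL (Fin 2) F → ℂ)) = 1 then
            φ ((Fintype.card F : ℂ) - 1) else 4 * φ (((Fintype.card F : ℂ) - 1) / 2) := by
        intro ψ hψ
        rw [ff, hC1 ψ (Finset.mem_filter.1 hψ).2]
      rw [Finset.sum_congr rfl h3, Finset.sum_ite, Finset.sum_const, Finset.sum_const,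
        nsmul_eq_mul, nsmul_eq_mul]
    rw [h2] at h1
    exact h1
  have hk : (Fintype.card (Cfsg.IrrCharacter (Matrix.SpecialLinearGroup (Fin 2) F)) : ℂ) =
      (Fintype.card F : ℂ) + 4 := by
    rw [← Nat.card_eq_fintype_card, card_irrCharacter, Cfsg.Agent.S2325.result hodd]
    push_cast; ring
  have h1 := key (fun _ => 1)
  rw [Finset.sum_const, Finset.card_univ, nsmul_eq_mul, mul_one, hk] at h1
  have htv : t = ((Fintype.card F : ℂ) - 1) / 2 := by
    linear_combination (-1 / 3 : ℂ) * h1 - (1 / 3 : ℂ) * hct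
  have hcv : c₁ = ((Fintype.card F : ℂ) - 1) * (((Fintype.card F : ℂ) - 1) / 2) := by
    linear_combination hct - htv
  apply mul_left_cancel₀ (qne1 (F := F))
  rw [key φ, htv, hcv]
  ring

theorem card_deg_odd (hodd : Odd (Fintype.card F)) (n : ℂ) :
    (Nat.card {χ : Cfsg.IrrCharacter (Matrix.SpecialLinearGroup (Fin 2) F) //
      (χ : Matrix.SpecialLinearGroup (Fin 2) F → ℂ) 1 = n} : ℂ) =
    (if (1 : ℂ) = n then 1 else 0) + (if (Fintype.card F : ℂ) = n then 1 else 0) +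
      2 * (if ((Fintype.card F : ℂ) + 1) / 2 = n then 1 else 0) +
      ((Fintype.card F : ℂ) - 3) / 2 * (if (Fintype.card F : ℂ) + 1 = n then 1 else 0) +
      ((Fintype.card F : ℂ) - 1) / 2 * (if (Fintype.card F : ℂ) - 1 = n then 1 else 0) +
      2 * (if ((Fintype.card F : ℂ) - 1) / 2 = n then 1 else 0) := by
  classical
  haveI := finite_irrCharacter (G := Matrix.SpecialLinearGroup (Fin 2) F)
  haveI : Fintype (Cfsg.IrrCharacter (Matrix.SpecialLinearGroup (Fin 2) F)) := Fintype.ofFinite _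
  rw [← count_odd hodd (fun z => if z = n then 1 else 0), Nat.card_eq_fintype_card,
    Fintype.card_subtype, Finset.card_filter]
  push_cast
  rfl

end Cfsg.Agent.Lib.Helper2.SL2r
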