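import Mathlib
import Cfsg.Agent.Lib.Helper2.SL2u
import Cfsg.Agent.Lib.Helper14.SL2Odd

set_option autoImplicit false

namespace Cfsg.Agent.Lib.Helper2.SL2r

open scoped ComplexConjugate
open Matrix GL2

variable {F : Type*} [Field F]

theorem conj_smk {χ χ' : Matrix.SpecialLinearGroup (Fin 2) F → ℂ}
    (hcl : Cfsg.IsClassFunction _ χ') (x : GL (Fin 2) F)
    (hx : ∀ g h : Matrix.SpecialLinearGroup (Fin 2) F,
      Matrix.SpecialLinearGroup.toGL h = x * Matrix.SpecialLinearGroup.toGL g * x⁻¹ →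
        χ' h = χ g) :
    ∃ d : Fˣ, ∀ (a : Fˣ) (c : F), χ' (SL2c.smk a (d * c)) = χ (SL2c.smk a c) := by
  set d : Fˣ := Matrix.GeneralLinearGroup.det x with hd
  have hdb : Matrix.GeneralLinearGroup.det (bmk d 1 0) = d := by
    apply Units.ext
    rw [Matrix.GeneralLinearGroup.val_det_apply, bmk_coe]
    simp [Matrix.det_fin_two]
  have hy : ((x * (bmk d 1 0)⁻¹ : GL (Fin 2) F) : Matrix (Fin 2) (Fin 2) F).det = 1 := by
    have h1 : Matrix.GeneralLinearGroup.det (x * (bmk d 1 0)⁻¹) = 1 := by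
      rw [map_mul, map_inv, hdb, ← hd, mul_inv_cancel]
    exact congrArg Units.val h1
  let y₀ : Matrix.SpecialLinearGroup (Fin 2) F := ⟨_, hy⟩
  have hy₀ : Matrix.SpecialLinearGroup.toGL y₀ = x * (bmk d 1 0)⁻¹ := Units.ext rfl
  refine ⟨d, fun a c => ?_⟩
  have h1 : bmk d 1 0 * bmk a a⁻¹ c * (bmk d 1 0)⁻¹ = bmk a a⁻¹ (d * c) := by
    apply mul_bmk_eq
    rw [bmk_coe, bmk_coe, bmk_coe]
    ext i j
    fin_cases i <;> fin_cases j <;> simp [Matrix.mul_apply, Fin.sum_univ_two, mul_comm]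
  have h2 : Matrix.SpecialLinearGroup.toGL (y₀ * SL2c.smk a (d * c) * y₀⁻¹) =
      x * Matrix.SpecialLinearGroup.toGL (SL2c.smk a c) * x⁻¹ := by
    rw [map_mul, map_mul, map_inv, hy₀, SL2c.toGL_smk, SL2c.toGL_smk, ← h1]
    group
  rw [← hx _ _ h2, hcl]

theorem stable [Fintype F] (hodd : Odd (Fintype.card F))
    (g h : Matrix.SpecialLinearGroup (Fin 2) F)
    (ht : (g : Matrix (Fin 2) (Fin 2) F).trace = (h : Matrix (Fin 2) (Fin 2) F).trace)
    (h4 : (g : Matrix (Fin 2) (Fin 2) F).trace ^ 2 ≠ 4) : IsConj g h := by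
  have hodd' : Fintype.card F % 2 = 1 := Nat.odd_iff.1 hodd
  have hD : ∀ M : Matrix.SpecialLinearGroup (Fin 2) F,
      ((M : Matrix (Fin 2) (Fin 2) F) 1 1 - (M : Matrix (Fin 2) (Fin 2) F) 0 0) ^ 2 +
        4 * (M : Matrix (Fin 2) (Fin 2) F) 0 1 * (M : Matrix (Fin 2) (Fin 2) F) 1 0 =
      (M : Matrix (Fin 2) (Fin 2) F).trace ^ 2 - 4 := by
    intro M
    have hdet := M.2
    rw [Matrix.det_fin_two] at hdet
    rw [Matrix.trace_fin_two]
    linear_combination (-4 : F) * hdet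
  obtain ⟨x, y, hxy⟩ := Cfsg.Agent.Lib.Helper14.SL2.exists_Qf_eq_one hodd'
    (g : Matrix (Fin 2) (Fin 2) F) (by
      rw [hD]; intro h; apply h4; linear_combination h)
  obtain ⟨x', y', hxy'⟩ := Cfsg.Agent.Lib.Helper14.SL2.exists_Qf_eq_one hodd'
    (h : Matrix (Fin 2) (Fin 2) F) (by
      rw [hD, ← ht]; intro h; apply h4; linear_combination h)
  exact Cfsg.Agent.Lib.Helper14.GL2.isConj_SL_of_trace_Qf g h ht x y x' y'
    (by rw [hxy]; exact one_ne_zero) (by rw [hxy, hxy'])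

theorem conj_stable [Fintype F] (hodd : Odd (Fintype.card F))
    {χ χ' : Matrix.SpecialLinearGroup (Fin 2) F → ℂ}
    (hcl : Cfsg.IsClassFunction _ χ') (x : GL (Fin 2) F)
    (hx : ∀ g h : Matrix.SpecialLinearGroup (Fin 2) F,
      Matrix.SpecialLinearGroup.toGL h = x * Matrix.SpecialLinearGroup.toGL g * x⁻¹ →
        χ' h = χ g) (g : Matrix.SpecialLinearGroup (Fin 2) F)
    (h4 : (g : Matrix (Fin 2) (Fin 2) F).trace ^ 2 ≠ 4) : χ' g = χ g := by
  have hdet : ((x * Matrix.SpecialLinearGroup.toGL g * x⁻¹ : GL (Fin 2) F) :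
      Matrix (Fin 2) (Fin 2) F).det = 1 := by
    rw [Units.val_mul, Units.val_mul, Matrix.det_units_conj]
    exact g.2
  let h : Matrix.SpecialLinearGroup (Fin 2) F := ⟨_, hdet⟩
  have hh : Matrix.SpecialLinearGroup.toGL h = x * Matrix.SpecialLinearGroup.toGL g * x⁻¹ :=
    Units.ext rfl
  have htr : (g : Matrix (Fin 2) (Fin 2) F).trace = (h : Matrix (Fin 2) (Fin 2) F).trace := by
    show _ = Matrix.trace ((x * Matrix.SpecialLinearGroup.toGL g * x⁻¹ : GL (Fin 2) F) :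
      Matrix (Fin 2) (Fin 2) F)
    rw [Units.val_mul, Units.val_mul, Matrix.trace_units_conj]
    rfl
  have hc := stable hodd g h htr h4
  rw [← hx g h hh]
  exact IsClassFunction.of_isConj hcl hc

section fin
variable [Fintype F] [DecidableEq F]

theorem sumU {χ : GL (Fin 2) F → ℂ} (hχ : Cfsg.IsClassFunction _ χ) (a : Fˣ) :
    ∑ c : F, χ (bmk a a c) = χ (bmk a a 0) + ((Fintype.card F : ℂ) - 1) * χ (bmk a a 1) := by
  rw [← Finset.add_sum_erase _ _ (Finset.mem_univ (0 : F))]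
  congr 1
  rw [Finset.sum_congr rfl fun c hc => class_unip hχ a c (Finset.ne_of_mem_erase hc),
    Finset.sum_const, Finset.card_erase_of_mem (Finset.mem_univ _), Finset.card_univ,
    nsmul_eq_mul, Nat.cast_sub Fintype.card_pos]
  simp

theorem II_scalar (α β : MulChar F ℂ) (a : Fˣ) :
    II α β (bmk a a 0) = ((Fintype.card F : ℂ) + 1) * (α (a : F) * β (a : F)) := by
  rw [II, indFun_apply]
  have h1 : ∀ x : GL (Fin 2) F, Cfsg.extendByZero (Cfsg.upperTriangularGL 2 F) (lam α β)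
      (x⁻¹ * bmk a a 0 * x) = α (a : F) * β (a : F) := by
    intro x
    have e : x⁻¹ * bmk a a 0 * x = bmk a a 0 := by
      have := scalar_central a x⁻¹
      rwa [inv_inv] at this
    rw [e, extendByZero_of_mem _ _ (bmk_mem _ _ _)]
    simp [lam, bmk_coe]
  rw [Finset.sum_congr rfl fun x _ => h1 x, Finset.sum_const, Finset.card_univ, nsmul_eq_mul,
    ← Nat.card_eq_fintype_card, card_gl2, card_bor]
  have h0 := qne0 (F := F)
  have h1 := qne1 (F := F)
  field_simp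

theorem II_zu (α β : MulChar F ℂ) (a : Fˣ) (c : F) (hc : c ≠ 0) :
    II α β (bmk a a c) = α (a : F) * β (a : F) := by
  haveI : Fintype (MulChar F ℂ) := Fintype.ofFinite _
  have hcl := IsCharacter.isClassFunction (II_isCharacter α β)
  have h := fourier_II hcl a a
  rw [sum_inner_II (fun x y => x (a : F) * y (a : F)), sumU hcl, II_scalar] at h
  rw [class_unip hcl a c hc]
  have h0 := qne0 (F := F)
  have h1 := qne1 (F := F)
  apply mul_left_cancel₀ h1
  field_simp at h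
  linear_combination -h

end fin

end Cfsg.Agent.Lib.Helper2.SL2r
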