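import Mathlib
import Cfsg.Agent.Lib.Helper2.SL2x
import Cfsg.Agent.Lib.Helper2.SL2w

set_option autoImplicit false

namespace Cfsg.Agent.Lib.Helper2.SL2r

open scoped ComplexConjugate
open Matrix GL2

variable {F : Type*} [Field F] [Fintype F]

theorem elliptic_trace (hodd : Odd (Fintype.card F)) (g : Matrix.SpecialLinearGroup (Fin 2) F)
    (hg : ∀ (c : F) (v : Fin 2 → F), v ≠ 0 → (g : Matrix (Fin 2) (Fin 2) F).mulVec v ≠ c • v) :
    (g : Matrix (Fin 2) (Fin 2) F).trace ^ 2 ≠ 4 := by
  intro h4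
  have h2 : (2 : F) ≠ 0 :=
    Cfsg.Agent.Lib.Helper14.SL2.two_ne_zero_of_odd (Nat.odd_iff.1 hodd)
  set s : F := (g : Matrix (Fin 2) (Fin 2) F).trace / 2 with hs
  have hs2 : (g : Matrix (Fin 2) (Fin 2) F).trace = 2 * s := by rw [hs]; field_simp
  have hs1 : s ^ 2 = 1 := by
    have h5 : (4 : F) ≠ 0 := by
      have : (4 : F) = 2 * 2 := by norm_num
      rw [this]; exact mul_ne_zero h2 h2
    apply mul_left_cancel₀ h5
    rw [hs2] at h4
    linear_combination h4
  have hdet := g.2
  rw [Matrix.det_fin_two] at hdet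
  rw [Matrix.trace_fin_two] at hs2
  have hd0 : ((g : Matrix (Fin 2) (Fin 2) F) - s • (1 : Matrix (Fin 2) (Fin 2) F)).det = 0 := by
    rw [Matrix.det_fin_two]
    simp only [Matrix.sub_apply, Matrix.smul_apply, Matrix.one_apply_eq, smul_eq_mul, mul_one,
      Matrix.one_apply_ne (show (0 : Fin 2) ≠ 1 by decide),
      Matrix.one_apply_ne (show (1 : Fin 2) ≠ 0 by decide), mul_zero, sub_zero]
    linear_combination hdet - s * hs2 - hs1
  obtain ⟨v, hv, hv0⟩ := Matrix.exists_mulVec_eq_zero_iff.2 hd0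
  apply hg s v hv
  rw [Matrix.sub_mulVec, Matrix.smul_mulVec, Matrix.one_mulVec, sub_eq_zero] at hv0
  exact hv0

variable [DecidableEq F]

/-- the central element `-1` of `SL₂` -/
def zS : Matrix.SpecialLinearGroup (Fin 2) F := SL2c.smk (-1) 0

omit [Fintype F] [DecidableEq F] in
theorem toGL_zS : Matrix.SpecialLinearGroup.toGL (zS : Matrix.SpecialLinearGroup (Fin 2) F) =
    bmk (-1) (-1) 0 := by
  rw [zS, SL2c.toGL_smk, inv_neg_one]

omit [Fintype F] [DecidableEq F] in
theorem zS_central (x : Matrix.SpecialLinearGroup (Fin 2) F) : x * zS * x⁻¹ = zS := by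
  apply Matrix.SpecialLinearGroup.toGL_injective
  rw [map_mul, map_mul, map_inv, toGL_zS, scalar_central]

theorem zS_mul {χ : Matrix.SpecialLinearGroup (Fin 2) F → ℂ} (hχ : Cfsg.IsIrrCharacter _ χ)
    (y : Matrix.SpecialLinearGroup (Fin 2) F) : χ (zS * y) * χ 1 = χ zS * χ y := by
  have h := sum_char_conj_mul hχ zS y
  simp only [zS_central, Finset.sum_const, Finset.card_univ, nsmul_eq_mul] at h
  rw [← Nat.card_eq_fintype_card] at h
  have h1 := IsIrrCharacter.apply_one_ne_zero hχ
  have h2 : (Nat.card (Matrix.SpecialLinearGroup (Fin 2) F) : ℂ) ≠ 0 := card_ne_zero'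
  field_simp at h
  exact h

theorem corner (hq3 : Fintype.card F = 3) {χ : Matrix.SpecialLinearGroup (Fin 2) F → ℂ}
    (hχ : Cfsg.IsIrrCharacter _ χ) (h2 : χ 1 = 2) (g : Matrix.SpecialLinearGroup (Fin 2) F)
    (ht : (g : Matrix (Fin 2) (Fin 2) F).trace = 0) : χ g = 0 := by
  classical
  have hodd : Odd (Fintype.card F) := by rw [hq3]; decide
  have h3F : (3 : F) = 0 := by
    have := Nat.cast_card_eq_zero F
    rw [hq3] at this
    exact_mod_cast this
  have h4F : (4 : F) ≠ 0 := by
    have : (4 : F) = 1 := by linear_combination h3F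
    rw [this]; exact one_ne_zero
  have htz : ((zS * g : Matrix.SpecialLinearGroup (Fin 2) F) :
      Matrix (Fin 2) (Fin 2) F).trace = 0 := by
    rw [Matrix.trace_fin_two] at ht ⊢
    simp only [zS, Matrix.SpecialLinearGroup.coe_mul, SL2c.smk_coe, Matrix.mul_apply,
      Fin.sum_univ_two]
    simp
    linear_combination -ht
  have hconj : IsConj g (zS * g) := stable hodd g (zS * g) (by rw [ht, htz]) (by
    rw [ht]; intro h; apply h4F; rw [← h]; ring)
  have hcl := IsCharacter.isClassFunction (IsIrrCharacter.isCharacter hχ)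
  have h5 := zS_mul hχ g
  rw [← IsClassFunction.of_isConj hcl hconj] at h5
  by_cases hz : χ zS = χ 1
  · exfalso
    haveI := finite_irrCharacter (G := Matrix.SpecialLinearGroup (Fin 2) F)
    haveI : Fintype (Cfsg.IrrCharacter (Matrix.SpecialLinearGroup (Fin 2) F)) :=
      Fintype.ofFinite _
    have hz1 : (zS : Matrix.SpecialLinearGroup (Fin 2) F) ≠ 1 := by
      intro h
      have h6 := congrArg (fun s : Matrix.SpecialLinearGroup (Fin 2) F =>
        (s : Matrix (Fin 2) (Fin 2) F) 0 0) h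
      simp [zS, SL2c.smk_coe] at h6
      have h7 : (2 : F) = 0 := by linear_combination -h6
      exact Cfsg.Agent.Lib.Helper14.SL2.two_ne_zero_of_odd (Nat.odd_iff.1 hodd) h7
    have s1 := sum_irr_one_mul (G := Matrix.SpecialLinearGroup (Fin 2) F) 1
    have s2 := sum_irr_one_mul (G := Matrix.SpecialLinearGroup (Fin 2) F) zS
    rw [if_pos rfl, SL2c.card_sl2, hq3] at s1
    rw [if_neg hz1] at s2
    set r : Cfsg.IrrCharacter (Matrix.SpecialLinearGroup (Fin 2) F) → ℝ := fun θ =>
      ((θ : Matrix.SpecialLinearGroup (Fin 2) F → ℂ) 1 *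
        ((θ : Matrix.SpecialLinearGroup (Fin 2) F → ℂ) 1 +
          (θ : Matrix.SpecialLinearGroup (Fin 2) F → ℂ) zS)).re with hr
    have hsum : ∑ θ, r θ = 24 := by
      have h6 : ∑ θ : Cfsg.IrrCharacter (Matrix.SpecialLinearGroup (Fin 2) F),
          ((θ : Matrix.SpecialLinearGroup (Fin 2) F → ℂ) 1 *
          ((θ : Matrix.SpecialLinearGroup (Fin 2) F → ℂ) 1 +
            (θ : Matrix.SpecialLinearGroup (Fin 2) F → ℂ) zS)) = 24 := by
        simp only [mul_add, Finset.sum_add_distrib]
        rw [s1, s2]; norm_num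
      have h7 := congrArg Complex.re h6
      rw [Complex.re_sum] at h7
      have h8 : (24 : ℂ).re = 24 := by norm_num
      rw [h8] at h7
      exact h7
    have hnn : ∀ θ, 0 ≤ r θ := by
      intro θ
      obtain ⟨d, _, hd⟩ := IsIrrCharacter.apply_one_pos θ.2
      have h6 := Cfsg.Agent.Lib.Helper7.char_norm_le (IsIrrCharacter.isCharacter θ.2) zS
      have h7 := Complex.abs_re_le_norm ((θ : Matrix.SpecialLinearGroup (Fin 2) F → ℂ) zS)
      simp only [hr]
      rw [hd] at h6 ⊢
      simp only [Complex.natCast_re] at h6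
      have h8 : ((d : ℂ) * ((d : ℂ) + (θ : Matrix.SpecialLinearGroup (Fin 2) F → ℂ) zS)).re =
          (d : ℝ) * ((d : ℝ) + ((θ : Matrix.SpecialLinearGroup (Fin 2) F → ℂ) zS).re) := by
        simp [Complex.mul_re, Complex.add_re]
      rw [h8]
      have h9 := abs_le.1 (h7.trans h6)
      exact mul_nonneg (Nat.cast_nonneg d) (by linarith [h9.1])
    have hSt : Cfsg.IsIrrCharacter _ (res (St (1 : MulChar F ℂ))) :=
      isIrrCharacter_of_norm_one (res_isCharacter (St_isCharacter 1))
        (nn_eq_one_of_odd (St_irr 1) _ (St_one 1) hodd)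
    have hSt1 : res (St (1 : MulChar F ℂ)) 1 = 3 := by
      rw [res_one, St_one, hq3]; norm_num
    have hStz : res (St (1 : MulChar F ℂ)) zS = 3 := by
      rw [res, toGL_zS, St, Pi.sub_apply, II_scalar, dl_apply, bmk_coe, hq3,
        MulChar.one_apply_coe]
      simp [Matrix.det_fin_two]
    set a : Cfsg.IrrCharacter (Matrix.SpecialLinearGroup (Fin 2) F) :=
      ⟨fun _ => 1, IsIrrCharacter.one⟩ with ha
    set b : Cfsg.IrrCharacter (Matrix.SpecialLinearGroup (Fin 2) F) :=
      ⟨res (St (1 : MulChar F ℂ)), hSt⟩ with hb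
    set c : Cfsg.IrrCharacter (Matrix.SpecialLinearGroup (Fin 2) F) := ⟨χ, hχ⟩ with hc
    have hab : a ≠ b := by
      intro h
      have h6 := congrArg (fun θ : Cfsg.IrrCharacter (Matrix.SpecialLinearGroup (Fin 2) F) =>
        (θ : Matrix.SpecialLinearGroup (Fin 2) F → ℂ) 1) h
      simp only [ha, hb, hSt1] at h6
      norm_num at h6
    have hac : a ≠ c := by
      intro h
      have h6 := congrArg (fun θ : Cfsg.IrrCharacter (Matrix.SpecialLinearGroup (Fin 2) F) =>
        (θ : Matrix.SpecialLinearGroup (Fin 2) F → ℂ) 1) h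
      simp only [ha, hc, h2] at h6
      norm_num at h6
    have hbc : b ≠ c := by
      intro h
      have h6 := congrArg (fun θ : Cfsg.IrrCharacter (Matrix.SpecialLinearGroup (Fin 2) F) =>
        (θ : Matrix.SpecialLinearGroup (Fin 2) F → ℂ) 1) h
      simp only [hb, hc, h2, hSt1] at h6
      norm_num at h6
    have hra : r a = 2 := by
      simp only [hr, ha]; norm_num
    have hrb : r b = 18 := by
      simp only [hr, hb, hSt1, hStz]; norm_num
    have hrc : r c = 8 := by
      simp only [hr, hc, hz, h2]; norm_num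
    have hle := Finset.sum_le_univ_sum_of_nonneg (s := ({a, b, c} : Finset _)) hnn
    rw [Finset.sum_insert (by simp [hab, hac]), Finset.sum_insert (by simp [hbc]),
      Finset.sum_singleton, hra, hrb, hrc, hsum] at hle
    norm_num at hle
  · have h6 : χ g * (χ 1 - χ zS) = 0 := by linear_combination h5
    rcases mul_eq_zero.1 h6 with h | h
    · exact h
    · exact absurd (sub_eq_zero.1 h).symm hz

end Cfsg.Agent.Lib.Helper2.SL2r
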